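import Cfsg.Agent.Lib.Bender.TwoClosed.Basic
import Cfsg.Prelude.Def_LieRecognition

/-!
The set-up for the fusion lemma B1: every involution fixes exactly one point.

Blueprint: `blueprint/bender/A6.md`, section 0.
-/

set_option autoImplicit false
set_option linter.unusedSectionVars false
set_option linter.style.haveILetI false
set_option linter.unusedVariables false

namespace CfsgLib.Bender.B1

open MulAction CfsgLib.SuzukiRankOne
open CfsgLib.Bender.TwoClosed (IsInv InvAt Swap two mem_two smul_conj exists_inv_of_even odd_card_of_forall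
  odd_orderOf eq_one_of_inv_eq)

universe u v

variable {G : Type u} {Ω : Type v} [Group G] [MulAction G Ω]

/-- A rank one set-up with a `2`-group `Q` at every point: the conclusion of Bender's theorem. -/
def Good (G : Type u) (Ω : Type v) [Group G] [MulAction G Ω] : Prop :=
  ∀ a : Ω, ∃ (t : G) (Q : Subgroup G), Cfsg.IsRankOneSetup G Ω a t Q ∧ IsPGroup 2 Q

/-- The induction hypothesis: Bender's theorem for groups smaller than `n`. -/
def Below (n : ℕ) : Prop :=
  ∀ (K Δ : Type u) [Group K] [Finite K] [MulAction K Δ] [FaithfulSMul K Δ],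
    OneFix K Δ → Nat.card K < n → Good K Δ

theorem four_conj {x y g : G} (h : x * y = y * x) : (g * x * g⁻¹) * (g * y * g⁻¹) = (g * y * g⁻¹) * (g * x * g⁻¹) := by
  rw [conj_mul, h, conj_mul]

variable (hC : OneFix G Ω)
include hC

theorem eq_of_fix {x : G} (hx : IsInv x) {c d : Ω} (hc : x • c = c) (hd : x • d = d) : c = d :=
  (hC.one_fix x hx).unique hc hd

theorem exists_fix {x : G} (hx : IsInv x) : ∃ c : Ω, x • c = c := (hC.one_fix x hx).exists

theorem commute_fix {x g : G} (hx : IsInv x) {c : Ω} (hc : x • c = c) (h : g * x = x * g) : g • c = c :=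
  eq_of_fix hC hx (by rw [← mul_smul, ← h, mul_smul, hc]) hc

/-- An element commuting with an involution as far as `Ω` sees it fixes its point. -/
theorem fix_of_fixed {x g : G} (hx : IsInv x) {c : Ω} (hc : x • c = c) (h : x * g * x = g) : g • c = c :=
  commute_fix hC hx hc (by
    calc g * x = x * g * x * x := by rw [h]
      _ = x * g := by rw [mul_assoc, hx.2, mul_one])

theorem exists_commuting_at (c : Ω) :
    ∃ x y : G, IsInv x ∧ x • c = c ∧ IsInv y ∧ y • c = c ∧ x ≠ y ∧ x * y = y * x := by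
  haveI := hC.trans
  obtain ⟨x, y, hx, hy, hne, hx2, hy2, hxy⟩ := hC.four
  obtain ⟨d, hd⟩ := exists_fix hC ⟨hx, hx2⟩
  have hyd : y • d = d := commute_fix hC ⟨hx, hx2⟩ hd hxy.symm
  obtain ⟨g, rfl⟩ := exists_smul_eq G d c
  exact ⟨g * x * g⁻¹, g * y * g⁻¹, IsInv.conj ⟨hx, hx2⟩ g, smul_conj hd, IsInv.conj ⟨hy, hy2⟩ g,
    smul_conj hyd, fun e => hne (mul_left_cancel (mul_right_cancel e)), four_conj hxy⟩

theorem exists_inv_at (c : Ω) : ∃ x : G, IsInv x ∧ x • c = c := by
  obtain ⟨x, -, hx, hxc, -⟩ := exists_commuting_at hC c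
  exact ⟨x, hx, hxc⟩

variable [Finite G]

theorem odd_two {c d : Ω} (hne : c ≠ d) : Odd (Nat.card (two c d : Subgroup G)) :=
  odd_card_of_forall fun _ hx hi => hne (eq_of_fix hC hi (mem_two.mp hx).1 (mem_two.mp hx).2)

theorem odd_of_fix_two {x : G} {c d : Ω} (hne : c ≠ d) (hc : x • c = c) (hd : x • d = d) : Odd (orderOf x) :=
  odd_orderOf (odd_two hC hne) (mem_two.mpr ⟨hc, hd⟩)

theorem odd_mul {i j : G} {c d : Ω} (hi : IsInv i) (hc : i • c = c) (hj : IsInv j) (hd : j • d = d)
    (hne : c ≠ d) : Odd (orderOf (i * j)) := by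
  by_contra hodd
  rw [Nat.not_odd_iff_even] at hodd
  obtain ⟨h1, h2⟩ := CfsgLib.Involutions.central_half hi.2 hj.2 hodd
  obtain ⟨hz2, hz1⟩ := CfsgLib.Involutions.orderOf_eq_two_iff'.mp (CfsgLib.Involutions.orderOf_half hodd)
  obtain ⟨e, he⟩ := exists_fix hC ⟨hz1, hz2⟩
  exact hne ((eq_of_fix hC hi hc (commute_fix hC ⟨hz1, hz2⟩ he h1.eq.symm)).trans
    (eq_of_fix hC hj (commute_fix hC ⟨hz1, hz2⟩ he h2.eq.symm) hd))

theorem swap_points {i j u : G} {c d : Ω} (hi : IsInv i) (hc : i • c = c) (hj : IsInv j) (hd : j • d = d)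
    (hu : IsInv u) (he : u * i * u = j) : u • c = d ∧ u • d = c := by
  have h1 : u • c = d := by
    refine eq_of_fix hC hj ?_ hd
    rw [← he, mul_smul, mul_smul, hu.smul_twice, hc]
  exact ⟨h1, by rw [← h1, hu.smul_twice]⟩

theorem exists_swap_conj {i j : G} {c d : Ω} (hi : IsInv i) (hc : i • c = c) (hj : IsInv j)
    (hd : j • d = d) (hne : c ≠ d) : ∃ u, IsInv u ∧ u * i * u = j ∧ u ∈ Subgroup.closure ({i, j} : Set G) := by
  obtain ⟨l, hl⟩ := odd_mul hC hi hc hj hd hne
  have hpow : (i * j) ^ ((l : ℤ) + l) = j * i := by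
    rw [show (l : ℤ) + l = ((2 * l + 1 : ℕ) : ℤ) + (-1) by push_cast; ring, zpow_add, zpow_natCast, ← hl,
      pow_orderOf_eq_one, one_mul, zpow_neg_one, mul_inv_rev, hi.inv, hj.inv]
  have hcl : (i * j) ^ (l : ℤ) * i ∈ Subgroup.closure ({i, j} : Set G) :=
    mul_mem (zpow_mem (mul_mem (Subgroup.subset_closure (Set.mem_insert i {j}))
      (Subgroup.subset_closure (Set.mem_insert_of_mem i (Set.mem_singleton j)))) _)
      (Subgroup.subset_closure (Set.mem_insert i {j}))
  have he : (i * j) ^ (l : ℤ) * i * i * ((i * j) ^ (l : ℤ) * i) = j := by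
    rw [mul_assoc _ i i, hi.2, mul_one, ← mul_assoc, ← zpow_add, hpow, mul_assoc, hi.2, mul_one]
  refine ⟨_, ⟨fun e => hne ?_, ?_⟩, he, hcl⟩
  · rw [e, one_mul, mul_one] at he
    subst he
    exact eq_of_fix hC hi hc hd
  · nth_rewrite 2 [CfsgLib.Involutions.zpow_mul_eq hi.2 hj.2]
    rw [← mul_assoc, mul_assoc _ i i, hi.2, mul_one, ← zpow_add, add_neg_cancel, zpow_zero]

theorem exists_swap {c d : Ω} (hne : c ≠ d) : ∃ u : G, IsInv u ∧ u • c = d := by
  obtain ⟨i, hi, hc⟩ := exists_inv_at hC c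
  obtain ⟨j, hj, hd⟩ := exists_inv_at hC d
  obtain ⟨u, hu, he, -⟩ := exists_swap_conj hC hi hc hj hd hne
  exact ⟨u, hu, (swap_points hC hi hc hj hd hu he).1⟩

/-- An odd order element inverted by an involution commutes with no involution whose point that involution moves. -/
theorem inverted_commute {x u y : G} (hu : IsInv u) (hx : IsInv x) (hy : Odd (orderOf y))
    (hinv : u * y * u = y⁻¹) (hxy : y * x = x * y) {c : Ω} (hxc : x • c = c) (hne : u • c ≠ c) : y = 1 := by
  obtain ⟨e, he⟩ := exists_fix hC hu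
  have hodd := odd_mul hC hu he hx hxc (fun h => hne (h ▸ he))
  have h2 : (u * x) * y * (u * x)⁻¹ = y⁻¹ := by
    rw [mul_inv_rev, hu.inv, hx.inv, ← hinv]
    calc u * x * y * (x * u) = u * (x * y) * x * u := by group
      _ = u * (y * x) * x * u := by rw [hxy]
      _ = u * y * (x * x) * u := by group
      _ = u * y * u := by rw [hx.2, mul_one]
  obtain ⟨n, hn⟩ := CfsgLib.Involutions.exists_sqrt hodd
  have h3 : ((u * x) * (u * x)) * y * ((u * x) * (u * x))⁻¹ = y := by
    calc ((u * x) * (u * x)) * y * ((u * x) * (u * x))⁻¹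
        = (u * x) * ((u * x) * y * (u * x)⁻¹) * (u * x)⁻¹ := by group
      _ = ((u * x) * y * (u * x)⁻¹)⁻¹ := by
          conv_lhs => rw [h2]
          group
      _ = y := by rw [h2, inv_inv]
  have h4 : Commute ((u * x) * (u * x)) y := mul_inv_eq_iff_eq_mul.mp h3
  have h5 : Commute (u * x) y := by
    have := h4.pow_left n
    rwa [(Commute.refl (u * x)).mul_pow, hn] at this
  refine eq_one_of_inv_eq ?_ hy
  rw [← h2, h5.eq, mul_inv_cancel_right]

theorem swap_unique {i u u' : G} {c d : Ω} (hi : IsInv i) (hc : i • c = c) (hne : c ≠ d) (hu : IsInv u)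
    (hu' : IsInv u') (hj : (u * i * u) • d = d) (he : u' * i * u' = u * i * u) : u' = u := by
  have hji : IsInv (u * i * u) := by have := hi.conj u; rwa [hu.inv] at this
  obtain ⟨h1, h2⟩ := swap_points hC hi hc hji hj hu rfl
  obtain ⟨h3, h4⟩ := swap_points hC hi hc hji hj hu' he
  have hd : u' * u ∈ two c d := mem_two.mpr ⟨by rw [mul_smul, h1, h4], by rw [mul_smul, h2, h3]⟩
  have hcomm : (u' * u) * i = i * (u' * u) := by
    calc (u' * u) * i = u' * (u * i * u) * u := by simp [mul_assoc, hu.2]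
      _ = u' * (u' * i * u') * u := by rw [he]
      _ = i * (u' * u) := by simp [← mul_assoc, hu'.2]
  have hinv : u * (u' * u) * u = (u' * u)⁻¹ := by
    rw [mul_inv_rev, hu.inv, hu'.inv, mul_assoc, mul_assoc u' u u, hu.2, mul_one]
  have := inverted_commute hC hu hi (odd_orderOf (odd_two hC hne) hd) hinv hcomm hc
    (by rw [h1]; exact hne.symm)
  rw [mul_eq_one_iff_eq_inv, hu.inv] at this
  exact this

theorem exists_conj_stab {i i' : G} {c : Ω} (hi : IsInv i) (hc : i • c = c) (hi' : IsInv i')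
    (hc' : i' • c = c) {d : Ω} (hne : c ≠ d) : ∃ g ∈ two c d, g * i * g⁻¹ = i' := by
  obtain ⟨j, hj, hd⟩ := exists_inv_at hC d
  obtain ⟨u, hu, he, -⟩ := exists_swap_conj hC hi hc hj hd hne
  obtain ⟨u', hu', he', -⟩ := exists_swap_conj hC hi' hc' hj hd hne
  obtain ⟨h1, h2⟩ := swap_points hC hi hc hj hd hu he
  obtain ⟨h3, h4⟩ := swap_points hC hi' hc' hj hd hu' he'
  refine ⟨u' * u, mem_two.mpr ⟨by rw [mul_smul, h1, h4], by rw [mul_smul, h2, h3]⟩, ?_⟩
  rw [mul_inv_rev, hu.inv, hu'.inv]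
  calc u' * u * i * (u * u') = u' * (u * i * u) * u' := by group
    _ = u' * (u' * i' * u') * u' := by rw [he, he']
    _ = i' := by simp [← mul_assoc, hu'.2, mul_assoc i']

theorem card_invAt_eq (c d : Ω) : Nat.card (InvAt G c) = Nat.card (InvAt G d) := by
  haveI := hC.trans
  obtain ⟨g, rfl⟩ := exists_smul_eq G d c
  exact Nat.card_congr
    { toFun := fun x => ⟨g⁻¹ * x * g, by simpa using x.2.1.conj g⁻¹, by
        rw [mul_smul, mul_smul, x.2.2, inv_smul_smul]⟩
      invFun := fun x => ⟨g * x * g⁻¹, x.2.1.conj g, smul_conj x.2.2⟩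
      left_inv := fun x => Subtype.ext (by simp [mul_assoc])
      right_inv := fun x => Subtype.ext (by simp [mul_assoc]) }

/-- There are as many swappers of a pair as involutions at a point. -/
theorem card_swap {a b : Ω} (hb : b ≠ a) : Nat.card (Swap G a b) = Nat.card (InvAt G a) := by
  obtain ⟨i, hi, hia⟩ := exists_inv_at hC a
  rw [card_invAt_eq hC a b]
  have hback : ∀ u : Swap G a b, (u : G) • b = a := fun u =>
    (congrArg ((u : G) • ·) u.2.2.symm).trans (u.2.1.smul_twice a)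
  refine Nat.card_eq_of_bijective (fun u : Swap G a b => (⟨u.1 * i * u.1, ?_, ?_⟩ : InvAt G b)) ⟨?_, ?_⟩
  · have := hi.conj u.1
    rwa [u.2.1.inv] at this
  · rw [mul_smul, mul_smul, hback u, hia, u.2.2]
  · intro u u' h
    have h' : u.1 * i * u.1 = u'.1 * i * u'.1 := congrArg Subtype.val h
    refine Subtype.ext (swap_unique hC hi hia hb.symm u'.2.1 u.2.1 ?_ h')
    rw [mul_smul, mul_smul, hback u', hia, u'.2.2]
  · rintro ⟨j, hj, hjb⟩
    obtain ⟨u, hu, he, -⟩ := exists_swap_conj hC hi hia hj hjb hb.symm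
    exact ⟨⟨u, hu, (swap_points hC hi hia hj hjb hu he).1⟩, Subtype.ext he⟩

/-- A pair stabiliser does not fix the centre of a swapper. -/
theorem exists_moves {a b g : Ω} {u : G} (hu : IsInv u) (hg : u • g = g) (ha : u • a = b) (hne : b ≠ a) :
    ∃ x ∈ (two a b : Subgroup G), x • g ≠ g := by
  by_contra h
  push Not at h
  let f : Swap G a b → InvAt G g := fun w => ⟨w.1, w.2.1, by
    have hwb : (w : G) • b = a := (congrArg ((w : G) • ·) w.2.2.symm).trans (w.2.1.smul_twice a)
    have hd : (w : G) * u ∈ (two a b : Subgroup G) := mem_two.mpr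
      ⟨by rw [mul_smul, ha]; exact hwb,
       by rw [mul_smul, show u • b = a by rw [← ha, hu.smul_twice]]; exact w.2.2⟩
    have := h _ hd
    rwa [mul_smul, hg] at this⟩
  have hf : Function.Injective f := fun w w' e => Subtype.ext (congrArg (fun z : InvAt G g => z.1) e)
  have hb := (Nat.bijective_iff_injective_and_card f).mpr
    ⟨hf, (card_swap hC hne).trans (card_invAt_eq hC a g)⟩
  obtain ⟨x, y, hx, hxg, hy, hyg, hxy, hcom⟩ := exists_commuting_at hC g
  obtain ⟨w, hw⟩ := hb.2 ⟨x, hx, hxg⟩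
  obtain ⟨w', hw'⟩ := hb.2 ⟨y, hy, hyg⟩
  have hwx : (w : G) = x := congrArg Subtype.val hw
  have hwy : (w' : G) = y := congrArg Subtype.val hw'
  have hxa : x • a = b := hwx ▸ w.2.2
  have hya : y • a = b := hwy ▸ w'.2.2
  have hga : g ≠ a := fun e => hne (by rw [← ha, ← e, hg])
  refine hga (eq_of_fix hC (x := x * y) ⟨fun e => hxy ?_, ?_⟩ ?_ ?_)
  · rw [mul_eq_one_iff_eq_inv, hy.inv] at e
    exact e
  · calc x * y * (x * y) = x * (y * x) * y := by group
      _ = x * (x * y) * y := by rw [hcom]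
      _ = 1 := by rw [← mul_assoc, hx.2, one_mul, hy.2]
  · rw [mul_smul, hyg, hxg]
  · rw [mul_smul, hya, ← hxa, hx.smul_twice]

/-- A subgroup fixing a point and normalised by a transitive group fixes everything. -/
theorem eq_bot_of_normal [FaithfulSMul G Ω] {N : Subgroup G} [N.Normal] {a : Ω}
    (hfix : ∀ x ∈ N, x • a = a) : N = ⊥ := by
  haveI := hC.trans
  refine (Subgroup.eq_bot_iff_forall _).mpr fun x hx => eq_of_smul_eq_smul (α := Ω) fun c => ?_
  obtain ⟨g, rfl⟩ := exists_smul_eq G a c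
  have := hfix _ (by simpa using Subgroup.Normal.conj_mem ‹_› x hx g⁻¹ : g⁻¹ * x * g ∈ N)
  rw [mul_smul, mul_smul, inv_smul_eq_iff] at this
  rw [this, one_smul]

end CfsgLib.Bender.B1
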