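import Cfsg.Agent.Lib.Bender.B1.Top

/-!
The choice of a circle or oval whose pointwise stabiliser carries as many inverted elements as possible.

Blueprint: `blueprint/bender/A6.md`, case 2, choice and Q1.
-/

set_option autoImplicit false
set_option linter.unusedSectionVars false
set_option linter.style.haveILetI false
set_option linter.unusedVariables false

namespace CfsgLib.Bender.B1

open MulAction Cfsg CfsgLib.SuzukiRankOne
open CfsgLib.Bender.TwoClosed (IsInv IsInv.inv IsInv.conj IsInv.smul_twice InvAt two mem_two smul_conj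
  odd_orderOf eq_one_of_inv_eq eq_one_of_two_odd)

universe u

variable {G : Type u} {Ω : Type u} [Group G] [MulAction G Ω]

/-- A top with at least `e` inverted elements in its kernel for each of its involutions. -/
structure Carries (Ω : Type u) [MulAction G Ω] (e : ℕ) (X : Subgroup G) : Prop where
  top : IsTop Ω X
  ker : ∀ i ∈ X, IsInv i → e ≤ (kerBad Ω X i).ncard

/-- The pointwise stabiliser of a set of points. -/
def fixer (G : Type u) [Group G] [MulAction G Ω] (Θ : Set Ω) : Subgroup G := ⨅ c ∈ Θ, stabilizer G c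

theorem mem_fixer {Θ : Set Ω} {x : G} : x ∈ fixer G Θ ↔ ∀ c ∈ Θ, x • c = c := by
  simp [fixer, Subgroup.mem_iInf]

/-- The setwise stabiliser of a set of points. -/
def setStab (G : Type u) [Group G] [MulAction G Ω] (Θ : Set Ω) : Subgroup G where
  carrier := {x | ∀ c, x • c ∈ Θ ↔ c ∈ Θ}
  one_mem' := fun c => by rw [one_smul]
  mul_mem' := fun {x y} hx hy c => by rw [mul_smul, hx, hy]
  inv_mem' := fun {x} hx c => by rw [← hx, smul_inv_smul]

theorem mem_setStab_of_maps [Finite Ω] {Θ : Set Ω} {x : G} (h : ∀ c ∈ Θ, x • c ∈ Θ) : x ∈ setStab G Θ := by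
  intro c
  refine ⟨fun hc => ?_, h c⟩
  have himg : (x • ·) '' Θ = Θ := Set.eq_of_subset_of_ncard_le (fun _ ⟨d, hd, he⟩ => he ▸ h d hd)
    (by rw [Set.ncard_image_of_injective _ (MulAction.injective x)]) (Set.toFinite _)
  rw [← himg] at hc
  obtain ⟨d, hd, he⟩ := hc
  exact smul_left_cancel x he ▸ hd

theorem fixer_le_setStab [Finite Ω] {Θ : Set Ω} : fixer G Θ ≤ setStab G Θ := fun x hx =>
  mem_setStab_of_maps fun c hc => by rwa [mem_fixer.mp hx c hc]

theorem setStab_le_normalizer {Θ : Set Ω} : setStab G Θ ≤ Subgroup.normalizer (fixer G Θ : Set G) := by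
  have key : ∀ x ∈ setStab G Θ, ∀ k ∈ fixer G Θ, x * k * x⁻¹ ∈ fixer G Θ := fun x hx k hk =>
    mem_fixer.mpr fun c hc => by
      rw [mul_smul, mul_smul, mem_fixer.mp hk _ ((hx (x⁻¹ • c)).mp (by rwa [smul_inv_smul])), smul_inv_smul]
  intro x hx
  refine Subgroup.mem_normalizer_iff.mpr fun k => ⟨key x hx k, fun h => ?_⟩
  simpa [mul_assoc] using key x⁻¹ (inv_mem hx) _ h

/-- The chosen circle or oval, as the set stabiliser with these centres. -/
structure Chosen (Ω : Type u) [MulAction G Ω] (e : ℕ) (M : Subgroup G) : Prop where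
  carries : Carries Ω e M
  stable : ∀ x : G, (∀ c ∈ centres Ω M, x • c ∈ centres Ω M) → x ∈ M
  maxq : ∀ X : Subgroup G, Carries Ω e X → qTop Ω X ≤ qTop Ω M
  shape : Nat.card (centres Ω M) = qTop Ω M + 1 ∨ (Nat.card (centres Ω M) = qTop Ω M ^ 2 + 1 ∧
    ∀ X : Subgroup G, Carries Ω e X → qTop Ω X = qTop Ω M → Nat.card (centres Ω X) = qTop Ω M ^ 2 + 1 ∧
      (fixer G (centres Ω M) ≤ fixer G (centres Ω X) → fixer G (centres Ω X) = fixer G (centres Ω M)))

variable [Finite G] (hC : OneFix G Ω) {e : ℕ}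
include hC

theorem carries_of_one {X : Subgroup G} (hT : IsTop Ω X) {i : G} (hiX : i ∈ X) (hi : IsInv i)
    (h : e ≤ (kerBad Ω X i).ncard) : Carries Ω e X := by
  refine ⟨hT, fun j hjX hj => h.trans ?_⟩
  obtain ⟨x, hxX, rfl⟩ := invol_conj_top hC hT hiX hi hjX hj
  refine le_trans (le_of_eq ?_) (Set.ncard_le_ncard (s := (fun k => x * k * x⁻¹) '' kerBad Ω X i) ?_ (Set.toFinite _))
  · exact (Set.ncard_image_of_injective _ fun k k' h => mul_left_cancel (mul_right_cancel h)).symm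
  · rintro _ ⟨k, ⟨hkX, hki, hkc⟩, rfl⟩
    refine ⟨mul_mem (mul_mem hxX hkX) (inv_mem hxX), ?_, fun c hc => ?_⟩
    · calc x * i * x⁻¹ * (x * k * x⁻¹) * (x * i * x⁻¹) = x * (i * k * i) * x⁻¹ := by group
        _ = (x * k * x⁻¹)⁻¹ := by rw [hki]; group
    · rw [mul_smul, mul_smul, hkc _ (centres_smul (inv_mem hxX) hc), smul_inv_smul]

theorem four_at {X : Subgroup G} (hT : IsTop Ω X) {a : Ω} (ha : a ∈ centres Ω X) :
    ∃ v ∈ X, ∃ w ∈ X, IsInv v ∧ v • a = a ∧ IsInv w ∧ w • a = a ∧ v ≠ w ∧ v * w = w * v := by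
  obtain ⟨x, hx, y, hy, hxi, hyi, hne, hcom⟩ := hT.four
  obtain ⟨i, hiX, hi, hia⟩ := ha
  obtain ⟨z, hz, hzx⟩ := invol_conj_top hC hT hx hxi hiX hi
  refine ⟨i, hiX, z * y * z⁻¹, mul_mem (mul_mem hz hy) (inv_mem hz), hi, hia, hyi.conj z, ?_, ?_, ?_⟩
  · refine commute_fix hC hi hia ?_
    rw [← hzx, four_conj hcom]
  · exact fun e => hne (mul_left_cancel (mul_right_cancel (hzx.trans e)))
  · rw [← hzx, four_conj hcom]

theorem ker_subset_fixer {X : Subgroup G} {i : G} : kerBad Ω X i ⊆ fixer G (centres Ω X) := fun x hx =>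
  mem_fixer.mpr hx.2.2

theorem fixer_centres_odd {X : Subgroup G} (hT : IsTop Ω X) : Odd (Nat.card (fixer G (centres Ω X))) := by
  obtain ⟨g, c, hg, hc, hne⟩ := hT.two
  exact (odd_two hC hne).of_dvd_nat (Subgroup.card_dvd_of_le fun x hx =>
    mem_two.mpr ⟨mem_fixer.mp hx c hc, mem_fixer.mp hx g hg⟩)

variable [FaithfulSMul G Ω]

/-- An odd invariant set of centres stabilised by the involutions at its points. -/
theorem carries_setStab (he : 1 < e) {X : Subgroup G} (hX : Carries Ω e X) {Θ : Set Ω} (hΘ : Θ ⊆ centres Ω X)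
    (hodd : Odd (Nat.card Θ)) {a b : Ω} (ha : a ∈ Θ) (hb : b ∈ Θ) (hne : b ≠ a)
    (hst : ∀ i ∈ X, IsInv i → ∀ d ∈ Θ, i • d = d → i ∈ setStab G Θ) :
    centres Ω (setStab G Θ) = Θ ∧ Carries Ω e (setStab G Θ) := by
  haveI := finite_omega hC
  set M := setStab G Θ
  have hcen : centres Ω M = Θ := by
    refine Set.Subset.antisymm ?_ fun c hc => ?_
    · rintro c ⟨i, hiM, hi, hic⟩
      classical
      haveI := Fintype.ofFinite Θ
      haveI : Fact (Nat.Prime 2) := ⟨Nat.prime_two⟩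
      let σ : Equiv.Perm Θ := Function.Involutive.toPerm (fun d => ⟨i • (d : Ω), (hiM _).mpr d.2⟩)
        (fun d => Subtype.ext (hi.smul_twice (d : Ω)))
      have hcard : ¬ 2 ∣ Fintype.card Θ := by
        rw [← Nat.card_eq_fintype_card]
        exact hodd.not_two_dvd_nat
      obtain ⟨d, hd⟩ := Equiv.Perm.exists_fixed_point_of_prime hcard (σ := σ) (n := 1) (by
        rw [pow_one, pow_two]
        exact Equiv.ext fun d => Subtype.ext (hi.smul_twice (d : Ω)))
      rw [eq_of_fix hC hi hic (congrArg Subtype.val hd)]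
      exact d.2
    · obtain ⟨i, hiX, hi, hic⟩ := hΘ hc
      exact ⟨i, hst i hiX hi c hc hic, hi, hic⟩
  obtain ⟨v, hvX, w, hwX, hv, hva, hw, hwa, hvw, hcom⟩ := four_at hC hX.top (hΘ ha)
  have hvM := hst v hvX hv a ha hva
  have hT : IsTop Ω M := by
    refine ⟨fun htop => ?_, ⟨v, hvM, w, hst w hwX hw a ha hwa, hv, hw, hvw, hcom⟩,
      ⟨a, b, hcen.symm ▸ ha, hcen.symm ▸ hb, hne⟩⟩
    haveI := hC.trans
    have huniv : ∀ c : Ω, c ∈ Θ := fun c => by
      obtain ⟨g, rfl⟩ := exists_smul_eq G a c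
      exact ((htop.symm ▸ Subgroup.mem_top g : g ∈ M) a).mpr ha
    have hsub : kerBad Ω X v ⊆ {1} := fun x hx => Set.mem_singleton_iff.mpr
      (eq_of_smul_eq_smul (α := Ω) fun c => by rw [one_smul]; exact hx.2.2 c (hΘ (huniv c)))
    have h1 := (hX.ker v hvX hv).trans (Set.ncard_le_ncard hsub)
    rw [Set.ncard_singleton] at h1
    omega
  refine ⟨hcen, carries_of_one hC hT hvM hv ((hX.ker v hvX hv).trans (Set.ncard_le_ncard ?_ (Set.toFinite _)))⟩
  rintro x ⟨-, hxv, hxc⟩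
  exact ⟨fixer_le_setStab (mem_fixer.mpr fun c hc => hxc c (hΘ hc)), hxv, fun c hc => hxc c (hΘ (hcen ▸ hc))⟩

theorem circ_eq_of_mem {X : Subgroup G} (hT : IsTop Ω X) (hB : Below.{u} (Nat.card G)) {a b c : Ω}
    (ha : a ∈ centres Ω X) (hb : b ∈ centres Ω X) (hne : b ≠ a) (hc : c ∈ circ X a b) (hca : c ≠ a) :
    circ X a c = circ X a b := by
  haveI := finite_omega hC
  have hcX := circ_subset hC hT ha hb hc
  refine Set.eq_of_subset_of_ncard_le ?_ (le_of_eq ?_) (Set.toFinite _)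
  · rintro d (rfl | rfl | ⟨i, hiX, hi, hia, rfl⟩)
    · exact Or.inl rfl
    · exact hc
    · exact smul_circ_invol hC hT hB ha hb hne hiX hi hia hc
  · rw [← Nat.card_coe_set_eq, ← Nat.card_coe_set_eq, card_circ hC hT hB ha hb hne,
      card_circ hC hT hB ha hcX hca]

theorem even_qTop {X : Subgroup G} (hT : IsTop Ω X) (hB : Below.{u} (Nat.card G)) :
    Even (qTop Ω X) ∧ 4 ≤ qTop Ω X := by
  obtain ⟨f, hf2, hf⟩ := qTop_two_pow hC hT hB
  rw [hf]
  exact ⟨even_two.pow_of_ne_zero (by omega),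
    le_trans (by norm_num) (Nat.pow_le_pow_right (by norm_num : 1 ≤ 2) hf2)⟩

/-- A member which is not of Suzuki type gives one whose centres form a circle. -/
theorem exists_circle_member (hB : Below.{u} (Nat.card G)) (he : 1 < e) {X : Subgroup G} (hX : Carries Ω e X)
    (hq : Nat.card (centres Ω X) ≠ qTop Ω X ^ 2 + 1) :
    ∃ M : Subgroup G, Carries Ω e M ∧ qTop Ω X ≤ qTop Ω M ∧ Nat.card (centres Ω M) = qTop Ω X + 1 ∧
      ∀ x : G, (∀ c ∈ centres Ω M, x • c ∈ centres Ω M) → x ∈ M := by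
  haveI := finite_omega hC
  obtain ⟨a, b, ha, hb, hne⟩ := hX.top.two
  set Θ := circ X a b
  have haΘ : a ∈ Θ := Or.inl rfl
  have hbΘ : b ∈ Θ := Or.inr (Or.inl rfl)
  have hΘX : Θ ⊆ centres Ω X := circ_subset hC hX.top ha hb
  have hcard : Nat.card Θ = qTop Ω X + 1 := card_circ hC hX.top hB ha hb hne
  have hst : ∀ i ∈ X, IsInv i → ∀ d ∈ Θ, i • d = d → i ∈ setStab G Θ := by
    intro i hiX hi d hd hid
    have hata : ∀ j ∈ X, IsInv j → j • a = a → j ∈ setStab G Θ := fun j hjX hj hja =>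
      mem_setStab_of_maps fun c hc => smul_circ_invol hC hX.top hB ha hb hne hjX hj hja hc
    by_cases hda : d = a
    · exact hata i hiX hi (hda ▸ hid)
    obtain ⟨w, hwX, hw, hwa⟩ := centres_swap hC ha (hΘX hd) (Ne.symm hda)
    have hwS : w ∈ setStab G Θ := mem_setStab_of_maps fun c hc => by
      have heq : circ X a (w • a) = Θ := by rw [hwa]; exact circ_eq_of_mem hC hX.top hB ha hb hne hd hda
      rw [← heq] at hc ⊢
      exact circ_swap hC hX.top hB hq ha hwX hw (hwa ▸ hda) hc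
    have hj : w * i * w ∈ setStab G Θ := by
      refine hata _ (mul_mem (mul_mem hwX hiX) hwX) (by simpa [hw.inv] using hi.conj w) ?_
      rw [mul_smul, mul_smul, hwa, hid, ← hwa, hw.smul_twice]
    have := mul_mem (mul_mem hwS hj) hwS
    rwa [show w * (w * i * w) * w = (w * w) * i * (w * w) by group, hw.2, one_mul, mul_one] at this
  obtain ⟨hcen, hM⟩ := carries_setStab hC he hX hΘX
    (by rw [hcard]; exact (even_qTop hC hX.top hB).1.add_one) haΘ hbΘ hne hst
  refine ⟨setStab G Θ, hM, ?_, by rw [hcen, hcard], fun x hx => ?_⟩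
  · have hsub : Θ ⊆ circ (setStab G Θ) a b := by
      rintro c (rfl | rfl | ⟨i, hiX, hi, hia, rfl⟩)
      · exact Or.inl rfl
      · exact Or.inr (Or.inl rfl)
      · exact Or.inr (Or.inr ⟨i, hst i hiX hi a haΘ hia, hi, hia, rfl⟩)
    have h1 := Set.ncard_le_ncard hsub (Set.toFinite _)
    rw [← Nat.card_coe_set_eq, ← Nat.card_coe_set_eq, hcard,
      card_circ hC hM.top hB (hcen.symm ▸ haΘ) (hcen.symm ▸ hbΘ) hne] at h1
    omega
  · rw [hcen] at hx
    exact mem_setStab_of_maps hx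

theorem exists_chosen (hB : Below.{u} (Nat.card G)) (he : 1 < e) (hL : LMember G Ω e) :
    ∃ M : Subgroup G, Chosen Ω e M := by
  haveI := finite_omega hC
  obtain ⟨X0, u, g, hX0, h4, hu, huX, hug, ⟨c, hc, hcg⟩, hker⟩ := hL
  have hT0 : IsTop Ω X0 := ⟨hX0, h4, g, c, mem_centres huX hu hug, hc, hcg⟩
  have h0 : Carries Ω e X0 := carries_of_one hC hT0 huX hu hker
  obtain ⟨X1, hX1, hmax⟩ := Set.exists_max_image {X : Subgroup G | Carries Ω e X} (qTop Ω) (Set.toFinite _) ⟨X0, h0⟩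
  set q := qTop Ω X1
  by_cases hcirc : ∃ X : Subgroup G, Carries Ω e X ∧ qTop Ω X = q ∧ Nat.card (centres Ω X) ≠ q ^ 2 + 1
  · obtain ⟨X, hX, hXq, hXn⟩ := hcirc
    obtain ⟨M, hM, hle, hcard, hst⟩ := exists_circle_member hC hB he hX (hXq ▸ hXn)
    have hMq : qTop Ω M = q := le_antisymm (hmax M hM) (hXq ▸ hle)
    exact ⟨M, hM, hst, fun Y hY => hMq ▸ hmax Y hY, Or.inl (by rw [hcard, hXq, hMq])⟩
  push Not at hcirc
  obtain ⟨X, ⟨hX, hXq⟩, hbig⟩ := Set.exists_max_image {X : Subgroup G | Carries Ω e X ∧ qTop Ω X = q}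
    (fun X => Nat.card (fixer G (centres Ω X))) (Set.toFinite _) ⟨X1, hX1, rfl⟩
  obtain ⟨a, b, ha, hb, hne⟩ := hX.top.two
  obtain ⟨hev, h4q⟩ := even_qTop hC hX.top hB
  have hodd : Odd (Nat.card (centres Ω X)) := by
    rw [hcirc X hX hXq]
    exact ((hXq ▸ hev).pow_of_ne_zero two_ne_zero).add_one
  obtain ⟨hcen, hM⟩ := carries_setStab hC he hX subset_rfl hodd ha hb hne
    (fun i hiX hi d hd hid => mem_setStab_of_maps (fun c hc => centres_smul hiX hc))
  set M := setStab G (centres Ω X)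
  have hMq : qTop Ω M = q := by
    refine le_antisymm (hmax M hM) (hXq ▸ ?_)
    refine (qTop_le hC hX.top hM.top ha (fun i hiX hi hia => ?_) (by rw [hcen])).1
    exact mem_setStab_of_maps fun c hc => centres_smul hiX hc
  refine ⟨M, hM, fun x hx => mem_setStab_of_maps (hcen ▸ hx), fun Y hY => hMq ▸ hmax Y hY,
    Or.inr ⟨by rw [hcen, hMq, hcirc X hX hXq], fun Y hY hYq => ⟨hMq.symm ▸ hcirc Y hY (hYq.trans hMq), fun hle => ?_⟩⟩⟩
  rw [hcen] at hle ⊢
  exact (Subgroup.eq_of_le_of_card_ge hle (hbig Y ⟨hY, hYq.trans hMq⟩)).symm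

section Chosen

variable (hB : Below.{u} (Nat.card G)) (he : 1 < e) {M : Subgroup G} (hM : Chosen Ω e M)
include hB he hM

theorem fixer_le : fixer G (centres Ω M) ≤ M := fun x hx =>
  hM.stable x fun c hc => by rwa [mem_fixer.mp hx c hc]

omit hB he in
theorem le_normalizer_fixer : M ≤ Subgroup.normalizer (fixer G (centres Ω M) : Set G) := fun x hx =>
  haveI := finite_omega hC
  setStab_le_normalizer (mem_setStab_of_maps (Θ := centres Ω M) (h := fun c hc => centres_smul hx hc))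

/-- A normaliser containing the involutions at `a`, a swapper and the fixer is a member with the same `q`
and contains the circle. -/
theorem normalizer_top {a b : Ω} (ha : a ∈ centres Ω M) (hb : b ∈ centres Ω M) (hne : b ≠ a) {u : G}
    (huM : u ∈ M) (hu : IsInv u) (hua : u • a = b) {Y : Subgroup G} (hY : Y ≠ ⊤) (huY : u ∈ Y)
    (hinv : ∀ i ∈ M, IsInv i → i • a = a → i ∈ Y) (hfix : fixer G (centres Ω M) ≤ Y) :
    Carries Ω e Y ∧ qTop Ω Y = qTop Ω M ∧ circ Y a b = circ M a b := by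
  haveI := finite_omega hC
  obtain ⟨v, hvM, w, hwM, hv, hva, hw, hwa, hvw, hcom⟩ := four_at hC hM.carries.top ha
  have haY : a ∈ centres Ω Y := mem_centres (hinv v hvM hv hva) hv hva
  have hbY : b ∈ centres Ω Y := hua ▸ centres_smul huY haY
  have hT : IsTop Ω Y := ⟨hY, ⟨v, hinv v hvM hv hva, w, hinv w hwM hw hwa, hv, hw, hvw, hcom⟩, a, b, haY, hbY, hne⟩
  obtain ⟨g, hug⟩ := exists_fix hC hu
  have hgM : g ∈ centres Ω M := mem_centres huM hu hug
  have hY' : Carries Ω e Y := by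
    refine carries_of_one hC hT huY hu ((hM.carries.ker u huM hu).trans (Set.ncard_le_ncard ?_ (Set.toFinite _)))
    rintro x ⟨hxM, hxu, hxc⟩
    have hga : a ≠ g := fun e => hne (by rw [← hua, e, hug])
    have hxY := hfix (mem_fixer.mpr hxc)
    exact ⟨hxY, hxu, fun c hc => inverted_fix_centres hC hB hY hT.four hu huY hug ⟨a, haY, hga⟩ hxY
      (hxc g hgM) hxu (odd_of_fix_two hC hga (hxc a ha) (hxc g hgM)) hc⟩
  have hsub : circ M a b ⊆ circ Y a b := by
    rintro c (rfl | rfl | ⟨i, hiM, hi, hia, rfl⟩)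
    · exact Or.inl rfl
    · exact Or.inr (Or.inl rfl)
    · exact Or.inr (Or.inr ⟨i, hinv i hiM hi hia, hi, hia, rfl⟩)
  have h1 := Set.ncard_le_ncard hsub (Set.toFinite _)
  rw [← Nat.card_coe_set_eq, ← Nat.card_coe_set_eq, card_circ hC hM.carries.top hB ha hb hne,
    card_circ hC hT hB haY hbY hne] at h1
  have hq : qTop Ω Y = qTop Ω M := le_antisymm (hM.maxq Y hY') (by omega)
  refine ⟨hY', hq, (Set.eq_of_subset_of_ncard_le hsub ?_ (Set.toFinite _)).symm⟩
  rw [← Nat.card_coe_set_eq, ← Nat.card_coe_set_eq, card_circ hC hM.carries.top hB ha hb hne,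
    card_circ hC hT hB haY hbY hne, hq]

/-- Q1: two-point stabilisers only normalise the invariant subgroups of the fixer inside the chosen stabiliser. -/
theorem normalizer_inf_two_le {a b : Ω} (ha : a ∈ centres Ω M) (hb : b ∈ centres Ω M) (hne : b ≠ a) {u : G}
    (huM : u ∈ M) (hu : IsInv u) (hua : u • a = b) {Z : Subgroup G} (hZ : Z ≠ ⊥)
    (hZK : Z ≤ fixer G (centres Ω M)) (huZ : u ∈ Subgroup.normalizer (Z : Set G))
    (hinv : ∀ i ∈ M, IsInv i → i • a = a → i ∈ Subgroup.normalizer (Z : Set G))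
    (hfix : fixer G (centres Ω M) ≤ Subgroup.normalizer (Z : Set G)) :
    two a b ⊓ Subgroup.normalizer (Z : Set G) ≤ M := by
  haveI := finite_omega hC
  set Y := Subgroup.normalizer (Z : Set G)
  have hY : Y ≠ ⊤ := fun e => by
    haveI := Subgroup.normalizer_eq_top_iff.mp e
    exact hZ (eq_bot_of_normal hC fun x hx => mem_fixer.mp (hZK hx) a ha)
  obtain ⟨hYc, hYq, hcirc⟩ := normalizer_top hC hB he hM ha hb hne huM hu hua hY huZ hinv hfix
  intro x hx
  obtain ⟨hxa, hxb⟩ := mem_two.mp hx.1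
  rcases hM.shape with h | ⟨h, hsz⟩
  · refine hM.stable x fun c hc => ?_
    rw [← circ_eq_centres hC hM.carries.top hB ha hb hne h, ← hcirc] at hc ⊢
    exact smul_circ_of_two hx.2 hxa hxb hc
  · set W := M ⊓ Y
    obtain ⟨hWc, hWq, -⟩ := normalizer_top hC hB he hM ha hb hne huM hu hua (Y := W)
      (fun e => hY (top_le_iff.mp (e ▸ inf_le_right))) ⟨huM, huZ⟩ (fun i hiM hi hia => ⟨hiM, hinv i hiM hi hia⟩)
      (le_inf (fixer_le hC hB he hM) hfix)
    have hW2 := (hsz W hWc hWq).1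
    have hY2 := (hsz Y hYc hYq).1
    have e1 : centres Ω W = centres Ω M := Set.eq_of_subset_of_ncard_le (centres_mono inf_le_left)
      (by rw [← Nat.card_coe_set_eq, ← Nat.card_coe_set_eq, h, hW2]) (Set.toFinite _)
    have e2 : centres Ω W = centres Ω Y := Set.eq_of_subset_of_ncard_le (centres_mono inf_le_right)
      (by rw [← Nat.card_coe_set_eq, ← Nat.card_coe_set_eq, hY2, hW2]) (Set.toFinite _)
    refine hM.stable x fun c hc => ?_
    rw [← e1, e2] at hc ⊢
    exact centres_smul hx.2 hc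

end Chosen

end CfsgLib.Bender.B1
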