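import Cfsg.Agent.Lib.Bender.OddCore.Fpf

/-!
Primes `p` at which no stabiliser Sylow subgroup of a swapped pair fixes the centre of the swapper: they do not divide
the degree, Sylow subgroups fix exactly two points, and inverted elements stay in the pair stabiliser.

Blueprint: `blueprint/bender/A6.md`, Q5, steps S1-S3 (`blueprint/bender/A8_toral_primes.md`, 8.2-8.4).
-/

set_option autoImplicit false
set_option linter.unusedSectionVars false
set_option linter.style.haveILetI false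

namespace CfsgLib.Bender.B1

open MulAction Cfsg CfsgLib.SuzukiRankOne
open CfsgLib.Bender.OddCore
open CfsgLib.Bender.TwoClosed (IsInv IsInv.inv IsInv.conj IsInv.smul_twice two InvAt Swap smul_conj mem_two mem_two_comm
  exists_inv_of_even odd_card_of_forall odd_orderOf eq_one_of_two_odd eq_one_of_inv_eq MaxP exists_maxP maxP_of_card
  exists_invariant_maxP mem_normalizer_of_conj conj_mem_of_normalizer exists_mem_normalizer fixSet fixSet_smul
  mem_of_sq_mem odd_orderOf_of_pGroup)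

universe u v

variable {G : Type u} [Group G] [Finite G] {Ω : Type v} [MulAction G Ω]

/-- No Sylow `p`-subgroup of a pair stabiliser normalised by a swapper fixes the centre of the swapper. -/
def Even' (p : ℕ) (G : Type u) (Ω : Type v) [Group G] [MulAction G Ω] : Prop :=
  ∀ (u : G) (a g : Ω) (R : Subgroup G), IsInv u → u • g = g → u • a ≠ a → MaxP p (two a (u • a)) R →
    u ∈ Subgroup.normalizer (R : Set G) → g ∉ fixSet Ω R

theorem odd_of_pGroup {p : ℕ} [Fact p.Prime] (hp2 : p ≠ 2) {X : Subgroup G} (hX : IsPGroup p X) :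
    Odd (Nat.card X) := by
  obtain ⟨k, hk⟩ := IsPGroup.iff_card.mp hX
  exact hk ▸ (((Fact.out : p.Prime).odd_of_ne_two hp2).pow)

/-- A `p`-subgroup permuting a pair of points of which it fixes one fixes both. -/
theorem smul_eq_of_pair {g : G} {c d : Ω} (hg : Odd (orderOf g)) (hc : g • c = c ∨ g • c = d)
    (hd : g • d = c ∨ g • d = d) : g • c = c := by
  rcases hc with h | h
  · exact h
  rcases hd with h' | h'
  · exact mem_stabilizer_iff.mp (mem_of_sq_mem (H := stabilizer G c) hg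
      (mem_stabilizer_iff.mpr (by rw [mul_smul, h, h'])))
  · have : c = d := by
      rw [← h'] at h
      exact smul_left_cancel g h
    rw [h, this]

/-- A `p`-subgroup invariant under an involution lies in an invariant maximal one. -/
theorem exists_invariant_maxP_above {p : ℕ} [Fact p.Prime] {K Z : Subgroup G} {x : G} (hK : Odd (Nat.card K))
    (hx : x * x = 1) (hxK : ∀ k ∈ K, x * k * x⁻¹ ∈ K) (hZ : IsPGroup p Z) (hZK : Z ≤ K)
    (hxZ : x ∈ Subgroup.normalizer (Z : Set G)) :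
    ∃ R, Z ≤ R ∧ MaxP p K R ∧ x ∈ Subgroup.normalizer (R : Set G) := by
  obtain ⟨R, hZR, ⟨hR, hRK, hxR⟩, hmax⟩ := Finite.exists_le_maximal
    (p := fun Y : Subgroup G => IsPGroup p Y ∧ Y ≤ K ∧ x ∈ Subgroup.normalizer (Y : Set G)) ⟨hZ, hZK, hxZ⟩
  refine ⟨R, hZR, ?_, hxR⟩
  obtain ⟨P, hRP, hP⟩ := exists_maxP hR hRK
  rcases hRP.lt_or_eq with hlt | rfl
  swap
  · exact hP
  obtain ⟨g, hgP, hgR, hgn⟩ := exists_mem_normalizer hP.isPGroup hlt
  set L : Subgroup G := K ⊓ Subgroup.normalizer (R : Set G)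
  have hLodd : Odd (Nat.card L) := hK.of_dvd_nat (Subgroup.card_dvd_of_le inf_le_left)
  obtain ⟨S, hS, hxS⟩ := exists_invariant_maxP (p := p) hLodd hx (fun k hk => Subgroup.mem_inf.mpr
    ⟨hxK k (Subgroup.mem_inf.mp hk).1,
      mul_mem (mul_mem hxR (Subgroup.mem_inf.mp hk).2) (inv_mem hxR)⟩)
  have hRL : R ≤ L := le_inf hRK Subgroup.le_normalizer
  obtain ⟨T, hT, hTL⟩ := exists_maxP (K := L) hR hRL
  obtain ⟨y, hy, hyT⟩ := hTL.conj hS
  have hRS : R ≤ S := fun r hr => by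
    have h1 : y⁻¹ * r * y⁻¹⁻¹ ∈ R := conj_mem_of_normalizer (inv_mem hy.2) hr
    have h2 := (hyT _).mp (hT h1)
    simpa [mul_assoc] using h2
  have hSR : S ≤ R := hmax ⟨hS.isPGroup, hS.le.trans inf_le_left, hxS⟩ hRS
  have hcard : Nat.card T = Nat.card R := by rw [hTL.card, ← hS.card, le_antisymm hSR hRS]
  have hTR : T = R := (Subgroup.eq_of_le_of_card_ge hT hcard.le).symm
  obtain ⟨W, hW⟩ : ∃ W : Subgroup G, W = R ⊔ Subgroup.zpowers g := ⟨_, rfl⟩
  have hWP : W ≤ P := hW ▸ sup_le hRP (Subgroup.zpowers_le.mpr hgP)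
  have hWL : W ≤ L := hW ▸ sup_le hRL (Subgroup.zpowers_le.mpr ⟨hP.le hgP, hgn⟩)
  have hWR : W = T := hTL.eq_of_le (hP.isPGroup.to_le hWP) hWL (hTR ▸ hW ▸ le_sup_left)
  exact absurd (hTR ▸ hWR ▸ hW ▸ (le_sup_right : Subgroup.zpowers g ≤ _) (Subgroup.mem_zpowers g)) hgR

/-- An involution inverting a commutator is conjugate by a square root of it. -/
theorem exists_conj_root {K R : Subgroup G} {u r : G} (hu : IsInv u) (hK : Odd (Nat.card K)) (hr : r ∈ K)
    (huK : ∀ k ∈ K, u * k * u⁻¹ ∈ K) (hn : r * u * r⁻¹ ∈ Subgroup.normalizer (R : Set G))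
    (hnu : u ∈ Subgroup.normalizer (R : Set G)) :
    ∃ t ∈ K, t ∈ Subgroup.normalizer (R : Set G) ∧ t * u * t⁻¹ = r * u * r⁻¹ := by
  set s : G := r * u * r⁻¹ * u with hs
  have hsK : s ∈ K := by
    rw [hs, show r * u * r⁻¹ * u = r * (u * r⁻¹ * u⁻¹) * (u * u) by group, hu.2, mul_one]
    exact mul_mem hr (huK _ (inv_mem hr))
  have hinv : u * s * u⁻¹ = s⁻¹ := by
    rw [hs, mul_inv_rev, mul_inv_rev, mul_inv_rev, inv_inv, hu.inv]
    simp [mul_assoc, hu.2]
  obtain ⟨k, hk⟩ := CfsgLib.Involutions.exists_sqrt (odd_orderOf hK hsK)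
  refine ⟨s ^ k, pow_mem hsK k, pow_mem (mul_mem hn hnu) k, ?_⟩
  have h1 : u * (s ^ k)⁻¹ * u⁻¹ = s ^ k := by
    rw [← inv_pow, ← conj_pow, show u * s⁻¹ * u⁻¹ = (u * s * u⁻¹)⁻¹ by group, hinv, inv_inv]
  calc s ^ k * u * (s ^ k)⁻¹ = s ^ k * (u * (s ^ k)⁻¹ * u⁻¹) * u := by group
    _ = s * u := by rw [h1, hk]
    _ = r * u * r⁻¹ := by rw [hs, mul_assoc, hu.2, mul_one]

/-- The centraliser of `u` in an invariant maximal `p`-subgroup is maximal in the centraliser of `u`. -/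
theorem maxP_cent {p : ℕ} [Fact p.Prime] {K R : Subgroup G} {u : G} (hu : IsInv u) (hK : Odd (Nat.card K))
    (huK : ∀ k ∈ K, u * k * u⁻¹ ∈ K) (hR : MaxP p K R) (huR : u ∈ Subgroup.normalizer (R : Set G)) :
    MaxP p (K ⊓ Subgroup.centralizer ({u} : Set G)) (R ⊓ Subgroup.centralizer ({u} : Set G)) := by
  set C : Subgroup G := Subgroup.centralizer ({u} : Set G)
  obtain ⟨P0, h0, hP0⟩ := exists_maxP (K := K ⊓ C) (hR.isPGroup.to_le (inf_le_left : R ⊓ C ≤ R))
    (inf_le_inf_right C hR.le)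
  have hu0 : u ∈ Subgroup.normalizer (P0 : Set G) := mem_normalizer_of_conj fun x hx => by
    have h1 : x * u = u * x := Subgroup.mem_centralizer_singleton_iff.mp (hP0.le hx).2
    rwa [← h1, mul_inv_cancel_right]
  obtain ⟨R', hPR', hR', huR'⟩ := exists_invariant_maxP_above hK hu.2 huK hP0.isPGroup
    (hP0.le.trans inf_le_left) hu0
  obtain ⟨g, hg, hgR⟩ := hR.conj hR'
  have hgu : g * u * g⁻¹ ∈ Subgroup.normalizer (R' : Set G) := mem_normalizer_of_conj fun x hx => by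
    have h1 : g⁻¹ * x * g ∈ R := (hgR _).mpr (by simpa [mul_assoc] using hx)
    have h2 := (hgR _).mp (conj_mem_of_normalizer huR h1)
    simpa [mul_assoc] using h2
  obtain ⟨t, ht, htn, htu⟩ := exists_conj_root hu hK hg huK hgu huR'
  set n : G := t⁻¹ * g with hn
  have hnu : n * u * n⁻¹ = u := by
    calc n * u * n⁻¹ = t⁻¹ * (g * u * g⁻¹) * t := by rw [hn]; group
      _ = u := by rw [← htu]; group
  have hnR : ∀ x, x ∈ R' → n⁻¹ * x * n ∈ R := fun x hx => by
    refine (hgR _).mpr ?_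
    rw [show g * (n⁻¹ * x * n) * g⁻¹ = t * x * t⁻¹ by rw [hn]; group]
    exact conj_mem_of_normalizer htn hx
  have hle : P0.map (MulAut.conj n⁻¹).toMonoidHom ≤ R ⊓ C := by
    rintro _ ⟨x, hx, rfl⟩
    refine Subgroup.mem_inf.mpr ⟨by simpa using hnR x (hPR' hx), Subgroup.mem_centralizer_singleton_iff.mpr ?_⟩
    have h1 : x * u = u * x := Subgroup.mem_centralizer_singleton_iff.mp (hP0.le hx).2
    show n⁻¹ * x * n⁻¹⁻¹ * u = u * (n⁻¹ * x * n⁻¹⁻¹)
    calc n⁻¹ * x * n⁻¹⁻¹ * u = n⁻¹ * (x * (n * u * n⁻¹)) * n := by group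
      _ = n⁻¹ * ((n * u * n⁻¹) * x) * n := by rw [hnu, h1]
      _ = u * (n⁻¹ * x * n⁻¹⁻¹) := by group
  have hcard : Nat.card P0 ≤ Nat.card (R ⊓ C : Subgroup G) := by
    have hinj : Function.Injective ((MulAut.conj n⁻¹).toMonoidHom : G →* G) := (MulAut.conj n⁻¹).injective
    rw [← Subgroup.card_map_of_injective (K := P0) hinj]
    exact Subgroup.card_le_of_le hle
  exact (Subgroup.eq_of_le_of_card_ge h0 hcard).symm ▸ hP0

section Act

variable (hA : Act G Ω)
include hA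

theorem centre_of_moved {u : G} (hu : IsInv u) {a : Ω} (ha : u • a ≠ a) : ∃ g, u • g = g ∧ g ≠ a := by
  obtain ⟨g, hg⟩ := exists_fix hA hu
  exact ⟨g, hg, fun e => ha (e ▸ hg)⟩

/-- An invariant `p`-group containing a Sylow subgroup of one swapped pair stabiliser and fixing another swapped
pair has all its inverted elements in the former. -/
theorem inverted_mem {p : ℕ} [Fact p.Prime] {u : G} (hu : IsInv u) {a c : Ω} (ha : u • a ≠ a) (hc : u • c ≠ c)
    {R X : Subgroup G} (hR : MaxP p (two a (u • a)) R) (huR : u ∈ Subgroup.normalizer (R : Set G))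
    (hX : MaxP p (two c (u • c)) X) (huX : u ∈ Subgroup.normalizer (X : Set G)) (hRX : R ≤ X)
    {j : G} (hj : j ∈ X) (hinv : u * j * u = j⁻¹) : j ∈ R := by
  set C : Subgroup G := Subgroup.centralizer ({u} : Set G)
  have hne : Nat.card (InvAt G a) ≠ 0 := by
    obtain ⟨i, hi, hia⟩ := exists_inv_at hA a
    haveI : Nonempty (InvAt G a) := ⟨⟨i, hi, hia⟩⟩
    exact Nat.card_pos.ne'
  have hcardv : ∀ {d : Ω} {P : Subgroup G}, u • d ≠ d → MaxP p (two d (u • d)) P →
      u ∈ Subgroup.normalizer (P : Set G) →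
      Nat.card P = p ^ (Nat.card (InvAt G a)).factorization p * Nat.card (P ⊓ C : Subgroup G) := by
    intro d P hd hP huP
    have hodd := odd_two hA (Ne.symm hd)
    rw [(maxP_cent hu hodd (swap_conj_two hA hu rfl) hP huP).card, hP.card, ← pow_add, card_two_eq hA hd hu rfl,
      card_invAt_eq hA (a := a) d, Nat.factorization_mul hne Nat.card_pos.ne']
    · rfl
  have h1 : Nat.card X * Nat.card (R ⊓ C : Subgroup G) = Nat.card R * Nat.card (X ⊓ C : Subgroup G) := by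
    rw [hcardv hc hX huX, hcardv ha hR huR]; ring
  have hall : ∀ x ∈ X, ∃ r ∈ R, ∃ k ∈ X ⊓ C, r * k = x := by
    have hsub : ∀ H : Subgroup G, Nat.card (H ⧸ C.subgroupOf H) * Nat.card (H ⊓ C : Subgroup G) = Nat.card H :=
      fun H => by
        rw [← Subgroup.inf_subgroupOf_left, Subgroup.card_eq_card_quotient_mul_card_subgroup
          ((H ⊓ C).subgroupOf H), Nat.card_congr (Subgroup.subgroupOfEquivOfLe (inf_le_left : H ⊓ C ≤ H)).toEquiv]
    have h2 : Nat.card (X ⧸ C.subgroupOf X) = Nat.card (R ⧸ C.subgroupOf R) := by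
      refine Nat.eq_of_mul_eq_mul_right (Nat.mul_pos (Nat.card_pos (α := (X ⊓ C : Subgroup G)))
        (Nat.card_pos (α := (R ⊓ C : Subgroup G)))) ?_
      calc Nat.card (X ⧸ C.subgroupOf X) * (Nat.card (X ⊓ C : Subgroup G) * Nat.card (R ⊓ C : Subgroup G))
          = Nat.card X * Nat.card (R ⊓ C : Subgroup G) := by rw [← mul_assoc, hsub]
        _ = Nat.card R * Nat.card (X ⊓ C : Subgroup G) := h1
        _ = _ := by rw [← hsub R]; ring
    have hsurj : Function.Surjective (Subgroup.quotientSubgroupOfEmbeddingOfLE C hRX) :=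
      ((Subgroup.quotientSubgroupOfEmbeddingOfLE C hRX).injective.bijective_of_nat_card_le h2.le).2
    intro x hx
    obtain ⟨y, hy⟩ := hsurj (QuotientGroup.mk (⟨x, hx⟩ : X))
    induction y using Quotient.inductionOn' with | h r =>
    have hy' : (QuotientGroup.mk (Subgroup.inclusion hRX r) : X ⧸ C.subgroupOf X) = QuotientGroup.mk ⟨x, hx⟩ := hy
    have h3 : (r : G)⁻¹ * x ∈ C := Subgroup.mem_subgroupOf.mp (QuotientGroup.eq.mp hy')
    exact ⟨r, r.2, (r : G)⁻¹ * x, Subgroup.mem_inf.mpr ⟨mul_mem (inv_mem (hRX r.2)) hx, h3⟩,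
      mul_inv_cancel_left _ _⟩
  obtain ⟨r, hr, k, hk, rfl⟩ := hall j hj
  have hku : u * k * u = k := by
    rw [← Subgroup.mem_centralizer_singleton_iff.mp hk.2, mul_assoc, hu.2, mul_one]
  have h2 : (r * k) * (r * k) = r * (u * r * u)⁻¹ := by
    calc (r * k) * (r * k) = r * k * (u * (r * k) * u)⁻¹ := by rw [hinv, inv_inv]
      _ = r * k * ((u * r * u) * (u * k * u))⁻¹ := by rw [show (u * r * u) * (u * k * u) = u * r * (u * u) * k * u by group, hu.2, mul_one]; simp [mul_assoc]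
      _ = r * (u * r * u)⁻¹ := by rw [hku]; group
  refine mem_of_sq_mem (odd_orderOf (odd_two hA (Ne.symm hc)) (hX.le hj)) (h2 ▸ mul_mem hr (inv_mem ?_))
  have := conj_mem_of_normalizer huR hr
  rwa [hu.inv] at this

end Act

section Decomp

variable (hA : Act G Ω) {X : Subgroup G} (hXodd : Odd (Nat.card X))
  (hfpf : ∀ x ∈ Subgroup.normalizer (X : Set G), IsInv x → ∀ r ∈ fixSet Ω X, x • r ≠ r)
include hA hXodd hfpf

/-- An involution of a normaliser all of whose involutions move all fixed points is central modulo an odd core. -/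
theorem rankOne_decomp {u : G} (hu : IsInv u) (hun : u ∈ Subgroup.normalizer (X : Set G)) :
    ∃ O : Subgroup G, O ≤ Subgroup.normalizer (X : Set G) ∧ Odd (Nat.card O) ∧
      (∀ g ∈ Subgroup.normalizer (X : Set G), ∀ o ∈ O, g * o * g⁻¹ ∈ O) ∧
      ∀ g ∈ Subgroup.normalizer (X : Set G), u * g * u⁻¹ * g⁻¹ ∈ O := by
  set N := Subgroup.normalizer (X : Set G) with hN
  have heven : Even (Nat.card N) := by
    rw [even_iff_two_dvd, ← CfsgLib.Involutions.orderOf_eq_two_iff'.mpr ⟨hu.2, hu.1⟩]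
    exact Subgroup.orderOf_dvd_natCard N hun
  have hrank : ∀ E : Subgroup N, ¬ IsKleinFour E := by
    intro E hE
    haveI := hE
    have h2 : ∀ x : E, x * x = 1 := fun x => by
      rw [← pow_two, ← hE.exponent_two]; exact Monoid.pow_exponent_eq_one x
    haveI := Fintype.ofFinite E
    obtain ⟨x, y, hx, hy, hxy⟩ : ∃ x y : E, x ≠ 1 ∧ y ≠ 1 ∧ x ≠ y := by
      have h4 : 2 < Fintype.card E := by rw [← Nat.card_eq_fintype_card, hE.card_four]; norm_num
      obtain ⟨p1, p2, p3, h12, h13, h23⟩ := Fintype.two_lt_card_iff.mp h4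
      rcases eq_or_ne p1 1 with rfl | hp1
      · exact ⟨p2, p3, h12.symm, h13.symm, h23⟩
      rcases eq_or_ne p2 1 with rfl | hp2'
      · exact ⟨p1, p3, hp1, h23.symm, h13⟩
      · exact ⟨p1, p2, hp1, hp2', h12⟩
    have hinvE : ∀ x : E, x ≠ 1 → IsInv ((x : N) : G) := fun x hx =>
      ⟨fun e => hx (Subtype.ext (Subtype.ext e)), congrArg (fun w : E => ((w : N) : G)) (h2 x)⟩
    exact no_four hA hXodd hfpf (hinvE x hx) (hinvE y hy) (fun e => hxy (Subtype.ext (Subtype.ext e)))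
      (congrArg (fun w : E => ((w : N) : G)) (by
        calc x * y = x * (x * y * (x * y)) * y := by rw [h2, mul_one]
          _ = x * x * (y * x) * (y * y) := by group
          _ = y * x := by rw [h2, h2, one_mul, mul_one])) x.1.2 y.1.2
  obtain ⟨z0, hz0, O0, hO0n, hO0odd, hO0⟩ := Cfsg.Agent.S0225.result heven hrank
  obtain ⟨hz2, hz1⟩ := CfsgLib.Involutions.orderOf_eq_two_iff'.mp hz0
  have hzi : IsInv (z0 : G) := ⟨fun e => hz1 (Subtype.ext e), congrArg Subtype.val hz2⟩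
  have hcomm : ∀ g ∈ N, (z0 : G) * g * (z0 : G)⁻¹ * g⁻¹ ∈ O0.map N.subtype := fun g hg => ⟨_, hO0 ⟨g, hg⟩, rfl⟩
  have hOn : ∀ g ∈ N, ∀ o ∈ O0.map N.subtype, g * o * g⁻¹ ∈ O0.map N.subtype := by
    rintro g hg _ ⟨o, ho, rfl⟩
    exact ⟨_, hO0n.conj_mem o ho ⟨g, hg⟩, rfl⟩
  refine ⟨O0.map N.subtype, Subgroup.map_subtype_le O0,
    by rwa [Subgroup.card_map_of_injective N.subtype_injective], hOn, fun g hg => ?_⟩
  obtain ⟨o, ho, huo⟩ : ∃ o ∈ O0.map N.subtype, u = (z0 : G) * o := by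
    refine ⟨(z0 : G) * u, ?_, by rw [← mul_assoc, hzi.2, one_mul]⟩
    rcases Nat.even_or_odd (orderOf ((z0 : G) * u)) with he | ho
    · rw [eq_of_even hA hXodd hfpf hu hzi hun z0.2 he, hzi.2]
      exact one_mem _
    · refine mem_of_sq_mem ho ?_
      have := hcomm u hun
      rwa [hzi.inv, hu.inv, mul_assoc ((z0 : G) * u)] at this
  rw [huo, show (z0 : G) * o * g * ((z0 : G) * o)⁻¹ * g⁻¹ =
    ((z0 : G) * (o * (g * o⁻¹ * g⁻¹)) * (z0 : G)⁻¹) * ((z0 : G) * g * (z0 : G)⁻¹ * g⁻¹) by group]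
  exact mul_mem (hOn _ z0.2 _ (mul_mem ho (hOn g hg _ (inv_mem ho)))) (hcomm g hg)

end Decomp

section Consequences

variable {p : ℕ} [Fact p.Prime] (hA : Act G Ω) (hp2 : p ≠ 2) (hev : Even' p G Ω)
include hA hp2 hev

theorem card_fixSet_modEq {X : Subgroup G} (hX : IsPGroup p X) :
    Nat.card Ω ≡ Nat.card (fixSet Ω X) [MOD p] := by
  haveI : Finite Ω := by
    haveI := hA.trans
    obtain ⟨x, hx⟩ := OddCore.exists_inv hA
    obtain ⟨c, -⟩ := OddCore.exists_fix hA hx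
    exact Finite.of_surjective (fun g : G => g • c) (MulAction.exists_smul_eq G c)
  refine (hX.card_modEq_card_fixedPoints (α := Ω)).trans (congrArg (· % p) ?_)
  exact Nat.card_congr (Equiv.subtypeEquivRight fun d => ⟨fun h x hx => h ⟨x, hx⟩, fun h x => h x x.2⟩)

/-- S1: `p` is prime to the degree. -/
theorem not_dvd_card [FaithfulSMul G Ω] : ¬ p ∣ Nat.card Ω := by
  intro hn
  have hp3 : 3 ≤ p := lt_of_le_of_ne (Fact.out : p.Prime).two_le (Ne.symm hp2)
  haveI := hA.trans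
  obtain ⟨z, hz⟩ := OddCore.exists_inv hA
  obtain ⟨a, hza⟩ := OddCore.exists_fix hA hz
  obtain ⟨T, -, hT⟩ := exists_maxP (p := p) (K := stabilizer G a) IsPGroup.of_bot bot_le
  haveI : Finite Ω := Finite.of_surjective (fun g : G => g • a) (MulAction.exists_smul_eq G a)
  have haT : a ∈ fixSet Ω T := fun x hx => mem_stabilizer_iff.mp (hT.le hx)
  have hall : ∀ r ∈ fixSet Ω T, MaxP p (stabilizer G r) T := fun r hr => by
    obtain ⟨g, rfl⟩ := exists_smul_eq G a r
    refine maxP_of_card hT.isPGroup (fun x hx => mem_stabilizer_iff.mpr (hr x hx)) ?_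
    rw [hT.card, stabilizer_smul_eq_stabilizer_map_conj,
      Subgroup.card_map_of_injective (f := (MulAut.conj g).toMonoidHom) (MulAut.conj g).injective]
  have hpair : ∀ r ∈ fixSet Ω T, ∀ s ∈ fixSet Ω T, MaxP p (two r s) T := fun r hr s hs =>
    (hall r hr).of_le inf_le_left fun x hx => mem_two.mpr ⟨hr x hx, hs x hx⟩
  obtain ⟨c, d, e, hcd, hce, hde⟩ : ∃ c d e : fixSet Ω T, c ≠ d ∧ c ≠ e ∧ d ≠ e := by
    classical
    haveI := Fintype.ofFinite (fixSet Ω T)
    refine Fintype.two_lt_card_iff.mp (lt_of_lt_of_le (lt_of_lt_of_le (by norm_num) hp3) ?_)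
    rw [← Nat.card_eq_fintype_card]
    haveI : Nonempty (fixSet Ω T) := ⟨⟨a, haT⟩⟩
    exact Nat.le_of_dvd Nat.card_pos
      (Nat.modEq_zero_iff_dvd.mp ((card_fixSet_modEq hA hp2 hev hT.isPGroup).symm.trans (Nat.modEq_zero_iff_dvd.mpr hn)))
  refine fix_le_two hA (odd_of_pGroup hp2 hT.isPGroup) ?_ hp2 (fun r hr s hs hne => Or.inl ?_) c.2 d.2 e.2
    (Subtype.coe_ne_coe.mpr hcd) (Subtype.coe_ne_coe.mpr hce) (Subtype.coe_ne_coe.mpr hde)
  · intro x hxn hx r hr hxr
    obtain ⟨s, hs, hsr⟩ : ∃ s ∈ fixSet Ω T, s ≠ r := by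
      by_cases h : (c : Ω) = r
      · exact ⟨d, d.2, fun e => hcd (Subtype.ext (h.trans e.symm))⟩
      · exact ⟨c, c.2, h⟩
    exact hev x s r T hx hxr (fun e => hsr (OddCore.eq_of_fix hA hx e hxr))
      (hpair s hs _ (fixSet_smul hxn hs)) hxn hr
  · exact swap_maxP hA hne.symm (hpair r hr s hs)

/-- S2: the climb. -/
theorem exists_climb [FaithfulSMul G Ω] {u : G} (hu : IsInv u) {a : Ω} (ha : u • a ≠ a) {R : Subgroup G}
    (hR : MaxP p (two a (u • a)) R) (huR : u ∈ Subgroup.normalizer (R : Set G)) :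
    ∃ (X : Subgroup G) (c : Ω), R ≤ X ∧ MaxP p ⊤ X ∧ u ∈ Subgroup.normalizer (X : Set G) ∧ u • c ≠ c ∧
      (∀ d : Ω, d ∈ fixSet Ω X ↔ d = c ∨ d = u • c) ∧ ∀ j ∈ X, u * j * u = j⁻¹ → j ∈ R := by
  obtain ⟨g, hg⟩ := OddCore.exists_fix hA hu
  have hgR := hev u a g R hu hg ha hR huR
  obtain ⟨X, hRX, ⟨hX, huX, c, hc, hcX⟩, hmax⟩ := Finite.exists_le_maximal
    (p := fun Y : Subgroup G => IsPGroup p Y ∧ u ∈ Subgroup.normalizer (Y : Set G) ∧
      ∃ c, u • c ≠ c ∧ c ∈ fixSet Ω Y)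
    ⟨hR.isPGroup, huR, a, ha, fun x hx => (mem_two.mp (hR.le hx)).1⟩
  have hgX : g ∉ fixSet Ω X := fun h => hgR fun x hx => h x (hRX hx)
  have hXodd := odd_of_pGroup hp2 hX
  have hfpf : ∀ x ∈ Subgroup.normalizer (X : Set G), IsInv x → ∀ r ∈ fixSet Ω X, x • r ≠ r := by
    intro x hxn hx r hr hxr
    by_cases hrg : r = g
    · exact hgX (hrg ▸ hr)
    obtain ⟨w, hw, he, hwcl⟩ := exists_swap_conj hA hx hxr hu hg hrg
    have hwn : w ∈ Subgroup.normalizer (X : Set G) :=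
      (Subgroup.closure_le _).mpr (Set.insert_subset hxn (Set.singleton_subset_iff.mpr huX)) hwcl
    exact hgX ((swap_points hA hx hxr hu hg hw he).1 ▸ fixSet_smul hwn hr)
  have hmem : ∀ r ∈ fixSet Ω X, X ≤ two r (u • r) := fun r hr x hx =>
    mem_two.mpr ⟨hr x hx, fixSet_smul huX hr x hx⟩
  -- the maximal invariant group is maximal in the stabiliser of each of its swapped pairs
  have hMax : ∀ r ∈ fixSet Ω X, MaxP p (two r (u • r)) X := fun r hr => by
    obtain ⟨S, hXS, hS, huS⟩ := exists_invariant_maxP_above (odd_two hA (hfpf u huX hu r hr).symm) hu.2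
      (swap_conj_two hA hu rfl) hX (hmem r hr) huX
    have hr' : u • r ≠ r := hfpf u huX hu r hr
    exact le_antisymm hXS (hmax ⟨hS.isPGroup, huS, r, hr', fun x hx => (mem_two.mp (hS.le hx)).1⟩ hXS) ▸ hS
  -- a Sylow subgroup of the normaliser fixes a point of `fixSet X`
  set N := Subgroup.normalizer (X : Set G) with hN
  obtain ⟨O, hON, hOodd, hOn, hOu⟩ := rankOne_decomp hA hXodd hfpf hu huX
  obtain ⟨P, -, hP⟩ := exists_maxP (p := p) (K := N) hX Subgroup.le_normalizer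
  have hXN : ∀ g ∈ N, ∀ x ∈ X, g * x * g⁻¹ ∈ X := fun g hg x hx => conj_mem_of_normalizer hg hx
  have hXP : X ≤ P := by
    obtain ⟨Q, hXQ, hQ⟩ := exists_maxP (p := p) (K := N) hX Subgroup.le_normalizer
    obtain ⟨y, hy, hyP⟩ := hQ.conj hP
    intro x hx
    have h2 := (hyP _).mp (hXQ (hXN _ (inv_mem hy) x hx))
    simpa [mul_assoc] using h2
  have hPX : MaxP p N X := by
    set K : Subgroup G := P ⊔ O with hK
    have hPnO : P ≤ Subgroup.normalizer (O : Set G) := fun g hg =>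
      mem_normalizer_of_conj fun o ho => hOn g (hP.le hg) o ho
    have hKN : K ≤ N := sup_le hP.le hON
    have hKodd : Odd (Nat.card K) := odd_card_of_forall fun g hg hgi => by
      rw [hK, ← SetLike.mem_coe, Subgroup.coe_mul_of_left_le_normalizer_right _ _ hPnO] at hg
      obtain ⟨π, hπ, o, ho, rfl⟩ := Set.mem_mul.mp hg
      have h2 : π * π ∈ O := by
        have h4 : π * o * π = o⁻¹ := eq_inv_of_mul_eq_one_left (by rw [mul_assoc (π * o), hgi.2])
        rw [show π * π = (π * o * π) * (π⁻¹ * o⁻¹ * π) by group, h4]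
        refine mul_mem (inv_mem ho) ?_
        simpa using hOn π⁻¹ (inv_mem (hP.le hπ)) _ (inv_mem ho)
      have h6 : π * o ∈ O := mul_mem (mem_of_sq_mem (odd_orderOf_of_pGroup hp2 hP.isPGroup hπ) h2) ho
      exact hgi.1 (eq_one_of_two_odd (by rw [pow_two, hgi.2]) (odd_orderOf hOodd h6))
    have huK : ∀ k ∈ K, u * k * u⁻¹ ∈ K := fun k hk => by
      rw [show u * k * u⁻¹ = u * k * u⁻¹ * k⁻¹ * k by group]
      exact mul_mem ((le_sup_right : O ≤ K) (hOu k (hKN hk))) hk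
    obtain ⟨S, hXS, hS, huS⟩ := exists_invariant_maxP_above hKodd hu.2 huK hX (hXP.trans le_sup_left) huX
    have hSN : S ≤ N := hS.le.trans hKN
    -- `S` fixes a point of `fixSet X`
    have hfix : ∃ r ∈ fixSet Ω X, r ∈ fixSet Ω S := by
      by_contra hnone
      push Not at hnone
      refine not_dvd_card hA hp2 hev ?_
      have h1 := card_fixSet_modEq hA hp2 hev hS.isPGroup
      have h2 : Nat.card (fixSet Ω S) = 0 := Nat.card_eq_zero.mpr (Or.inl ⟨fun r =>
        hnone r (fun x hx => r.2 x (hXS hx)) r.2⟩)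
      exact Nat.modEq_zero_iff_dvd.mp (h2 ▸ h1)
    obtain ⟨r, hr, hrS⟩ := hfix
    have hSX : S = X := le_antisymm (hmax ⟨hS.isPGroup, huS, r, hfpf u huX hu r hr, hrS⟩ hXS) hXS
    refine maxP_of_card hX Subgroup.le_normalizer ?_
    rw [← hP.card, ← hSX, hS.card, (hP.of_le hKN le_sup_left).card]
  have hXtop : MaxP p ⊤ X := by
    obtain ⟨Y, hXY, hY⟩ := exists_maxP (p := p) (K := ⊤) hX le_top
    rcases hXY.lt_or_eq with hlt | rfl
    swap
    · exact hY
    obtain ⟨y, hy, hyX, hyn⟩ := exists_mem_normalizer hY.isPGroup hlt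
    have hW : X ⊔ Subgroup.zpowers y ≤ X := (hPX.eq_of_le (hY.isPGroup.to_le (sup_le hlt.le
      (Subgroup.zpowers_le.mpr hy))) (sup_le Subgroup.le_normalizer (Subgroup.zpowers_le.mpr hyn)) le_sup_left).le
    exact absurd (hW ((le_sup_right : Subgroup.zpowers y ≤ _) (Subgroup.mem_zpowers y))) hyX
  refine ⟨X, c, hRX, hXtop, huX, hc, fun d => ⟨fun hd => ?_, ?_⟩,
    fun j hj hinv => inverted_mem hA hu ha hc hR huR (hMax c hcX) huX hRX hj hinv⟩
  · by_contra hne
    push Not at hne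
    refine fix_le_two hA hXodd hfpf hp2 (fun r hr s hs hrs => Or.inl ?_) hcX (fixSet_smul huX hcX) hd hc.symm
      hne.1.symm hne.2.symm
    exact swap_maxP hA hrs.symm (hXtop.of_le le_top fun x hx => mem_two.mpr ⟨hr x hx, hs x hx⟩)
  · rintro (rfl | rfl)
    · exact hcX
    · exact fixSet_smul huX hcX

/-- The degree is congruent to two. -/
theorem card_modEq_two [FaithfulSMul G Ω] : Nat.card Ω ≡ 2 [MOD p] := by
  obtain ⟨u, hu⟩ := OddCore.exists_inv hA
  obtain ⟨g, hg⟩ := OddCore.exists_fix hA hu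
  obtain ⟨a, ha⟩ := OddCore.exists_ne (a := g) hA
  have hua : u • a ≠ a := fun e => ha (OddCore.eq_of_fix hA hu e hg)
  obtain ⟨R, hR, huR⟩ := exists_invariant_maxP (p := p) (odd_two hA hua.symm) hu.2 (swap_conj_two hA hu rfl)
  obtain ⟨X, c, -, hX, -, hc, hfix, -⟩ := exists_climb hA hp2 hev hu hua hR huR
  refine (card_fixSet_modEq hA hp2 hev hX.isPGroup).trans (congrArg (· % p) ?_)
  rw [Nat.card_coe_set_eq, show fixSet Ω X = {c, u • c} from Set.ext fun d => by simp [hfix d],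
    Set.ncard_pair hc.symm]

/-- Every `p`-subgroup fixes at least two points. -/
theorem exists_two_fixed [FaithfulSMul G Ω] {X : Subgroup G} (hX : IsPGroup p X) :
    ∃ c d : Ω, c ≠ d ∧ c ∈ fixSet Ω X ∧ d ∈ fixSet Ω X := by
  have h := (card_fixSet_modEq hA hp2 hev hX).symm.trans (card_modEq_two hA hp2 hev)
  have hp3 : 3 ≤ p := lt_of_le_of_ne (Fact.out : p.Prime).two_le (Ne.symm hp2)
  have h2 : 2 ≤ Nat.card (fixSet Ω X) := by
    by_contra hlt
    push Not at hlt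
    have := h.eq_of_lt_of_lt (by omega) (by omega)
    omega
  obtain ⟨⟨c, hc⟩, ⟨d, hd⟩, hne⟩ : ∃ c d : fixSet Ω X, c ≠ d := by
    by_contra hall
    push Not at hall
    haveI : Subsingleton (fixSet Ω X) := ⟨hall⟩
    rcases isEmpty_or_nonempty (fixSet Ω X) with he | hne
    · rw [Nat.card_of_isEmpty] at h2; omega
    · rw [Nat.card_unique] at h2; omega
  exact ⟨c, d, fun e => hne (Subtype.ext e), hc, hd⟩

/-- A Sylow subgroup of a pair stabiliser fixing only that pair is a Sylow subgroup of the group. -/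
theorem maxP_top_of_fix {a b : Ω} {R : Subgroup G} (hR : MaxP p (two a b) R)
    (hfix : ∀ d ∈ fixSet Ω R, d = a ∨ d = b) : MaxP p ⊤ R := by
  obtain ⟨Y, hRY, hY⟩ := exists_maxP (p := p) (K := ⊤) hR.isPGroup le_top
  rcases hRY.lt_or_eq with hlt | rfl
  swap
  · exact hY
  obtain ⟨y, hy, hyR, hyn⟩ := exists_mem_normalizer hY.isPGroup hlt
  have hodd := odd_orderOf_of_pGroup hp2 hY.isPGroup hy
  have haR : a ∈ fixSet Ω R := fun x hx => (mem_two.mp (hR.le hx)).1
  have hbR : b ∈ fixSet Ω R := fun x hx => (mem_two.mp (hR.le hx)).2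
  have h1 := hfix _ (fixSet_smul hyn haR)
  have h2 := hfix _ (fixSet_smul hyn hbR)
  have hy2 : y ∈ two a b := mem_two.mpr ⟨smul_eq_of_pair hodd h1 h2, smul_eq_of_pair hodd h2.symm h1.symm⟩
  have hW := hR.eq_of_le (hY.isPGroup.to_le (sup_le hlt.le (Subgroup.zpowers_le.mpr hy)))
    (sup_le hR.le (Subgroup.zpowers_le.mpr hy2)) le_sup_left
  exact absurd (hW ▸ (le_sup_right : Subgroup.zpowers y ≤ _) (Subgroup.mem_zpowers y)) hyR

/-- Pairs which are the fixed points of Sylow subgroups are conjugate in the stabiliser of a point. -/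
theorem top_pairs_conj {c d d' : Ω} (hne : c ≠ d) {X X' : Subgroup G} (hX : MaxP p ⊤ X) (hX' : MaxP p ⊤ X')
    (hf : ∀ e, e ∈ fixSet Ω X ↔ e = c ∨ e = d) (hf' : ∀ e, e ∈ fixSet Ω X' ↔ e = c ∨ e = d') :
    ∃ g : G, g • c = c ∧ g • d = d' := by
  have hle : ∀ {Y : Subgroup G}, MaxP p ⊤ Y → c ∈ fixSet Ω Y → MaxP p (stabilizer G c) Y := fun hY hc =>
    hY.of_le le_top fun x hx => mem_stabilizer_iff.mpr (hc x hx)
  obtain ⟨g, hg, hgX⟩ := (hle hX ((hf c).mpr (Or.inl rfl))).conj (hle hX' ((hf' c).mpr (Or.inl rfl)))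
  have hgc := mem_stabilizer_iff.mp hg
  have h : g • d ∈ fixSet Ω X' := fun x hx => by
    have h1 := (hf d).mpr (Or.inr rfl) _ ((hgX (g⁻¹ * x * g)).mpr (by simpa [mul_assoc] using hx))
    rwa [mul_smul, mul_smul, inv_smul_eq_iff] at h1
  rcases (hf' _).mp h with h1 | h1
  · exact absurd (smul_left_cancel g (h1.trans hgc.symm)).symm hne
  · exact ⟨g, hgc, h1⟩

/-- S3: a maximal `p`-group with three fixed points is normalised by an involution fixing one of them. -/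
theorem exists_inv_at_fixed [FaithfulSMul G Ω] {T : Subgroup G} (hT : IsPGroup p T) {c d e : Ω}
    (hc : c ∈ fixSet Ω T) (hd : d ∈ fixSet Ω T) (he : e ∈ fixSet Ω T) (hcd : c ≠ d) (hce : c ≠ e) (hde : d ≠ e)
    (hmax : ∀ W : Subgroup G, IsPGroup p W → T < W →
      ∀ r ∈ fixSet Ω W, ∀ s ∈ fixSet Ω W, ∀ t ∈ fixSet Ω W, r = s ∨ r = t ∨ s = t) :
    ∃ w ∈ Subgroup.normalizer (T : Set G), IsInv w ∧ ∃ r ∈ fixSet Ω T, w • r = r := by
  by_contra hno
  push Not at hno
  refine fix_le_two hA (odd_of_pGroup hp2 hT) (fun x hxn hx r hr => hno x hxn hx r hr) hp2 ?_ hc hd he hcd hce hde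
  intro r hr s hs hrs
  have hTrs : T ≤ two r s := fun x hx => mem_two.mpr ⟨hr x hx, hs x hx⟩
  obtain ⟨Q, hTQ, hQ⟩ := exists_maxP hT hTrs
  rcases hTQ.lt_or_eq with hlt | rfl
  swap
  · exact Or.inl (swap_maxP hA hrs.symm hQ)
  refine Or.inr ?_
  set N := Subgroup.normalizer (T : Set G) with hN
  obtain ⟨y, hy, hyT, hyn⟩ := exists_mem_normalizer hQ.isPGroup hlt
  have h0 : T ⊔ Subgroup.zpowers y ≤ N ⊓ two r s := le_inf
    (sup_le Subgroup.le_normalizer (Subgroup.zpowers_le.mpr hyn))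
    (sup_le hTrs (Subgroup.zpowers_le.mpr (hQ.le hy)))
  obtain ⟨P, hYP, hP⟩ := exists_maxP (hQ.isPGroup.to_le (sup_le hlt.le (Subgroup.zpowers_le.mpr hy))) h0
  have hTP : T < P := lt_of_le_of_ne (le_sup_left.trans hYP) fun e =>
    hyT (e.symm ▸ hYP ((le_sup_right : Subgroup.zpowers y ≤ _) (Subgroup.mem_zpowers y)))
  have hrP : r ∈ fixSet Ω P := fun x hx => (mem_two.mp (hP.le hx).2).1
  have hsP : s ∈ fixSet Ω P := fun x hx => (mem_two.mp (hP.le hx).2).2
  have honly : ∀ t ∈ fixSet Ω P, t = r ∨ t = s := fun t ht => by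
    rcases hmax P hP.isPGroup hTP r hrP s hsP t ht with h | h | h
    · exact absurd h hrs
    · exact Or.inl h.symm
    · exact Or.inr h.symm
  refine ⟨P, ?_, hrP, hsP, fun t ht _ => honly t ht⟩
  obtain ⟨Z, hPZ, hZ⟩ := exists_maxP (p := p) (K := N) hP.isPGroup (hP.le.trans inf_le_left)
  rcases hPZ.lt_or_eq with hlt' | rfl
  swap
  · exact hZ
  obtain ⟨g, hgZ, hgP, hgn⟩ := exists_mem_normalizer hZ.isPGroup hlt'
  have hodd := odd_orderOf_of_pGroup hp2 hZ.isPGroup hgZ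
  have h1 := honly _ (fixSet_smul hgn hrP)
  have h2 := honly _ (fixSet_smul hgn hsP)
  have hg2 : g ∈ N ⊓ two r s :=
    ⟨hZ.le hgZ, mem_two.mpr ⟨smul_eq_of_pair hodd h1 h2, smul_eq_of_pair hodd h2.symm h1.symm⟩⟩
  have hW := hP.eq_of_le (hZ.isPGroup.to_le (sup_le hlt'.le (Subgroup.zpowers_le.mpr hgZ)))
    (sup_le hP.le (Subgroup.zpowers_le.mpr hg2)) le_sup_left
  exact absurd (hW ▸ (le_sup_right : Subgroup.zpowers g ≤ _) (Subgroup.mem_zpowers g)) hgP

end Consequences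

end CfsgLib.Bender.B1
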