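import Cfsg.Agent.Lib.Involutions
import Cfsg.Agent.Lib.CoprimeGen
import Mathlib.Algebra.Group.Pointwise.Set.Card

/-!
Bounds for abelian groups acting faithfully.

Blueprint: `blueprint/bender/A6.md`, step P2.
-/

set_option autoImplicit false
set_option linter.unusedSectionVars false
set_option linter.style.haveILetI false

open scoped Pointwise

namespace CfsgLib.Bender.B1

universe u

variable {G : Type u} [Group G]

/-- `w ↦ [w, a]` on an abelian subgroup normalised by `a`. -/
noncomputable def commMap (W : Subgroup G) (hW : ∀ x ∈ W, ∀ y ∈ W, x * y = y * x) (a : G)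
    (ha : ∀ w ∈ W, a * w * a⁻¹ ∈ W) : W →* G where
  toFun w := (w : G)⁻¹ * (a * w * a⁻¹)
  map_one' := by simp
  map_mul' x y := by
    have h : (y : G)⁻¹ * ((x : G)⁻¹ * (a * x * a⁻¹)) = ((x : G)⁻¹ * (a * x * a⁻¹)) * (y : G)⁻¹ :=
      hW _ (inv_mem y.2) _ (mul_mem (inv_mem x.2) (ha _ x.2))
    push_cast
    calc ((x : G) * y)⁻¹ * (a * (x * y) * a⁻¹)
        = ((y : G)⁻¹ * ((x : G)⁻¹ * (a * x * a⁻¹))) * (a * y * a⁻¹) := by group
      _ = _ := by rw [h]; group

variable [Finite G]

/-- An element acting as `w ↦ w c` with `c` fixed and of coprime order fixes `w`. -/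
theorem fixed_of_shift {a w c : G} (h : a * w * a⁻¹ = w * c) (hc : a * c = c * a)
    (hcop : (orderOf a).Coprime (orderOf c)) : c = 1 := by
  have hk : ∀ k : ℕ, a ^ k * w * (a ^ k)⁻¹ = w * c ^ k := by
    intro k
    induction k with
    | zero => simp
    | succ k ih =>
      calc a ^ (k + 1) * w * (a ^ (k + 1))⁻¹ = a * (a ^ k * w * (a ^ k)⁻¹) * a⁻¹ := by rw [pow_succ']; group
        _ = (a * w * a⁻¹) * (a * c ^ k * a⁻¹) := by rw [ih]; group
        _ = w * c ^ (k + 1) := by
          rw [h, ((show Commute a c from hc).pow_right k).eq, mul_inv_cancel_right, pow_succ', mul_assoc]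
  have h1 := hk (orderOf a)
  rw [pow_orderOf_eq_one, one_mul, inv_one, mul_one] at h1
  have h2 : c ^ orderOf a = 1 := mul_eq_left.mp h1.symm
  have h3 := Nat.dvd_gcd (orderOf_dvd_of_pow_eq_one h2) dvd_rfl
  rw [hcop.gcd_eq_one] at h3
  exact orderOf_eq_one_iff.mp (Nat.dvd_one.mp h3)

theorem abelian_bound_aux (n : ℕ) : ∀ W A : Subgroup G, Nat.card W ≤ n → W ≠ ⊥ →
    (∀ x ∈ W, ∀ y ∈ W, x * y = y * x) → (∀ x ∈ A, ∀ y ∈ A, x * y = y * x) →
    (∀ a ∈ A, ∀ w ∈ W, a * w * a⁻¹ ∈ W) → (Nat.card A).Coprime (Nat.card W) →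
    Nat.card A < Nat.card W * Nat.card (A ⊓ Subgroup.centralizer (W : Set G) : Subgroup G) := by
  induction n with
  | zero => exact fun W _ h => absurd h (by have : 0 < Nat.card W := Nat.card_pos; omega)
  | succ n ih =>
    intro W A hn hW hWc hAc hAW hcop
    set C := A ⊓ Subgroup.centralizer (W : Set G) with hC
    by_cases hfix : ∃ a ∈ A, a ∉ C ∧ ∃ w ∈ W, w ≠ 1 ∧ a * w = w * a
    · obtain ⟨a, ha, haC, w, hw, hw1, haw⟩ := hfix
      let φ := commMap W hWc a (hAW a ha)
      set W1 : Subgroup G := W ⊓ Subgroup.centralizer {a}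
      set W2 : Subgroup G := φ.range
      have hW2W : W2 ≤ W := by
        rintro _ ⟨x, rfl⟩
        exact mul_mem (inv_mem x.2) (hAW a ha _ x.2)
      have hker : φ.ker = W1.subgroupOf W := by
        ext x
        rw [MonoidHom.mem_ker, Subgroup.mem_subgroupOf, Subgroup.mem_inf, and_iff_right x.2,
          Subgroup.mem_centralizer_singleton_iff]
        show (x : G)⁻¹ * (a * x * a⁻¹) = 1 ↔ _
        rw [inv_mul_eq_one, eq_mul_inv_iff_mul_eq]
      have hcard : Nat.card W2 * Nat.card W1 = Nat.card W := by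
        rw [← Nat.card_congr (Subgroup.subgroupOfEquivOfLe (inf_le_left : W1 ≤ W)).toEquiv, ← hker,
          Subgroup.card_eq_card_quotient_mul_card_subgroup φ.ker]
        exact congrArg (· * _) (Nat.card_congr (QuotientGroup.quotientKerEquivRange φ).toEquiv).symm
      have hW1 : W1 ≠ ⊥ := fun e => hw1 ((Subgroup.eq_bot_iff_forall _).mp e w
        ⟨hw, Subgroup.mem_centralizer_singleton_iff.mpr haw.symm⟩)
      have hW2 : W2 ≠ ⊥ := fun e => haC ⟨ha, fun x hx => by
        have h1 : (x : G)⁻¹ * (a * x * a⁻¹) = 1 := (Subgroup.eq_bot_iff_forall _).mp e _ ⟨⟨x, hx⟩, rfl⟩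
        rw [inv_mul_eq_one, eq_mul_inv_iff_mul_eq] at h1
        exact h1⟩
      have hlt : ∀ {V : Subgroup G}, V ≠ ⊥ → 1 < Nat.card V := fun h => (Subgroup.one_lt_card_iff_ne_bot _).mpr h
      have hn1 : Nat.card W1 ≤ n := by
        have : 2 * Nat.card W1 ≤ Nat.card W2 * Nat.card W1 := Nat.mul_le_mul_right _ (hlt hW2)
        have : 0 < Nat.card W1 := Nat.card_pos
        omega
      have hn2 : Nat.card W2 ≤ n := by
        have : Nat.card W2 * 2 ≤ Nat.card W2 * Nat.card W1 := Nat.mul_le_mul_left _ (hlt hW1)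
        have : 0 < Nat.card W2 := Nat.card_pos
        omega
      set K := A ⊓ Subgroup.centralizer (W1 : Set G)
      have hA1 : ∀ b ∈ A, ∀ x ∈ W1, b * x * b⁻¹ ∈ W1 := fun b hb x hx => by
        refine ⟨hAW b hb x hx.1, Subgroup.mem_centralizer_singleton_iff.mpr ?_⟩
        have hxa : x * a = a * x := Subgroup.mem_centralizer_singleton_iff.mp hx.2
        have hba : b * a = a * b := hAc b hb a ha
        calc b * x * b⁻¹ * a = b * x * (b⁻¹ * (a * b)) * b⁻¹ := by group
          _ = b * (x * a) * b⁻¹ := by rw [← hba]; group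
          _ = (b * a) * x * b⁻¹ := by rw [hxa]; group
          _ = a * (b * x * b⁻¹) := by rw [hba]; group
      have hA2 : ∀ b ∈ A, ∀ x ∈ W2, b * x * b⁻¹ ∈ W2 := by
        rintro b hb _ ⟨x, rfl⟩
        refine ⟨⟨b * x * b⁻¹, hAW b hb _ x.2⟩, ?_⟩
        have hba : b * a = a * b := hAc b hb a ha
        show (b * (x : G) * b⁻¹)⁻¹ * (a * (b * x * b⁻¹) * a⁻¹) = b * ((x : G)⁻¹ * (a * x * a⁻¹)) * b⁻¹
        calc (b * (x : G) * b⁻¹)⁻¹ * (a * (b * x * b⁻¹) * a⁻¹)
            = b * (x : G)⁻¹ * b⁻¹ * ((a * b) * x * (a * b)⁻¹) := by group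
          _ = b * ((x : G)⁻¹ * (a * x * a⁻¹)) * b⁻¹ := by rw [← hba]; group
      have hd1 : Nat.card W1 ∣ Nat.card W := Subgroup.card_dvd_of_le inf_le_left
      have hd2 : Nat.card W2 ∣ Nat.card W := Subgroup.card_dvd_of_le hW2W
      have b1 := ih W1 A hn1 hW1 (fun x hx y hy => hWc x hx.1 y hy.1) hAc hA1 (hcop.coprime_dvd_right hd1)
      have b2 := ih W2 K hn2 hW2 (fun x hx y hy => hWc x (hW2W hx) y (hW2W hy))
        (fun x hx y hy => hAc x hx.1 y hy.1) (fun b hb => hA2 b hb.1)
        ((hcop.coprime_dvd_left (Subgroup.card_dvd_of_le inf_le_left)).coprime_dvd_right hd2)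
      have hKC : K ⊓ Subgroup.centralizer (W2 : Set G) ≤ C := by
        rintro b ⟨⟨hb, hb1⟩, hb2⟩
        refine ⟨hb, fun x hx => ?_⟩
        have hy : x⁻¹ * (a * x * a⁻¹) ∈ W2 := ⟨⟨x, hx⟩, rfl⟩
        have e2 : (x⁻¹ * (a * x * a⁻¹)) * b = b * (x⁻¹ * (a * x * a⁻¹)) := hb2 _ hy
        have hba : b * a = a * b := hAc b hb a ha
        have hbx : b * x * b⁻¹ ∈ W := hAW b hb x hx
        have hc : x⁻¹ * (b * x * b⁻¹) ∈ W1 := by
          refine ⟨W.mul_mem (W.inv_mem hx) hbx, Subgroup.mem_centralizer_singleton_iff.mpr ?_⟩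
          have e3 : (b * x * b⁻¹)⁻¹ * (a * (b * x * b⁻¹) * a⁻¹) = x⁻¹ * (a * x * a⁻¹) := by
            calc (b * x * b⁻¹)⁻¹ * (a * (b * x * b⁻¹) * a⁻¹)
                = b * x⁻¹ * b⁻¹ * ((a * b) * x * (a * b)⁻¹) := by group
              _ = b * (x⁻¹ * (a * x * a⁻¹)) * b⁻¹ := by rw [← hba]; group
              _ = x⁻¹ * (a * x * a⁻¹) := by rw [← e2, mul_inv_cancel_right]
          have e4 : φ ((⟨x, hx⟩ : W)⁻¹ * ⟨b * x * b⁻¹, hbx⟩) = 1 := by
            rw [map_mul, map_inv]
            show (x⁻¹ * (a * x * a⁻¹))⁻¹ * ((b * x * b⁻¹)⁻¹ * (a * (b * x * b⁻¹) * a⁻¹)) = 1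
            rw [e3, inv_mul_cancel]
          have e5 := MonoidHom.mem_ker.mpr e4
          rw [hker, Subgroup.mem_subgroupOf] at e5
          exact (Subgroup.mem_centralizer_singleton_iff.mp e5.2)
        have h1 := fixed_of_shift (a := b) (w := x) (c := x⁻¹ * (b * x * b⁻¹))
          (by rw [mul_inv_cancel_left]) (hb1 _ hc).symm
          ((hcop.coprime_dvd_left (Subgroup.orderOf_dvd_natCard A hb)).coprime_dvd_right
            (Subgroup.orderOf_dvd_natCard W hc.1))
        rw [inv_mul_eq_one, eq_mul_inv_iff_mul_eq] at h1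
        exact h1
      calc Nat.card A < Nat.card W1 * Nat.card K := b1
        _ < Nat.card W1 * (Nat.card W2 * Nat.card (K ⊓ Subgroup.centralizer (W2 : Set G) : Subgroup G)) :=
          Nat.mul_lt_mul_of_pos_left b2 Nat.card_pos
        _ ≤ Nat.card W1 * (Nat.card W2 * Nat.card C) :=
          Nat.mul_le_mul_left _ (Nat.mul_le_mul_left _ (Nat.le_of_dvd Nat.card_pos (Subgroup.card_dvd_of_le hKC)))
        _ = Nat.card W * Nat.card C := by rw [← hcard]; ring
    · push Not at hfix
      obtain ⟨⟨w, hw⟩, hw1⟩ : ∃ w : W, w ≠ 1 := by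
        haveI : Nontrivial W := (Subgroup.nontrivial_iff_ne_bot _).mpr hW
        exact exists_ne 1
      have hw1' : w ≠ 1 := fun e => hw1 (Subtype.ext e)
      let f : A ⧸ C.subgroupOf A → {x : W // x ≠ 1} := Quotient.lift
        (fun a : A => (⟨⟨(a : G) * w * (a : G)⁻¹, hAW a a.2 w hw⟩,
          fun e => hw1' (conj_eq_one_iff.mp (congrArg Subtype.val e))⟩ : {x : W // x ≠ 1}))
        fun a b h => by
          have h1 : ((a : G)⁻¹ * b) ∈ C := Subgroup.mem_subgroupOf.mp
            (QuotientGroup.leftRel_apply.mp (show QuotientGroup.leftRel (C.subgroupOf A) a b from h))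
          have h2 : w * ((a : G)⁻¹ * b) = (a : G)⁻¹ * b * w := h1.2 w hw
          refine Subtype.ext (Subtype.ext ?_)
          calc (a : G) * w * (a : G)⁻¹ = (a : G) * (w * ((a : G)⁻¹ * b)) * (b : G)⁻¹ := by group
            _ = b * w * (b : G)⁻¹ := by rw [h2]; group
      have hf : Function.Injective f := fun x y h => by
        induction x using Quotient.inductionOn with | _ a => ?_
        induction y using Quotient.inductionOn with | _ b => ?_
        refine Quotient.sound (QuotientGroup.leftRel_apply.mpr ?_)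
        have h1 : (a : G) * w * (a : G)⁻¹ = b * w * (b : G)⁻¹ := congrArg (fun z => ((z.1 : W) : G)) h
        have h2 : ((a : G)⁻¹ * b) ∈ A := (a⁻¹ * b).2
        show ((a : G)⁻¹ * b) ∈ C
        by_contra h3
        refine hfix _ h2 h3 w hw hw1' ?_
        calc (a : G)⁻¹ * b * w = (a : G)⁻¹ * (b * w * (b : G)⁻¹) * b := by group
          _ = w * ((a : G)⁻¹ * b) := by rw [← h1]; group
      have h1 := Nat.card_le_card_of_injective f hf
      have h2 : Nat.card {x : W // x ≠ 1} + 1 = Nat.card W := by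
        classical
        rw [← Finite.card_option]
        exact Nat.card_congr
          { toFun := fun o => o.elim 1 Subtype.val
            invFun := fun x => if h : x = 1 then none else some ⟨x, h⟩
            left_inv := fun o => by cases o with | none => simp | some x => simp [x.2]
            right_inv := fun x => by by_cases h : x = 1 <;> simp [h] }
      rw [Subgroup.card_eq_card_quotient_mul_card_subgroup (C.subgroupOf A),
        Nat.card_congr (Subgroup.subgroupOfEquivOfLe (inf_le_left : C ≤ A)).toEquiv]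
      exact Nat.mul_lt_mul_of_pos_right (by omega) Nat.card_pos

/-- An abelian group acting faithfully and coprimely on an abelian group is smaller. -/
theorem card_lt_of_coprime_faithful {A W : Subgroup G} (hW : W ≠ ⊥) (hWc : ∀ x ∈ W, ∀ y ∈ W, x * y = y * x)
    (hAc : ∀ x ∈ A, ∀ y ∈ A, x * y = y * x) (hAW : ∀ a ∈ A, ∀ w ∈ W, a * w * a⁻¹ ∈ W)
    (hcop : (Nat.card A).Coprime (Nat.card W)) (hf : ∀ a ∈ A, (∀ w ∈ W, a * w = w * a) → a = 1) :
    Nat.card A < Nat.card W := by
  have h := abelian_bound_aux _ W A le_rfl hW hWc hAc hAW hcop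
  have h1 : A ⊓ Subgroup.centralizer (W : Set G) = ⊥ :=
    (Subgroup.eq_bot_iff_forall _).mpr fun a ha => hf a ha.1 fun w hw => (ha.2 w hw).symm
  rwa [h1, Subgroup.card_bot, mul_one] at h

section Elementary

variable {l : ℕ} [Fact l.Prime] {F W : Subgroup G}

/-- `C_W(V)`. -/
abbrev cW (W V : Subgroup G) : Subgroup G := W ⊓ Subgroup.centralizer (V : Set G)

theorem elementary_bound_aux (hWp : IsPGroup l W) (hWc : ∀ x ∈ W, ∀ y ∈ W, x * y = y * x)
    (hFcop : (Nat.card F).Coprime l) (hFW : ∀ f ∈ F, ∀ w ∈ W, f * w * f⁻¹ ∈ W)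
    (hFf : ∀ f ∈ F, (∀ w ∈ W, f * w = w * f) → f = 1) (n : ℕ) :
    ∀ V : Subgroup G, Nat.card V ≤ n → (∀ x ∈ V, ∀ y ∈ V, x * y = y * x) → (∀ v ∈ V, v ^ l = 1) →
      (∀ v ∈ V, ∀ f ∈ F, v * f * v⁻¹ ∈ F) → (∀ v ∈ V, ∀ w ∈ W, v * w * v⁻¹ ∈ W) →
      (∀ v ∈ V, (∀ f ∈ F, v * f = f * v) → v = 1) →
      Nat.card V * Nat.card (cW W V) ≤ Nat.card W := by
  induction n with
  | zero => exact fun V h => absurd h (by have : 0 < Nat.card V := Nat.card_pos; omega)
  | succ n ih =>
    intro V hn hVc hVl hVF hVW hVf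
    by_cases hV : V = ⊥
    · subst hV
      rw [Subgroup.card_bot, one_mul]
      exact Subgroup.card_le_of_le inf_le_left
    classical
    let Hs : Set (Subgroup G) :=
      {H | H ≤ V ∧ ∃ f ∈ F, (∀ h ∈ H, h * f = f * h) ∧ ∃ v ∈ V, v * f ≠ f * v}
    obtain ⟨v₀, hv₀, hv₀1⟩ := (Subgroup.bot_or_exists_ne_one V).resolve_left hV
    have hne : Hs.Nonempty := ⟨⊥, bot_le, by
      by_contra h
      push Not at h
      exact hv₀1 (hVf v₀ hv₀ fun f hf => h f hf (fun x hx => by rw [Subgroup.mem_bot.mp hx]; simp) v₀ hv₀)⟩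
    obtain ⟨H, hHmax⟩ := (Set.toFinite Hs).exists_maximal hne
    obtain ⟨⟨hHV, f, hfF, hHf, v, hv, hvf⟩, hmax⟩ := hHmax
    have hHlt : Nat.card H < Nat.card V :=
      lt_of_le_of_ne (Subgroup.card_le_of_le hHV) fun e => hvf (by
        have := Subgroup.eq_of_le_of_card_ge hHV e.ge
        exact hHf v (this ▸ hv))
    -- `H` has index `l`
    have hidx : Nat.card V ≤ l * Nat.card H := by
      obtain ⟨K, hKmax⟩ := (Set.toFinite {K : Subgroup G | K ≤ V ∧ H ⊓ K = ⊥}).exists_maximal ⟨⊥, bot_le, by simp⟩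
      obtain ⟨⟨hKV, hKH⟩, hKm⟩ := hKmax
      have hcover : H ⊔ K = V := by
        refine le_antisymm (sup_le hHV hKV) fun x hx => ?_
        by_contra hx'
        have hle : K ≤ K ⊔ Subgroup.zpowers x := le_sup_left
        have hxK : x ∉ K := fun h => hx' (le_sup_right (a := H) h)
        have hbig : ¬ (H ⊓ (K ⊔ Subgroup.zpowers x) = ⊥) := fun e => hxK
          (hKm ⟨sup_le hKV (Subgroup.zpowers_le.mpr hx), e⟩ hle (le_sup_right (a := K) (Subgroup.mem_zpowers x)))
        obtain ⟨y, ⟨hyH, hyK⟩, hy1⟩ := (Subgroup.bot_or_exists_ne_one _).resolve_left hbig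
        have hn : Subgroup.zpowers x ≤ Subgroup.normalizer (K : Set G) := Subgroup.zpowers_le.mpr (by
          refine Subgroup.mem_normalizer_iff.mpr fun k => ⟨fun hk => ?_, fun hk => ?_⟩
          · rwa [hVc x hx k (hKV hk), mul_inv_cancel_right]
          · have hk' : k ∈ V := by simpa [mul_assoc] using mul_mem (mul_mem (inv_mem hx) (hKV hk)) hx
            rwa [hVc x hx k hk', mul_inv_cancel_right] at hk)
        have hyK' : y ∈ ((Subgroup.zpowers x ⊔ K : Subgroup G) : Set G) := sup_comm K (Subgroup.zpowers x) ▸ hyK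
        rw [Subgroup.coe_mul_of_left_le_normalizer_right _ _ hn] at hyK'
        obtain ⟨z, hz, k, hk, rfl⟩ := hyK'
        obtain ⟨i, rfl⟩ := hz
        by_cases hi : (l : ℤ) ∣ i
        · obtain ⟨j, rfl⟩ := hi
          have hx1 : x ^ ((l : ℤ) * j) = 1 := by rw [zpow_mul, zpow_natCast, hVl x hx, one_zpow]
          refine hy1 ?_
          simp only [hx1, one_mul] at hyH ⊢
          exact (Subgroup.eq_bot_iff_forall _).mp hKH k ⟨hyH, hk⟩
        · have hco : IsCoprime (l : ℤ) i :=
            ((Nat.prime_iff_prime_int.mp (Fact.out : l.Prime)).coprime_iff_not_dvd).mpr hi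
          obtain ⟨s, t, hst⟩ := hco
          have hxe : x = (x ^ i) ^ t := by
            rw [← zpow_mul]
            conv_lhs => rw [← zpow_one x, ← hst]
            rw [zpow_add, zpow_mul', zpow_natCast, hVl x hx, one_zpow, one_mul, mul_comm t i]
          have hxi : x ^ i ∈ H ⊔ K := by
            have := mul_mem (le_sup_left (b := K) hyH) (le_sup_right (a := H) (inv_mem hk))
            simpa using this
          exact hx' (hxe ▸ zpow_mem hxi t)
      have hKcyc : IsCyclic K := by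
        by_contra hK
        haveI : IsMulCommutative K := ⟨⟨fun x y => Subtype.ext (hVc _ (hKV x.2) _ (hKV y.2))⟩⟩
        set FH := F ⊓ Subgroup.centralizer (H : Set G)
        have hKF : K ≤ Subgroup.normalizer (FH : Set G) := by
          have aux : ∀ k ∈ V, ∀ g ∈ FH, k * g * k⁻¹ ∈ FH := fun k hk g hg => by
            refine ⟨hVF k hk g hg.1, fun h hh => ?_⟩
            have e1 : h * g = g * h := hg.2 h hh
            have e2 : k * h = h * k := hVc k hk h (hHV hh)
            calc h * (k * g * k⁻¹) = (h * k) * g * k⁻¹ := by group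
              _ = k * (h * g) * k⁻¹ := by rw [← e2]; group
              _ = k * g * k⁻¹ * ((k * h) * k⁻¹) := by rw [e1]; group
              _ = k * g * k⁻¹ * h := by rw [e2, mul_inv_cancel_right]
          intro k hk
          refine Subgroup.mem_normalizer_iff.mpr fun g => ⟨aux k (hKV hk) g, fun hg => ?_⟩
          simpa [mul_assoc] using aux k⁻¹ (inv_mem (hKV hk)) _ hg
        have hcop : (Nat.card K).Coprime (Nat.card FH) := by
          have hKp : IsPGroup l K := fun k => ⟨1, Subtype.ext (by rw [pow_one]; exact hVl _ (hKV k.2))⟩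
          obtain ⟨k, hk⟩ := IsPGroup.iff_card.mp hKp
          rw [hk]
          exact Nat.Coprime.pow_left _ ((hFcop.coprime_dvd_left (Subgroup.card_dvd_of_le inf_le_left)).symm)
        have hgen := CfsgLib.coprime_generated_by_centralizers hK hKF hcop
        have hfH : f ∈ FH := ⟨hfF, hHf⟩
        have hbad : ¬ (⨆ a ∈ {a : G | a ∈ K ∧ a ≠ 1}, FH ⊓ Subgroup.centralizer {a}) ≤
            Subgroup.centralizer {v} := by
          rw [hgen]
          exact fun h => hvf (Subgroup.mem_centralizer_singleton_iff.mp (h hfH)).symm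
        rw [iSup₂_le_iff] at hbad
        push Not at hbad
        obtain ⟨k, ⟨hk, hk1⟩, hkv⟩ := hbad
        obtain ⟨g, ⟨hgFH, hgk⟩, hgv⟩ := SetLike.not_le_iff_exists.mp hkv
        have hHk : H ⊔ Subgroup.zpowers k ≤ Subgroup.centralizer {g} := sup_le
          (fun h hh => Subgroup.mem_centralizer_singleton_iff.mpr (hgFH.2 h hh))
          (Subgroup.zpowers_le.mpr
            (Subgroup.mem_centralizer_singleton_iff.mpr (Subgroup.mem_centralizer_singleton_iff.mp hgk).symm))
        have hkH : k ∉ H := fun h => hk1 ((Subgroup.eq_bot_iff_forall _).mp hKH k ⟨h, hk⟩)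
        exact hkH (hmax ⟨sup_le hHV (Subgroup.zpowers_le.mpr (hKV hk)), g, hgFH.1,
          fun h hh => Subgroup.mem_centralizer_singleton_iff.mp (hHk hh), v, hv,
          fun e => hgv (Subgroup.mem_centralizer_singleton_iff.mpr e.symm)⟩ le_sup_left
          (le_sup_right (a := H) (Subgroup.mem_zpowers k)))
      obtain ⟨g, hg⟩ := hKcyc.exists_generator
      have hKl : Nat.card K ≤ l := by
        rw [← Nat.card_congr (Equiv.subtypeUnivEquiv hg)]
        show Nat.card (Subgroup.zpowers g) ≤ l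
        rw [Nat.card_zpowers, ← Subgroup.orderOf_coe]
        exact orderOf_le_of_pow_eq_one (Fact.out : l.Prime).pos (hVl _ (hKV g.2))
      have hKn : K ≤ Subgroup.normalizer (H : Set G) := fun k hk => Subgroup.mem_normalizer_iff.mpr fun h =>
        ⟨fun hh => by rwa [hVc k (hKV hk) h (hHV hh), mul_inv_cancel_right], fun hh => by
          have hh' : h ∈ V := by simpa [mul_assoc] using mul_mem (mul_mem (inv_mem (hKV hk)) (hHV hh)) (hKV hk)
          rwa [hVc k (hKV hk) h hh', mul_inv_cancel_right] at hh⟩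
      calc Nat.card V = Nat.card ((H : Set G) * (K : Set G) : Set G) := by
            rw [← hcover, ← Subgroup.coe_mul_of_right_le_normalizer_left _ _ hKn]; rfl
        _ ≤ Nat.card H * Nat.card K := Set.natCard_mul_le
        _ ≤ l * Nat.card H := by rw [mul_comm l]; exact Nat.mul_le_mul_left _ hKl
    have hH := ih H (by omega) (fun x hx y hy => hVc x (hHV hx) y (hHV hy)) (fun x hx => hVl x (hHV hx))
      (fun x hx => hVF x (hHV hx)) (fun x hx => hVW x (hHV hx)) (fun x hx => hVf x (hHV hx))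
    -- `C_W(V) < C_W(H)`
    have hle : cW W V ≤ cW W H := fun w hw => ⟨hw.1, fun h hh => hw.2 h (hHV hh)⟩
    have hlt : cW W V ≠ cW W H := by
      intro e
      have hHw : ∀ g ∈ F, (∀ h ∈ H, h * g = g * h) → ∀ w ∈ cW W H, g * w * g⁻¹ ∈ cW W H := fun g hg hgH w hw => by
        refine ⟨hFW g hg w hw.1, fun h hh => ?_⟩
        have e1 : h * w = w * h := hw.2 h hh
        calc h * (g * w * g⁻¹) = (h * g) * w * g⁻¹ := by group
          _ = g * (h * w) * g⁻¹ := by rw [hgH h hh]; group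
          _ = g * w * g⁻¹ * ((g * h) * g⁻¹) := by rw [e1]; group
          _ = g * w * g⁻¹ * h := by rw [← hgH h hh, mul_inv_cancel_right]
      set c := v * f * v⁻¹ * f⁻¹ with hcdef
      have hcF : c ∈ F := mul_mem (hVF v hv f hfF) (inv_mem hfF)
      have hvw : ∀ w ∈ cW W H, v * w = w * v := fun w hw => (e ▸ hw : w ∈ cW W V).2 v hv
      have hcH : ∀ h ∈ H, h * c = c * h := fun h hh => by
        have e2 : Commute h v := (hVc v hv h (hHV hh)).symm
        exact (((e2.mul_right (hHf h hh)).mul_right e2.inv_right).mul_right (Commute.inv_right (hHf h hh))).eq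
      have hcw : ∀ w ∈ cW W H, c * w = w * c := fun w hw => by
        have h1 : f⁻¹ * w * f ∈ cW W H := by
          simpa using hHw f⁻¹ (inv_mem hfF) (fun h hh => (Commute.inv_right (hHf h hh)).eq) w hw
        calc c * w = v * f * (v⁻¹ * ((f⁻¹ * w * f))) * f⁻¹ := by rw [hcdef]; group
          _ = v * f * (f⁻¹ * w * f * v⁻¹) * f⁻¹ := by
            rw [(Commute.inv_left (show Commute v (f⁻¹ * w * f) from hvw _ h1)).eq]
          _ = (v * w) * f * v⁻¹ * f⁻¹ := by group
          _ = w * c := by rw [hvw w hw, hcdef]; group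
      -- an element commuting with `H` and trivial on `C_W(H)` is trivial on `W`
      have hc1 : c = 1 := by
        refine hFf c hcF ?_
        let φ := commMap W hWc c (hFW c hcF)
        by_contra hne
        push Not at hne
        obtain ⟨w₁, hw₁, hw₁c⟩ := hne
        have hR : φ.range ≠ ⊥ := fun e0 => hw₁c (by
          have h1 : w₁⁻¹ * (c * w₁ * c⁻¹) = 1 := (Subgroup.eq_bot_iff_forall _).mp e0 _ ⟨⟨w₁, hw₁⟩, rfl⟩
          rw [inv_mul_eq_one, eq_mul_inv_iff_mul_eq] at h1
          exact h1.symm)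
        have hRW : φ.range ≤ W := by
          rintro _ ⟨x, rfl⟩
          exact mul_mem (inv_mem x.2) (hFW c hcF _ x.2)
        have hHp : IsPGroup l H := fun h => ⟨1, Subtype.ext (by rw [pow_one]; exact hVl _ (hHV h.2))⟩
        have hRn : ∀ h ∈ H, ∀ y ∈ φ.range, h * y * h⁻¹ ∈ φ.range := by
          rintro h hh _ ⟨x, rfl⟩
          refine ⟨⟨h * x * h⁻¹, hVW h (hHV hh) _ x.2⟩, ?_⟩
          show (h * (x : G) * h⁻¹)⁻¹ * (c * (h * x * h⁻¹) * c⁻¹) = h * ((x : G)⁻¹ * (c * x * c⁻¹)) * h⁻¹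
          calc (h * (x : G) * h⁻¹)⁻¹ * (c * (h * x * h⁻¹) * c⁻¹)
              = h * (x : G)⁻¹ * h⁻¹ * ((c * h) * x * (c * h)⁻¹) := by group
            _ = _ := by rw [← hcH h hh]; group
        obtain ⟨y, hy, hy1, hyH⟩ : ∃ y ∈ φ.range, y ≠ 1 ∧ ∀ h ∈ H, h * y = y * h := by
          haveI : Nontrivial φ.range := (Subgroup.nontrivial_iff_ne_bot _).mpr hR
          let act : MulAction H φ.range :=
            { smul := fun h y => ⟨(h : G) * y * (h : G)⁻¹, hRn h h.2 y y.2⟩
              one_smul := fun y => Subtype.ext (show (1 : G) * y * (1 : G)⁻¹ = y by simp)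
              mul_smul := fun h k y => Subtype.ext (show ((h : G) * k) * y * ((h : G) * k)⁻¹ =
                (h : G) * ((k : G) * y * (k : G)⁻¹) * (h : G)⁻¹ by group) }
          have hd : l ∣ Nat.card φ.range := by
            obtain ⟨k, hk⟩ := IsPGroup.iff_card.mp (hWp.to_le hRW)
            rw [hk]
            refine dvd_pow_self l fun e0 => ?_
            rw [e0, pow_zero] at hk
            exact absurd hk (Finite.one_lt_card).ne'
          have hone : (1 : φ.range) ∈ MulAction.fixedPoints H φ.range :=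
            fun h => Subtype.ext (show (h : G) * 1 * (h : G)⁻¹ = 1 by simp)
          obtain ⟨y, hy, hy'⟩ := hHp.exists_fixed_point_of_prime_dvd_card_of_fixed_point _ hd hone
          refine ⟨y, y.2, fun e0 => hy' (Subtype.ext e0.symm), fun h hh => ?_⟩
          have h1 : h * (y : G) * h⁻¹ = y := congrArg Subtype.val (hy ⟨h, hh⟩)
          exact mul_inv_eq_iff_eq_mul.mp h1
        have hyc : c * y = y * c := hcw y ⟨hRW hy, hyH⟩
        obtain ⟨x, hx⟩ := hy
        refine hy1 (fixed_of_shift (a := c) (w := (x : G)) ?_ hyc ?_)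
        · rw [← hx]; show c * x * c⁻¹ = x * ((x : G)⁻¹ * (c * x * c⁻¹)); rw [mul_inv_cancel_left]
        · obtain ⟨k, hk⟩ := IsPGroup.iff_card.mp hWp
          exact ((hFcop.pow_right k).coprime_dvd_left (Subgroup.orderOf_dvd_natCard F hcF)).coprime_dvd_right
            (hk ▸ Subgroup.orderOf_dvd_natCard W (hRW ⟨x, hx⟩))
      rw [hcdef, mul_inv_eq_one, mul_inv_eq_iff_eq_mul] at hc1
      exact hvf hc1
    have hstep : l * Nat.card (cW W V) ≤ Nat.card (cW W H) := by
      obtain ⟨a, ha⟩ := IsPGroup.iff_card.mp (hWp.to_le (inf_le_left : cW W V ≤ W))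
      obtain ⟨b, hb⟩ := IsPGroup.iff_card.mp (hWp.to_le (inf_le_left : cW W H ≤ W))
      have : Nat.card (cW W V) < Nat.card (cW W H) :=
        lt_of_le_of_ne (Subgroup.card_le_of_le hle) fun e => hlt (Subgroup.eq_of_le_of_card_ge hle e.ge)
      rw [ha, hb] at this ⊢
      have hab := (Nat.pow_lt_pow_iff_right (Fact.out : l.Prime).one_lt).mp this
      rw [← pow_succ']
      exact Nat.pow_le_pow_right (Fact.out : l.Prime).pos hab
    calc Nat.card V * Nat.card (cW W V) ≤ (l * Nat.card H) * Nat.card (cW W V) :=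
          Nat.mul_le_mul_right _ hidx
      _ = Nat.card H * (l * Nat.card (cW W V)) := by ring
      _ ≤ Nat.card H * Nat.card (cW W H) := Nat.mul_le_mul_left _ hstep
      _ ≤ Nat.card W := hH

/-- An elementary abelian `l`-group, faithful on an `l'`-group which is faithful on an abelian `l`-group `W`,
is smaller than `W`. -/
theorem card_lt_of_coprime_faithful_pair {V : Subgroup G} (hW : W ≠ ⊥) (hWp : IsPGroup l W)
    (hWc : ∀ x ∈ W, ∀ y ∈ W, x * y = y * x)
    (hFcop : (Nat.card F).Coprime l) (hFW : ∀ f ∈ F, ∀ w ∈ W, f * w * f⁻¹ ∈ W)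
    (hFf : ∀ f ∈ F, (∀ w ∈ W, f * w = w * f) → f = 1)
    (hVc : ∀ x ∈ V, ∀ y ∈ V, x * y = y * x) (hVl : ∀ v ∈ V, v ^ l = 1)
    (hVF : ∀ v ∈ V, ∀ f ∈ F, v * f * v⁻¹ ∈ F) (hVW : ∀ v ∈ V, ∀ w ∈ W, v * w * v⁻¹ ∈ W)
    (hVf : ∀ v ∈ V, (∀ f ∈ F, v * f = f * v) → v = 1) : Nat.card V < Nat.card W := by
  have h := elementary_bound_aux hWp hWc hFcop hFW hFf _ V le_rfl hVc hVl hVF hVW hVf
  haveI : Nontrivial W := (Subgroup.nontrivial_iff_ne_bot _).mpr hW
  have hVp : IsPGroup l V := fun v => ⟨1, Subtype.ext (by rw [pow_one]; exact hVl _ v.2)⟩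
  let act : MulAction V W :=
    { smul := fun v w => ⟨(v : G) * w * (v : G)⁻¹, hVW v v.2 w w.2⟩
      one_smul := fun w => Subtype.ext (show (1 : G) * w * (1 : G)⁻¹ = w by simp)
      mul_smul := fun v v' w => Subtype.ext (show ((v : G) * v') * w * ((v : G) * v')⁻¹ =
        (v : G) * ((v' : G) * w * (v' : G)⁻¹) * (v : G)⁻¹ by group) }
  have hd : l ∣ Nat.card W := by
    obtain ⟨k, hk⟩ := IsPGroup.iff_card.mp hWp
    rw [hk]
    refine dvd_pow_self l fun e0 => ?_
    rw [e0, pow_zero] at hk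
    exact absurd hk (Finite.one_lt_card).ne'
  have hone : (1 : W) ∈ MulAction.fixedPoints V W :=
    fun v => Subtype.ext (show (v : G) * 1 * (v : G)⁻¹ = 1 by simp)
  obtain ⟨y, hy, hy'⟩ := hVp.exists_fixed_point_of_prime_dvd_card_of_fixed_point _ hd hone
  have hyC : (y : G) ∈ cW W V := ⟨y.2, fun v hv => mul_inv_eq_iff_eq_mul.mp (congrArg Subtype.val (hy ⟨v, hv⟩))⟩
  have h2 : 1 < Nat.card (cW W V) := (Subgroup.one_lt_card_iff_ne_bot _).mpr fun e =>
    hy' (Subtype.ext ((Subgroup.eq_bot_iff_forall _).mp e _ hyC).symm)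
  have h3 : Nat.card V * 2 ≤ Nat.card V * Nat.card (cW W V) := Nat.mul_le_mul_left _ h2
  have : 0 < Nat.card V := Nat.card_pos
  omega

end Elementary

end CfsgLib.Bender.B1
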