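import Cfsg.Agent.Lib.Bender.B1.Line
import Cfsg.Agent.Lib.Bender.B1.Growth
import Cfsg.Agent.Lib.Bender.ExtZJ
import Cfsg.Agent.Lib.PLocal.Offender.Dual
import Cfsg.Agent.Lib.PLocal.SolvableSeparable

/-!
Case 1 of B1: a maximal number `e > 1` of inverted elements forces a kernel of Lie type.

Blueprint: `blueprint/bender/A6.md`, P2 and P3.
-/

set_option autoImplicit false
set_option linter.unusedSectionVars false
set_option linter.style.haveILetI false
set_option linter.unusedVariables false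

namespace CfsgLib.Bender.B1

open MulAction CfsgLib.SuzukiRankOne Cfsg
open CfsgLib.Bender.Ext (IsSylowOf centOther mem_centOther pCoreOf_le isPGroup_pCoreOf normalizer_le_pCoreOf)
open CfsgLib.Bender.TwoClosed (IsInv InvAt Swap two mem_two smul_conj exists_inv_of_even odd_card_of_forall
  odd_orderOf eq_one_of_inv_eq eq_one_of_two_odd)

universe u

variable {G : Type u} [Group G] [Finite G]

section Cores

theorem mem_normalizer_of_conj {H : Subgroup G} {g : G} (h1 : ∀ x ∈ H, g * x * g⁻¹ ∈ H) :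
    g ∈ Subgroup.normalizer (H : Set G) := by
  refine Subgroup.mem_normalizer_iff.mpr fun x => ⟨h1 x, fun hx => ?_⟩
  let f : H → H := fun z => ⟨g * z * g⁻¹, h1 z z.2⟩
  have hf : Function.Injective f := fun a b he => Subtype.ext (by
    have := congrArg Subtype.val he
    simpa [f] using this)
  obtain ⟨z, hz⟩ := (Finite.injective_iff_surjective.mp hf) ⟨_, hx⟩
  have h2 : g * z * g⁻¹ = g * x * g⁻¹ := congrArg Subtype.val hz
  rw [mul_left_inj, mul_right_inj] at h2
  exact h2 ▸ z.2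

theorem le_pCoreOf' {p : ℕ} {M P : Subgroup G} (hPM : P ≤ M) (hn : M ≤ Subgroup.normalizer (P : Set G))
    (hp : IsPGroup p P) : P ≤ pCoreOf p M := by
  haveI : (P.subgroupOf M).Normal := (Subgroup.normal_subgroupOf_iff_le_normalizer hPM).mpr hn
  intro x hx
  exact ⟨⟨x, hPM hx⟩, CfsgLib.le_pCore (hp.of_equiv (Subgroup.subgroupOfEquivOfLe hPM).symm) hx, rfl⟩

/-- An element of prime power order of the Fitting subgroup lies in the corresponding core. -/
theorem mem_pCore_of_fitting {X : Type u} [Group X] [Finite X] {r : ℕ} [Fact r.Prime] {x : X}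
    (hx : x ∈ fittingSubgroup X) {k : ℕ} (hk : x ^ r ^ k = 1) : x ∈ pCore r X := by
  haveI : Group.IsNilpotent (fittingSubgroup X) := CfsgLib.isNilpotent_fittingSubgroup
  obtain ⟨P⟩ : Nonempty (Sylow r (fittingSubgroup X)) := inferInstance
  have hall : ∀ (p : ℕ) (_ : Fact p.Prime) (Q : Sylow p (fittingSubgroup X)), (Q : Subgroup (fittingSubgroup X)).Normal :=
    ((Group.isNilpotent_of_finite_tfae (G := fittingSubgroup X)).out 0 3).mp CfsgLib.isNilpotent_fittingSubgroup
  haveI hPn : (P : Subgroup (fittingSubgroup X)).Normal := hall r inferInstance P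
  set z : fittingSubgroup X := ⟨x, hx⟩
  have hz : IsPGroup r (Subgroup.zpowers z) := by
    refine IsPGroup.iff_card.mpr ?_
    obtain ⟨i, -, hi⟩ := (Nat.dvd_prime_pow (Fact.out : r.Prime)).mp
      (orderOf_dvd_of_pow_eq_one (show z ^ r ^ k = 1 from Subtype.ext hk))
    exact ⟨i, by rw [Nat.card_zpowers, hi]⟩
  obtain ⟨Q, hQ⟩ := hz.exists_le_sylow
  haveI := Sylow.unique_of_normal P hPn
  have hzP : z ∈ (P : Subgroup (fittingSubgroup X)) := by
    rw [Subsingleton.elim P Q]
    exact hQ (Subgroup.mem_zpowers z)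
  rw [CfsgLib.sylow_eq_pCore_of_normal P] at hzP
  exact CfsgLib.map_pCore_le r (fittingSubgroup X) ⟨z, hzP, rfl⟩

theorem pCoreOf_mono {p : ℕ} {M N : Subgroup G} (hNM : N ≤ M) (h : pCoreOf p M ≤ N) :
    pCoreOf p M ≤ pCoreOf p N :=
  le_pCoreOf' h (hNM.trans (Subgroup.le_normalizer.trans (normalizer_le_pCoreOf p M))) (isPGroup_pCoreOf p M)

/-- The centraliser of all cores is in the Fitting subgroup. -/
theorem mem_fittingOf_of_centralizes {M : Subgroup G} [Group.IsSolvable M] {z : G} (hzM : z ∈ M)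
    (hz : ∀ r : ℕ, r.Prime → ∀ x ∈ pCoreOf r M, x * z = z * x) : z ∈ fittingOf M := by
  refine ⟨⟨z, hzM⟩, CfsgLib.centralizer_fitting_le ?_, rfl⟩
  rw [CfsgLib.fittingSubgroup_eq_iSup_pCore]
  have h : (⨆ p : Nat.Primes, pCore (p : ℕ) M) ≤ Subgroup.centralizer {(⟨z, hzM⟩ : M)} :=
    iSup_le fun p x hx => Subgroup.mem_centralizer_singleton_iff.mpr
      (Subtype.ext (hz p p.2 _ ⟨x, hx, rfl⟩))
  exact fun x hx => Subgroup.mem_centralizer_singleton_iff.mp (h hx)

theorem fittingOf_mono {M N : Subgroup G} (hNM : N ≤ M) (h : ∀ r : ℕ, r.Prime → pCoreOf r M ≤ N) :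
    fittingOf M ≤ fittingOf N := by
  rw [fittingOf, fittingOf, CfsgLib.fittingSubgroup_eq_iSup_pCore, Subgroup.map_iSup]
  refine iSup_le fun p => (pCoreOf_mono hNM (h p p.2)).trans ?_
  exact Subgroup.map_mono (CfsgLib.pCore_le_fittingSubgroup p.2)

/-- The q-part of the centraliser of the other cores: if every core of `M` lies in `N ≤ M`, then a `q`-element of
`M` centralising all `O_r(M)`, `r ≠ q`, centralises all `O_r(N)`, `r ≠ q`. -/
theorem cent_other_step {M N : Subgroup G} [Group.IsSolvable M] (hNM : N ≤ M)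
    (h : ∀ r : ℕ, r.Prime → pCoreOf r M ≤ N) {q : ℕ} [Fact q.Prime] {y : G} (hyM : y ∈ M)
    (hy : y ∈ centOther q M) {k : ℕ} (hyq : y ^ q ^ k = 1) : y ∈ centOther q N := by
  rw [mem_centOther] at hy ⊢
  intro r hr hrq w hw
  haveI := Fact.mk hr
  have hwN : w ∈ N := pCoreOf_le r N hw
  -- `w` centralises the cores of `M` other than the `r`-core
  have hw' : ∀ s : ℕ, s.Prime → s ≠ r → ∀ x ∈ pCoreOf s M, x * w = w * x := by
    intro s hs hsr x hx
    haveI := Fact.mk hs
    have hd : Disjoint (pCoreOf s N) (pCoreOf r N) :=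
      IsPGroup.disjoint_of_ne s r hsr _ _ (isPGroup_pCoreOf s N) (isPGroup_pCoreOf r N)
    have hxN := pCoreOf_mono hNM (h s hs) hx
    have hsn := Subgroup.le_normalizer.trans (normalizer_le_pCoreOf s N)
    have hrn := Subgroup.le_normalizer.trans (normalizer_le_pCoreOf r N)
    have h1 : x * w * x⁻¹ * w⁻¹ ∈ pCoreOf r N :=
      mul_mem ((Subgroup.mem_normalizer_iff.mp (hrn (pCoreOf_le s N hxN)) w).mp hw) (inv_mem hw)
    have h2 : x * w * x⁻¹ * w⁻¹ ∈ pCoreOf s N := by
      rw [show x * w * x⁻¹ * w⁻¹ = x * (w * x⁻¹ * w⁻¹) by group]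
      exact mul_mem hxN ((Subgroup.mem_normalizer_iff.mp (hsn hwN) _).mp (inv_mem hxN))
    have h3 := Subgroup.disjoint_def.mp hd h2 h1
    rw [mul_inv_eq_one, mul_inv_eq_iff_eq_mul] at h3
    exact h3
  set z := y * w * y⁻¹ * w⁻¹ with hzdef
  have hwM : w ∈ M := hNM hwN
  have hzM : z ∈ M := mul_mem (mul_mem (mul_mem hyM hwM) (inv_mem hyM)) (inv_mem hwM)
  have hzC : ∀ s : ℕ, s.Prime → ∀ x ∈ pCoreOf s M, x * z = z * x := by
    intro s hs x hx
    have hn : ∀ m ∈ M, ∀ t ∈ pCoreOf s M, m * t * m⁻¹ ∈ pCoreOf s M := fun m hm t ht =>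
      (Subgroup.mem_normalizer_iff.mp ((Subgroup.le_normalizer.trans (normalizer_le_pCoreOf s M)) hm) t).mp ht
    rcases eq_or_ne s q with rfl | hsq
    · -- `w` centralises `x`
      have hc := hw' _ hs hrq.symm
      have hx' : y⁻¹ * x * y ∈ pCoreOf s M := by simpa using hn _ (inv_mem hyM) x hx
      have h1 : Commute x (y * w * y⁻¹) := by
        show x * (y * w * y⁻¹) = (y * w * y⁻¹) * x
        calc x * (y * w * y⁻¹) = y * ((y⁻¹ * x * y) * w) * y⁻¹ := by group
          _ = y * (w * (y⁻¹ * x * y)) * y⁻¹ := by rw [hc _ hx']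
          _ = (y * w * y⁻¹) * x := by group
      exact (h1.mul_right (Commute.inv_right (show Commute x w from hc _ hx))).eq
    · have hc : ∀ t ∈ pCoreOf s M, t * y = y * t := fun t ht => hy s hs hsq t ht
      have hx' : w⁻¹ * x * w ∈ pCoreOf s M := by simpa using hn _ (inv_mem hwM) x hx
      have h1 : Commute x y := hc x hx
      have h2 : Commute x (w * y⁻¹ * w⁻¹) := by
        show x * (w * y⁻¹ * w⁻¹) = (w * y⁻¹ * w⁻¹) * x
        calc x * (w * y⁻¹ * w⁻¹) = w * ((w⁻¹ * x * w) * y⁻¹) * w⁻¹ := by group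
          _ = w * (y⁻¹ * (w⁻¹ * x * w)) * w⁻¹ := by
            rw [(Commute.inv_right (show Commute (w⁻¹ * x * w) y from hc _ hx')).eq]
          _ = (w * y⁻¹ * w⁻¹) * x := by group
      rw [show z = y * (w * y⁻¹ * w⁻¹) by rw [hzdef]; group]
      exact (h1.mul_right h2).eq
  have hzF : z ∈ fittingOf M := mem_fittingOf_of_centralizes hzM hzC
  have hzFN : z ∈ fittingOf N := fittingOf_mono hNM h hzF
  have hwF : w ∈ fittingOf N := Subgroup.map_mono (CfsgLib.pCore_le_fittingSubgroup hr) hw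
  obtain ⟨i, hi⟩ := isPGroup_pCoreOf r N ⟨w, hw⟩
  have hi' : w ^ r ^ i = 1 := congrArg Subtype.val hi
  have hyw : y * w * y⁻¹ ∈ pCoreOf r N := by
    have h1 : y * w * y⁻¹ ∈ fittingOf N := by
      have := mul_mem hzFN hwF
      simpa [hzdef, mul_assoc] using this
    obtain ⟨⟨m, hmN⟩, hm, he⟩ := h1
    refine ⟨⟨m, hmN⟩, mem_pCore_of_fitting hm (k := i) (Subtype.ext ?_), he⟩
    simp only [Subgroup.coe_subtype] at he
    subst he
    push_cast
    rw [conj_pow, hi', mul_one, mul_inv_cancel]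
  have hzr : z ∈ pCoreOf r M := by
    obtain ⟨j, hj⟩ := isPGroup_pCoreOf r N ⟨z, mul_mem hyw (inv_mem hw)⟩
    obtain ⟨⟨m, hmM⟩, hm, he⟩ := hzF
    refine ⟨⟨m, hmM⟩, mem_pCore_of_fitting hm (k := j) (Subtype.ext ?_), he⟩
    simp only [Subgroup.coe_subtype] at he
    have := congrArg Subtype.val hj
    subst he
    simpa using this
  have hyz : y * z = z * y := (hy r hr hrq z hzr).symm
  have hshift : y * w⁻¹ * y⁻¹ = w⁻¹ * z⁻¹ := by rw [hzdef]; group
  have hcop : (orderOf y).Coprime (orderOf z⁻¹) := by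
    obtain ⟨j, hj⟩ := isPGroup_pCoreOf r M ⟨z, hzr⟩
    rw [orderOf_inv]
    exact ((Nat.coprime_pow_primes k j (Fact.out : q.Prime) hr hrq.symm).coprime_dvd_left
      (orderOf_dvd_of_pow_eq_one hyq)).coprime_dvd_right (orderOf_dvd_of_pow_eq_one (congrArg Subtype.val hj))
  have h1 := fixed_of_shift hshift (Commute.inv_right (show Commute y z from hyz)).eq hcop
  rw [inv_eq_one, hzdef, mul_inv_eq_one, mul_inv_eq_iff_eq_mul] at h1
  exact h1.symm

end Cores

variable {Ω : Type u} [MulAction G Ω] [FaithfulSMul G Ω] {e : ℕ} {u : G} {g : Ω} {r : G}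
variable (hC : OneFix G Ω) (hM : MaxBad G Ω e) (he : 1 < e)
include hC hM he

omit he in
theorem u_normalizer_two (h : Line e u g r) :
    u ∈ Subgroup.normalizer ((two (r⁻¹ • g) (r • g) : Subgroup G) : Set G) := by
  refine mem_normalizer_of_conj fun x hx => ?_
  obtain ⟨h1, h2⟩ := mem_two.mp hx
  have hu1 : u • r⁻¹ • g = r • g := u_smul_two h
  have hu2 : u • r • g = r⁻¹ • g := by rw [← hu1, h.inv.smul_twice]
  rw [h.inv.inv]
  exact mem_two.mpr ⟨by rw [mul_smul, mul_smul, hu1, h2, hu2], by rw [mul_smul, mul_smul, hu2, h1, hu1]⟩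

theorem exists_ker_ne_one (h : Line e u g r) : ∃ x ∈ kerLine u g r, x ≠ 1 := by
  obtain ⟨x, hx, hx'⟩ := Set.exists_ne_of_one_lt_ncard (lt_of_lt_of_le he h.ker) 1
  exact ⟨x, hx, hx'⟩

/-- P3: some core of the pair stabiliser is not in the line stabiliser. -/
theorem exists_core_not_le (h : Line e u g r) (hnf : NoFourLine u g r) :
    ∃ l : ℕ, l.Prime ∧ ¬ pCoreOf l (two (r⁻¹ • g) (r • g)) ≤ lineStab g r := by
  by_contra hall
  push Not at hall
  set D : Subgroup G := two (r⁻¹ • g) (r • g) with hDdef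
  set Y := lineStab g r
  have hDodd : Odd (Nat.card D) := odd_two hC (line_ne h)
  have hYD : Y ≤ D := lineStab_le_two
  haveI : Group.IsSolvable D := Cfsg.Agent.S0205.result hDodd
  obtain ⟨x, hx, hx1⟩ := exists_ker_ne_one hC hM he h
  obtain ⟨q, hq, hqD⟩ : ∃ q : ℕ, q.Prime ∧ pCoreOf q D ≠ ⊥ := by
    by_contra hno
    push Not at hno
    have hxF : x ∈ fittingOf D := mem_fittingOf_of_centralizes (hYD hx.1) fun s hs t ht => by
      rw [hno s hs, Subgroup.mem_bot] at ht
      rw [ht, one_mul, mul_one]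
    refine hx1 ?_
    rw [fittingOf, CfsgLib.fittingSubgroup_eq_iSup_pCore, Subgroup.map_iSup] at hxF
    have : (⨆ p : Nat.Primes, pCoreOf (p : ℕ) D) = ⊥ := iSup_eq_bot.mpr fun p => hno p p.2
    exact Subgroup.mem_bot.mp (this.le hxF)
  haveI := Fact.mk hq
  have hq2 : q ≠ 2 := by
    rintro rfl
    obtain ⟨k, hk⟩ := IsPGroup.iff_card.mp (isPGroup_pCoreOf 2 D)
    have hk0 : k ≠ 0 := fun e0 => hqD (Subgroup.eq_bot_of_card_eq _ (by rw [hk, e0, pow_zero]))
    exact hDodd.not_two_dvd_nat ((hk ▸ dvd_pow_self 2 hk0).trans (Subgroup.card_dvd_of_le (pCoreOf_le 2 D)))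
  have hYodd : Odd (Nat.card Y) := hDodd.of_dvd_nat (Subgroup.card_dvd_of_le hYD)
  set Cy := Y ⊓ centOther q Y
  set Cd := D ⊓ centOther q D
  have hCyd : Cy ≤ Cd := fun y hy => ⟨hYD hy.1, mem_centOther.mpr fun s hs hsq t ht =>
    mem_centOther.mp hy.2 s hs hsq t (pCoreOf_mono hYD (hall s hs) ht)⟩
  obtain ⟨I, hI⟩ := CfsgLib.Bender.Ext.exists_isSylowOf q Cy
  have hqY : pCoreOf q Y ≤ Cy := fun y hy => ⟨pCoreOf_le q Y hy, mem_centOther.mpr fun s hs hsq t ht => by
    haveI := Fact.mk hs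
    have hd : Disjoint (pCoreOf s Y) (pCoreOf q Y) :=
      IsPGroup.disjoint_of_ne s q hsq _ _ (isPGroup_pCoreOf s Y) (isPGroup_pCoreOf q Y)
    have hd' := hd.symm
    exact CfsgLib.Bender.Ext.commute_of_inf_eq_bot
      ((pCoreOf_le q Y).trans (Subgroup.le_normalizer.trans (normalizer_le_pCoreOf s Y)))
      ((pCoreOf_le s Y).trans (Subgroup.le_normalizer.trans (normalizer_le_pCoreOf q Y)))
      (disjoint_iff.mp hd') hy t ht⟩
  have hI0 : I ≠ ⊥ := by
    intro e0
    have h1 := hI.not_dvd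
    rw [e0, Subgroup.relIndex_bot_left] at h1
    refine h1 (dvd_trans ?_ (Subgroup.card_dvd_of_le hqY))
    obtain ⟨k, hk⟩ := IsPGroup.iff_card.mp (isPGroup_pCoreOf q Y)
    have hk0 : k ≠ 0 := fun e1 => hqD (le_bot_iff.mp ((pCoreOf_mono hYD (hall q hq)).trans
      (Subgroup.eq_bot_of_card_eq _ (by rw [hk, e1, pow_zero])).le))
    exact hk ▸ dvd_pow_self q hk0
  set Z := CfsgLib.ZJ.zj 0 I
  have hZ : Z ≠ ⊥ := CfsgLib.ZJ.zj_ne_bot (p := q) (Or.inl rfl) hI.isPGroup hI0
  have hZY : Z ≤ Y := (CfsgLib.ZJ.zj_le 0 I).trans (hI.le.trans inf_le_left)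
  have hNY := CfsgLib.Bender.Ext.zj_of_odd hYodd hq2 hI
  have hP1 : D ⊓ Subgroup.normalizer (Z : Set G) ≤ Y := normalizer_inf_two hC hM h hnf hZ hZY
    (Subgroup.le_normalizer.trans hNY) (hNY (u_normalizer h)) (hNY r_normalizer)
  have hI' : IsSylowOf q I Cd := by
    refine ⟨hI.le.trans hCyd, hI.isPGroup, ?_⟩
    have hIp : IsPGroup q (I.subgroupOf Cd) :=
      hI.isPGroup.of_equiv (Subgroup.subgroupOfEquivOfLe (hI.le.trans hCyd)).symm
    obtain ⟨S, hS⟩ := hIp.exists_le_sylow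
    suffices heq : (S : Subgroup Cd) = I.subgroupOf Cd by
      rw [Subgroup.relIndex, ← heq]
      exact S.not_dvd_index
    by_contra hne
    set S' := (S : Subgroup Cd).map Cd.subtype with hS'def
    have hS'p : IsPGroup q S' := S.isPGroup'.map _
    have hIS : I ≤ S' := fun z hz => ⟨⟨z, hI.le.trans hCyd hz⟩, hS hz, rfl⟩
    have hlt : I.subgroupOf S' < ⊤ := lt_of_le_of_ne le_top fun e0 => hne (le_antisymm (fun z hz => by
      rw [Subgroup.mem_subgroupOf]
      exact (Subgroup.subgroupOf_eq_top.mp e0) ⟨z, hz, rfl⟩) hS)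
    haveI : Group.IsNilpotent S' := hS'p.isNilpotent
    obtain ⟨y, hyN, hyI⟩ := SetLike.exists_of_lt (Group.normalizerCondition_of_isNilpotent _ hlt)
    refine hyI ?_
    rw [Subgroup.mem_subgroupOf]
    obtain ⟨⟨y', hy'⟩, -, hyy⟩ := y.2
    have hyCd : (y : G) ∈ Cd := by rw [← hyy]; exact hy'
    have hyI' : (y : G) ∈ Subgroup.normalizer (I : Set G) := mem_normalizer_of_conj fun z hz =>
      (Subgroup.mem_normalizer_iff.mp hyN ⟨z, hIS hz⟩).mp hz
    obtain ⟨k, hk⟩ := hS'p y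
    have hk' : (y : G) ^ q ^ k = 1 := congrArg Subtype.val hk
    have hyY : (y : G) ∈ Y := hP1 ⟨hyCd.1, CfsgLib.ZJ.normalizer_le_normalizer_zj 0 I hyI'⟩
    have hyCy : (y : G) ∈ Cy := ⟨hyY, cent_other_step hYD hall hyCd.1 hyCd.2 hk'⟩
    -- a `q`-subgroup of `Cy` above `I`
    by_contra hyI0
    have hK : IsPGroup q (S' ⊓ Cy : Subgroup G) := hS'p.to_le inf_le_left
    have hle : I ≤ S' ⊓ Cy := le_inf hIS hI.le
    have hdvd : I.relIndex (S' ⊓ Cy) ∣ I.relIndex Cy :=
      Dvd.intro _ (Subgroup.relIndex_mul_relIndex I (S' ⊓ Cy) Cy hle inf_le_right)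
    obtain ⟨j, hj⟩ := (hK.index (I.subgroupOf (S' ⊓ Cy)))
    rcases Nat.eq_zero_or_pos j with rfl | hj0
    · rw [pow_zero] at hj
      exact hyI0 ((Subgroup.index_eq_one.mp hj).symm ▸ Subgroup.mem_top _ :
        (⟨y, y.2, hyCy⟩ : (S' ⊓ Cy : Subgroup G)) ∈ I.subgroupOf (S' ⊓ Cy))
    · exact hI.not_dvd ((hj ▸ dvd_pow_self q hj0.ne').trans hdvd)
  have hND := CfsgLib.Bender.Ext.zj_of_odd hDodd hq2 hI'
  have hDY : D ≤ Y := fun y hy => hP1 ⟨hy, hND (Subgroup.le_normalizer hy)⟩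
  obtain ⟨y, hy, hyg⟩ := exists_moves hC h.inv h.fix (u_smul_two h) (line_ne h).symm
  exact hyg (lineStab_fix (hDY hy))

omit he in
theorem closure_ker_le (h : Line e u g r) : Subgroup.closure (kerLine u g r) ≤ lineStab g r :=
  (Subgroup.closure_le _).mpr fun x hx => hx.1

omit he in
/-- The subgroup generated by the inverted elements is normalised by the centre stabiliser of the pair. -/
theorem closure_ker_normal (h : Line e u g r) :
    two (r⁻¹ • g) (r • g) ⊓ stabilizer G g ≤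
      Subgroup.normalizer (Subgroup.closure (kerLine u g r) : Set G) := by
  set X := Subgroup.closure (kerLine u g r)
  set A : Subgroup G := two (r⁻¹ • g) (r • g) ⊓ stabilizer G g
  have hj : ∀ a ∈ A, a⁻¹ * u * a * u ∈ kerLine u g r := by
    intro a ha
    obtain ⟨haD, hag⟩ := ha
    obtain ⟨h1, h2⟩ := mem_two.mp haD
    have hag' := mem_stabilizer_iff.mp hag
    rw [← bad_line_one hC hM h]
    refine ⟨?_, ?_, ?_⟩
    · rw [mul_inv_rev, mul_inv_rev, mul_inv_rev, inv_inv, h.inv.inv]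
      calc u * (a⁻¹ * u * a * u) * u = u * (a⁻¹ * u * a) * (u * u) := by group
        _ = u * (a⁻¹ * (u * a)) := by rw [h.inv.2, mul_one, mul_assoc]
    · rw [mul_smul, h.fix, mul_smul, hag', mul_smul, h.fix, inv_smul_eq_iff, hag']
    · have hu2 : u • r • g = r⁻¹ • g := by rw [← u_smul_two h, h.inv.smul_twice]
      rw [mul_smul, hu2, mul_smul, h1, mul_smul, u_smul_two h, inv_smul_eq_iff, h2]
  intro a ha
  refine mem_normalizer_of_conj fun x hx => ?_
  induction hx using Subgroup.closure_induction with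
  | mem x hx =>
    have hodd := kerLine_odd hC h hx.1
    obtain ⟨k, hk⟩ := CfsgLib.Involutions.exists_sqrt hodd
    set s := x ^ k
    have hsA : s ∈ A := by
      have hxA : x ∈ A := ⟨lineStab_le_two hx.1, mem_stabilizer_iff.mpr (lineStab_fix hx.1)⟩
      exact pow_mem hxA k
    have hsu : u * s⁻¹ * u = s := by
      have h1 := conj_pow (i := k) (a := u) (b := x)
      rw [h.inv.inv] at h1
      rw [invol_conj_inv h.inv.2, ← h1, hx.2, inv_pow, inv_inv]
    have h1 : s⁻¹ * a⁻¹ ∈ A := mul_mem (inv_mem hsA) (inv_mem ha)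
    have h2 := hj _ h1
    have h3 := hj _ (inv_mem ha)
    have e1 : a * x * a⁻¹ =
        ((s⁻¹ * a⁻¹)⁻¹ * u * (s⁻¹ * a⁻¹) * u) * ((a⁻¹)⁻¹ * u * a⁻¹ * u)⁻¹ := by
      calc a * x * a⁻¹ = a * (s * (u * s⁻¹ * u)) * a⁻¹ := by rw [hsu, hk]
        _ = a * s * u * s⁻¹ * a⁻¹ * (u * u) * a * u * a⁻¹ := by rw [h.inv.2]; group
        _ = _ := by simp only [mul_inv_rev, inv_inv, h.inv.inv, mul_assoc]
    rw [e1]
    exact mul_mem (Subgroup.subset_closure h2) (inv_mem (Subgroup.subset_closure h3))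
  | one => simp
  | mul y z _ _ hy hz => rw [← conj_mul]; exact mul_mem hy hz
  | inv y _ hy => rw [← conj_inv]; exact inv_mem hy

omit he in
theorem lineStab_le_stab (h : Line e u g r) :
    lineStab g r ≤ two (r⁻¹ • g) (r • g) ⊓ stabilizer G g :=
  fun x hx => ⟨lineStab_le_two hx, mem_stabilizer_iff.mpr (lineStab_fix hx)⟩

omit he in
theorem u_normalizer_closure (h : Line e u g r) :
    u ∈ Subgroup.normalizer (Subgroup.closure (kerLine u g r) : Set G) := by
  refine mem_normalizer_of_conj fun x hx => ?_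
  rw [h.inv.inv]
  induction hx using Subgroup.closure_induction with
  | mem x hx => rw [hx.2]; exact inv_mem (Subgroup.subset_closure hx)
  | one => rw [mul_one, h.inv.2]; exact one_mem _
  | mul y z _ _ hy hz => rw [invol_conj_mul h.inv.2]; exact mul_mem hy hz
  | inv y _ hy => rw [invol_conj_inv h.inv.2]; exact inv_mem hy

/-- P2, first part: a normal `l`-subgroup outside the line stabiliser. -/
theorem outside_facts (h : Line e u g r) (hnf : NoFourLine u g r) {l : ℕ} [Fact l.Prime] {P : Subgroup G}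
    (hPD : P ≤ two (r⁻¹ • g) (r • g))
    (hDP : two (r⁻¹ • g) (r • g) ≤ Subgroup.normalizer (P : Set G)) (hP : IsPGroup l P)
    (huP : u ∈ Subgroup.normalizer (P : Set G)) (hPY : ¬ P ≤ lineStab g r) :
    pCoreOf l (lineStab g r) = ⊥ ∧
      (∀ p ∈ P, p ∈ lineStab g r → p = 1) ∧
      (∀ p ∈ P, p • g = g → u * p * u = p ∧ ∀ x ∈ kerLine u g r, x * p = p * x) ∧
      (∀ x ∈ Subgroup.closure (kerLine u g r), (orderOf x).Coprime l → ∀ p ∈ P, x * p = p * x) := by
  set Y := lineStab g r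
  set D : Subgroup G := two (r⁻¹ • g) (r • g)
  have hYD : Y ≤ D := lineStab_le_two
  have hYn : ∀ s : ℕ, Y ≤ Subgroup.normalizer (pCoreOf s Y : Set G) := fun s =>
    Subgroup.le_normalizer.trans (normalizer_le_pCoreOf s Y)
  have hcore : pCoreOf l Y = ⊥ := by
    by_contra hne
    set Z := pCoreOf l Y
    have hP1 := normalizer_inf_two hC hM h hnf hne (pCoreOf_le l Y) (hYn l)
      (normalizer_le_pCoreOf l Y (u_normalizer h)) (normalizer_le_pCoreOf l Y r_normalizer)
    have hinf : P ⊓ Y ≤ Z := le_pCoreOf' inf_le_right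
      (fun y hy => mem_normalizer_of_conj fun x hx =>
        ⟨(Subgroup.mem_normalizer_iff.mp (hDP (hYD hy)) x).mp hx.1, Y.mul_mem (Y.mul_mem hy hx.2) (Y.inv_mem hy)⟩)
      (hP.to_le inf_le_left)
    have hZP : Z ≤ Subgroup.normalizer (P : Set G) := ((pCoreOf_le l Y).trans hYD).trans hDP
    set S := Z ⊔ P
    have hSp : IsPGroup l S := (isPGroup_pCoreOf l Y).to_sup_of_normal_right' hP hZP
    have hlt : Z.subgroupOf S < ⊤ := lt_of_le_of_ne le_top fun e0 =>
      hPY ((le_sup_right.trans (Subgroup.subgroupOf_eq_top.mp e0)).trans (pCoreOf_le l Y))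
    haveI : Group.IsNilpotent S := hSp.isNilpotent
    obtain ⟨y, hyN, hyZ⟩ := SetLike.exists_of_lt (Group.normalizerCondition_of_isNilpotent _ hlt)
    refine hyZ ?_
    rw [Subgroup.mem_subgroupOf]
    have hyn : (y : G) ∈ Subgroup.normalizer (Z : Set G) := mem_normalizer_of_conj fun z hz =>
      (Subgroup.mem_normalizer_iff.mp hyN ⟨z, le_sup_left (b := P) hz⟩).mp hz
    have hyY : (y : G) ∈ Y := hP1 ⟨(sup_le ((pCoreOf_le l Y).trans hYD) hPD) y.2, hyn⟩
    have hyS := y.2
    rw [← SetLike.mem_coe, Subgroup.coe_mul_of_left_le_normalizer_right _ _ hZP] at hyS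
    obtain ⟨z, hz, p, hp, hzp⟩ := hyS
    have hzp' : z * p = (y : G) := hzp
    have hpY : p ∈ Y := by
      rw [show p = z⁻¹ * (y : G) by rw [← hzp', inv_mul_cancel_left]]
      exact Y.mul_mem (Y.inv_mem (pCoreOf_le l Y hz)) hyY
    rw [← hzp']
    exact Z.mul_mem hz (hinf ⟨hp, hpY⟩)
  have hPY' : ∀ p ∈ P, p ∈ Y → p = 1 := by
    intro p hp hpY
    have h1 : P ⊓ Y ≤ pCoreOf l Y := le_pCoreOf' inf_le_right
      (fun y hy => mem_normalizer_of_conj fun x hx =>
        ⟨(Subgroup.mem_normalizer_iff.mp (hDP (hYD hy)) x).mp hx.1, Y.mul_mem (Y.mul_mem hy hx.2) (Y.inv_mem hy)⟩)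
      (hP.to_le inf_le_left)
    have := h1 ⟨hp, hpY⟩
    rwa [hcore, Subgroup.mem_bot] at this
  have hcent : ∀ p ∈ P, p • g = g → u * p * u = p := by
    intro p hp hpg
    have hupu : u * p * u ∈ P := by
      have := (Subgroup.mem_normalizer_iff.mp huP p).mp hp
      rwa [h.inv.inv] at this
    have hj : u * p * u * p⁻¹ ∈ P := mul_mem hupu (inv_mem hp)
    have hjk : u * p * u * p⁻¹ ∈ kerLine u g r := by
      rw [← bad_line_one hC hM h]
      refine ⟨?_, ?_, (mem_two.mp (hPD hj)).2⟩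
      · rw [invol_conj_mul h.inv.2, invol_conj_conj h.inv.2, invol_conj_inv h.inv.2, mul_inv_rev (u * p * u), inv_inv]
      · rw [mul_smul, inv_smul_eq_iff.mpr hpg.symm, mul_smul, mul_smul, h.fix, hpg, h.fix]
    have := hPY' _ hj hjk.1
    rwa [mul_inv_eq_one] at this
  have hfix : ∀ p ∈ P, p • g = g → ∀ x ∈ kerLine u g r, x * p = p * x := by
    intro p hp hpg x hx
    have hxp : x * p * x⁻¹ ∈ P := (Subgroup.mem_normalizer_iff.mp (hDP (hYD hx.1)) p).mp hp
    have hxg : x • g = g := lineStab_fix hx.1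
    refine commute_of_inverted_fixed h.inv.2 hx.2 (kerLine_odd hC h hx.1) (hcent p hp hpg) (hcent _ hxp ?_)
    rw [mul_smul, mul_smul, inv_smul_eq_iff.mpr hxg.symm, hpg, hxg]
  refine ⟨hcore, hPY', fun p hp hpg => ⟨hcent p hp hpg, hfix p hp hpg⟩, ?_⟩
  exact inverted_centralize hP ((odd_two hC (line_ne h)).of_dvd_nat (Subgroup.card_dvd_of_le hPD)) h.inv.2 huP
    (kerLine u g r) (fun x hx => ⟨hx.2, kerLine_odd hC h hx.1, hDP (hYD hx.1)⟩)
    (fun c hc hcu => hfix c hc (fix_of_fixed hC h.inv h.fix hcu))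

omit hC hM he in
/-- The elements of order prime to `l` of a subgroup generate a subgroup with the same symmetries. -/
theorem coprime_closure_facts {X : Subgroup G} {l : ℕ} :
    Subgroup.normalizer (X : Set G) ≤
      Subgroup.normalizer (Subgroup.closure {x | x ∈ X ∧ (orderOf x).Coprime l} : Set G) := by
  intro m hm
  refine mem_normalizer_of_conj fun x hx => ?_
  induction hx using Subgroup.closure_induction with
  | mem x hx =>
    exact Subgroup.subset_closure ⟨(Subgroup.mem_normalizer_iff.mp hm x).mp hx.1, by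
      rw [CfsgLib.Involutions.orderOf_conj]; exact hx.2⟩
  | one => simp
  | mul y z _ _ hy hz => rw [← conj_mul]; exact mul_mem hy hz
  | inv y _ hy => rw [← conj_inv]; exact inv_mem hy

omit hC hM he in
/-- A subgroup of the line stabiliser which is normal in it and contains no element of order prime to `l`
is trivial when `O_l` is trivial. -/
theorem eq_bot_of_coprime_closure {Y X : Subgroup G} {l : ℕ} [Fact l.Prime] (hXY : X ≤ Y)
    (hn : Y ≤ Subgroup.normalizer (X : Set G)) (hY : pCoreOf l Y = ⊥)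
    (hX : Subgroup.closure {x | x ∈ X ∧ (orderOf x).Coprime l} = ⊥) : X = ⊥ := by
  have hXp : IsPGroup l X := by
    refine IsPGroup.of_card (n := (Nat.card X).primeFactorsList.length) ?_
    by_contra hne
    obtain ⟨s, hs, hsd, hsl⟩ : ∃ s : ℕ, s.Prime ∧ s ∣ Nat.card X ∧ s ≠ l := by
      by_contra hno
      push Not at hno
      exact hne (Nat.eq_prime_pow_of_unique_prime_dvd Nat.card_pos.ne' fun {d} hd hdd => hno d hd hdd)
    haveI := Fact.mk hs
    obtain ⟨x, hx⟩ := exists_prime_orderOf_dvd_card' (G := X) s hsd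
    have h1 : (x : G) ∈ Subgroup.closure {x | x ∈ X ∧ (orderOf x).Coprime l} :=
      Subgroup.subset_closure ⟨x.2, by
        rw [Subgroup.orderOf_coe, hx]
        exact (Nat.coprime_primes hs Fact.out).mpr hsl⟩
    rw [hX, Subgroup.mem_bot] at h1
    rw [← Subgroup.orderOf_coe, h1, orderOf_one] at hx
    exact hs.ne_one hx.symm
  exact le_bot_iff.mp (hY ▸ le_pCoreOf' hXY hn hXp)

/-- P2, second part: no line carries a non-trivial invariant part of its inverted elements. -/
theorem no_invariant (h : Line e u g r) (hnf : NoFourLine u g r) {Z0 : Subgroup G} (hZ0 : Z0 ≤ Subgroup.closure (kerLine u g r))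
    (hr : r ∈ Subgroup.normalizer (Z0 : Set G)) : Z0 = ⊥ := by
  by_contra hne
  obtain ⟨l, hl, hlY⟩ := exists_core_not_le hC hM he h hnf
  haveI := Fact.mk hl
  set D : Subgroup G := two (r⁻¹ • g) (r • g)
  set Y := lineStab g r
  set P := pCoreOf l D
  have huD := u_normalizer_two hC hM h
  obtain ⟨hcore, hPY', -, hcop⟩ := outside_facts hC hM he h hnf (pCoreOf_le l D)
    (Subgroup.le_normalizer.trans (normalizer_le_pCoreOf l D)) (isPGroup_pCoreOf l D)
    (normalizer_le_pCoreOf l D huD) hlY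
  set X := Subgroup.closure (kerLine u g r)
  have hXY : X ≤ Y := closure_ker_le hC hM h
  have hYX : Y ≤ Subgroup.normalizer (X : Set G) := (lineStab_le_stab hC hM h).trans (closure_ker_normal hC hM h)
  let I : Subgroup G :=
    { carrier := {x | ∀ n : ℤ, r ^ n * x * (r ^ n)⁻¹ ∈ X}
      one_mem' := fun n => by simp
      mul_mem' := fun {x y} hx hy n => by
        rw [← conj_mul]
        exact mul_mem (hx n) (hy n)
      inv_mem' := fun {x} hx n => by
        rw [← conj_inv]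
        exact inv_mem (hx n) }
  have hIX : I ≤ X := fun x hx => by simpa using hx 0
  have hZI : Z0 ≤ I := fun x hx n => hZ0 ((Subgroup.mem_normalizer_iff.mp (zpow_mem hr n) x).mp hx)
  have hrY : r ∈ Subgroup.normalizer (Y : Set G) := r_normalizer
  have hYI : Y ≤ Subgroup.normalizer (I : Set G) := fun y hy => mem_normalizer_of_conj fun x hx n => by
    have hy' : r ^ n * y * (r ^ n)⁻¹ ∈ Y := (Subgroup.mem_normalizer_iff.mp (zpow_mem hrY n) y).mp hy
    have := (Subgroup.mem_normalizer_iff.mp (hYX hy') _).mp (hx n)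
    simpa [mul_assoc] using this
  have hrI : r ∈ Subgroup.normalizer (I : Set G) := mem_normalizer_of_conj fun x hx n => by
    have := hx (n + 1)
    simpa [zpow_add, mul_assoc] using this
  have huI : u ∈ Subgroup.normalizer (I : Set G) := mem_normalizer_of_conj fun x hx n => by
    have h1 := (Subgroup.mem_normalizer_iff.mp (u_normalizer_closure hC hM h) _).mp (hx (-n))
    rw [h.inv.inv, invol_conj_mul h.inv.2, invol_conj_mul h.inv.2, invol_conj_inv h.inv.2,
      rinv_zpow h, neg_neg] at h1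
    rwa [h.inv.inv]
  have hIY : I ≤ Y := hIX.trans hXY
  set Z := Subgroup.closure {x | x ∈ I ∧ (orderOf x).Coprime l}
  have hZne : Z ≠ ⊥ := fun e0 => hne (le_bot_iff.mp (hZI.trans
    (eq_bot_of_coprime_closure hIY hYI hcore e0).le))
  have hZY : Z ≤ Y := (Subgroup.closure_le _).mpr fun x hx => hIY hx.1
  have hnI : Subgroup.normalizer (I : Set G) ≤ Subgroup.normalizer (Z : Set G) := coprime_closure_facts
  have hP1 := normalizer_inf_two hC hM h hnf hZne hZY (hYI.trans hnI) (hnI huI) (hnI hrI)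
  refine hlY fun p hp => hP1 ⟨pCoreOf_le l D hp, mem_normalizer_of_conj fun x hx => ?_⟩
  have : x * p = p * x := by
    have hle : Z ≤ Subgroup.centralizer {p} := (Subgroup.closure_le _).mpr fun z hz =>
      Subgroup.mem_centralizer_singleton_iff.mpr (hcop z (hIX hz.1) hz.2 p hp)
    exact Subgroup.mem_centralizer_singleton_iff.mp (hle hx)
  rw [← this, mul_inv_cancel_right]
  exact hx

/-- The normal subgroup in question fixes the centre. -/
theorem outside_fix (hB : Below.{u} (Nat.card G)) (hnoL : ¬ LMember G Ω e) (h : Line e u g r) {l : ℕ} [Fact l.Prime] {P : Subgroup G}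
    (hPD : P ≤ two (r⁻¹ • g) (r • g))
    (hDP : two (r⁻¹ • g) (r • g) ≤ Subgroup.normalizer (P : Set G)) (hP : IsPGroup l P)
    (huP : u ∈ Subgroup.normalizer (P : Set G)) (hPY : ¬ P ≤ lineStab g r) :
    ∀ p ∈ P, p • g = g := by
  obtain ⟨hcore, -, -, hcop⟩ := outside_facts hC hM he h (noFourLine hC hM hB hnoL h) hPD hDP hP huP hPY
  by_contra hmove
  push Not at hmove
  obtain ⟨p₀, hp₀, hp₀g⟩ := hmove
  set D : Subgroup G := two (r⁻¹ • g) (r • g) with hDdef
  set A : Subgroup G := D ⊓ stabilizer G g with hAdef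
  set X := Subgroup.closure (kerLine u g r)
  set Z0 := Subgroup.closure {x | x ∈ X ∧ (orderOf x).Coprime l}
  have hYX : lineStab g r ≤ Subgroup.normalizer (X : Set G) :=
    (lineStab_le_stab hC hM h).trans (closure_ker_normal hC hM h)
  have hZ0 : Z0 ≠ ⊥ := fun e0 => by
    obtain ⟨x, hx, hx1⟩ := exists_ker_ne_one hC hM he h
    have := eq_bot_of_coprime_closure (closure_ker_le hC hM h) hYX hcore e0
    exact hx1 ((Subgroup.eq_bot_iff_forall _).mp this x (Subgroup.subset_closure hx))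
  have hu2 : u • r • g = r⁻¹ • g := by rw [← u_smul_two h, h.inv.smul_twice]
  have htwo : two (r • g) (u • r • g) = D := by rw [hu2]; exact CfsgLib.Bender.TwoClosed.mem_two_comm
  have huD := u_normalizer_two hC hM h
  have huA : u ∈ Subgroup.normalizer (A : Set G) := mem_normalizer_of_conj fun x hx =>
    ⟨(Subgroup.mem_normalizer_iff.mp huD x).mp hx.1, mem_stabilizer_iff.mpr (by
      rw [h.inv.inv, mul_smul, mul_smul, h.fix, mem_stabilizer_iff.mp hx.2, h.fix])⟩
  have hbad := bad_line_one hC hM h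
  obtain ⟨y, hy, hLine, hsub⟩ := exists_line hC (e := e) h.inv h.fix h.move
    (hbad ▸ h.ker) (M := P ⊔ A) (by rw [htwo]; exact sup_le hPD inf_le_left)
    (mem_normalizer_of_conj fun x hx => by
      have : (P ⊔ A).map (MulAut.conj u).toMonoidHom ≤ P ⊔ A := by
        rw [Subgroup.map_sup]
        exact sup_le_sup (Subgroup.map_le_iff_le_comap.mpr fun z hz => (Subgroup.mem_normalizer_iff.mp huP z).mp hz)
          (Subgroup.map_le_iff_le_comap.mpr fun z hz => (Subgroup.mem_normalizer_iff.mp huA z).mp hz)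
      exact this ⟨x, hx, rfl⟩)
    (by rw [htwo]; exact le_sup_right) ⟨p₀, le_sup_left (b := A) hp₀, hp₀g⟩
  refine hZ0 (no_invariant hC hM he hLine (noFourLine hC hM hB hnoL hLine) (Z0 := Z0) ?_ ?_)
  · refine (Subgroup.closure_le _).mpr fun x hx => ?_
    exact (Subgroup.closure_mono (hbad ▸ hsub)) hx.1
  · refine (sup_le ?_ ?_ : P ⊔ A ≤ Subgroup.normalizer (Z0 : Set G)) hy
    · intro p hp
      refine mem_normalizer_of_conj fun x hx => ?_
      have hle : Z0 ≤ Subgroup.centralizer {p} := (Subgroup.closure_le _).mpr fun z hz =>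
        Subgroup.mem_centralizer_singleton_iff.mpr (hcop z hz.1 hz.2 p hp)
      rw [← Subgroup.mem_centralizer_singleton_iff.mp (hle hx), mul_inv_cancel_right]
      exact hx
    · exact (closure_ker_normal hC hM h).trans (coprime_closure_facts)

omit hC hM he in
/-- `Ω₁(Z(P))`. -/
def omegaZ (l : ℕ) (P : Subgroup G) : Subgroup G where
  carrier := {x | x ∈ P ∧ x ^ l = 1 ∧ ∀ y ∈ P, x * y = y * x}
  one_mem' := ⟨one_mem _, one_pow l, fun y _ => by simp⟩
  mul_mem' := by
    rintro x y ⟨hx, hxl, hxc⟩ ⟨hy, hyl, hyc⟩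
    refine ⟨mul_mem hx hy, by rw [(show Commute x y from hxc y hy).mul_pow, hxl, hyl, one_mul], fun z hz => ?_⟩
    exact ((show Commute x z from hxc z hz).mul_left (hyc z hz)).eq
  inv_mem' := by
    rintro x ⟨hx, hxl, hxc⟩
    exact ⟨inv_mem hx, by rw [inv_pow, hxl, inv_one], fun z hz => (Commute.inv_left (hxc z hz)).eq⟩

omit hC hM he in
theorem normalizer_le_omegaZ (l : ℕ) (P : Subgroup G) :
    Subgroup.normalizer (P : Set G) ≤ Subgroup.normalizer (omegaZ l P : Set G) := by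
  intro m hm
  refine mem_normalizer_of_conj ?_
  rintro x ⟨hx, hxl, hxc⟩
  refine ⟨(Subgroup.mem_normalizer_iff.mp hm x).mp hx, by rw [conj_pow, hxl, mul_one, mul_inv_cancel],
    fun y hy => ?_⟩
  have hy' : m⁻¹ * y * m ∈ P := (Subgroup.mem_normalizer_iff''.mp hm y).mp hy
  calc m * x * m⁻¹ * y = m * (x * (m⁻¹ * y * m)) * m⁻¹ := by group
    _ = m * ((m⁻¹ * y * m) * x) * m⁻¹ := by rw [hxc _ hy']
    _ = y * (m * x * m⁻¹) := by group

omit hC hM he in
theorem omegaZ_ne_bot {l : ℕ} [Fact l.Prime] {P : Subgroup G} (hP : IsPGroup l P) (hne : P ≠ ⊥) :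
    omegaZ l P ≠ ⊥ := by
  haveI : Nontrivial P := (Subgroup.nontrivial_iff_ne_bot _).mpr hne
  haveI := hP.center_nontrivial
  obtain ⟨k, hk⟩ := IsPGroup.iff_card.mp (hP.to_subgroup (Subgroup.center P))
  have hk0 : k ≠ 0 := fun e0 => by
    rw [e0, pow_zero] at hk
    exact (Finite.one_lt_card (α := Subgroup.center P)).ne' hk
  obtain ⟨z, hz⟩ := exists_prime_orderOf_dvd_card' (G := Subgroup.center P) l (hk ▸ dvd_pow_self l hk0)
  intro h
  have h1 : ((z : P) : G) ∈ omegaZ l P := ⟨(z : P).2, by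
    have := pow_orderOf_eq_one z
    rw [hz] at this
    exact congrArg (fun w : Subgroup.center P => ((w : P) : G)) this,
    fun y hy => (congrArg Subtype.val (Subgroup.mem_center_iff.mp z.2 ⟨y, hy⟩)).symm⟩
  rw [h, Subgroup.mem_bot] at h1
  have hz1 : z = 1 := Subtype.ext (Subtype.ext h1)
  rw [hz1, orderOf_one] at hz
  exact (Fact.out : l.Prime).ne_one hz.symm

/-- An elementary abelian normal subgroup of a pair stabiliser outside its line stabiliser. -/
def Occurs (G : Type u) [Group G] (Ω : Type u) [MulAction G Ω] (e : ℕ) (l : ℕ) (u : G) (g : Ω) (r : G)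
    (V : Subgroup G) : Prop :=
  Line e u g r ∧ l.Prime ∧ V ≤ two (r⁻¹ • g) (r • g) ∧
    two (r⁻¹ • g) (r • g) ≤ Subgroup.normalizer (V : Set G) ∧ u ∈ Subgroup.normalizer (V : Set G) ∧
    (∀ x ∈ V, x ^ l = 1) ∧ (∀ x ∈ V, ∀ y ∈ V, x * y = y * x) ∧ ¬ V ≤ lineStab g r

theorem exists_occurs (h : Line e u g r) (hnf : NoFourLine u g r) : ∃ (l : ℕ) (V : Subgroup G), Occurs G Ω e l u g r V := by
  obtain ⟨l, hl, hlY⟩ := exists_core_not_le hC hM he h hnf
  haveI := Fact.mk hl
  set D : Subgroup G := two (r⁻¹ • g) (r • g)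
  set P := pCoreOf l D
  have hDP : D ≤ Subgroup.normalizer (P : Set G) := Subgroup.le_normalizer.trans (normalizer_le_pCoreOf l D)
  have huP : u ∈ Subgroup.normalizer (P : Set G) := normalizer_le_pCoreOf l D (u_normalizer_two hC hM h)
  obtain ⟨-, hPY', -, -⟩ := outside_facts hC hM he h hnf (pCoreOf_le l D) hDP (isPGroup_pCoreOf l D) huP hlY
  refine ⟨l, omegaZ l P, h, hl, fun x hx => pCoreOf_le l D hx.1, hDP.trans (normalizer_le_omegaZ l P),
    normalizer_le_omegaZ l P huP, fun x hx => hx.2.1, fun x hx y hy => hx.2.2 y hy.1, fun hle => ?_⟩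
  refine omegaZ_ne_bot (isPGroup_pCoreOf l D) (fun e0 => hlY ?_) ((Subgroup.eq_bot_iff_forall _).mpr fun x hx =>
    hPY' x hx.1 (hle hx))
  rw [show P = ⊥ from e0]
  exact bot_le

omit hC hM he in
/-- `u`, `y`, and the inverted elements generate what the next occurrence has to centralise. -/
def lineCent (u : G) (g : Ω) (y : G) : Subgroup G :=
  lineStab g y ⊓ Subgroup.centralizer {u} ⊓ Subgroup.centralizer {y} ⊓ Subgroup.centralizer (kerLine u g y)

omit hC hM he in
theorem mem_lineCent {u : G} {g : Ω} {y s : G} : s ∈ lineCent u g y ↔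
    s ∈ lineStab g y ∧ s * u = u * s ∧ s * y = y * s ∧ ∀ x ∈ kerLine u g y, x * s = s * x := by
  simp only [lineCent, Subgroup.mem_inf, Subgroup.mem_centralizer_iff, Set.mem_singleton_iff, forall_eq,
    and_assoc]
  exact and_congr_right fun _ => and_congr eq_comm (and_congr eq_comm Iff.rfl)

omit he in
theorem lineCent_normal (h : Line e u g r) :
    lineStab g r ≤ Subgroup.normalizer (lineCent u g r : Set G) := by
  intro w hw
  refine mem_normalizer_of_conj fun s hs => ?_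
  obtain ⟨hsY, hsu, hsy, hsX⟩ := mem_lineCent.mp hs
  have hrY : r ∈ Subgroup.normalizer (lineStab g r : Set G) := r_normalizer
  have huY := u_normalizer h
  have hsC : ∀ x ∈ Subgroup.closure (kerLine u g r), Commute s x := fun x hx => by
    have hle : Subgroup.closure (kerLine u g r) ≤ Subgroup.centralizer {s} := (Subgroup.closure_le _).mpr
      fun y hy => Subgroup.mem_centralizer_singleton_iff.mpr (hsX y hy)
    exact (Subgroup.mem_centralizer_singleton_iff.mp (hle hx)).symm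
  -- `w⁻¹ u w ∈ u X`
  have hju : ∀ v ∈ lineStab g r, v⁻¹ * u * v * u ∈ kerLine u g r := fun v hv => by
    refine ⟨mul_assoc v⁻¹ u v ▸ ?_, ?_⟩
    · have h1 : u * v * u ∈ lineStab g r := by
        have := (Subgroup.mem_normalizer_iff.mp huY v).mp hv
        rwa [h.inv.inv] at this
      have := mul_mem (inv_mem hv) h1
      simpa [mul_assoc] using this
    · rw [mul_inv_rev, mul_inv_rev, mul_inv_rev, inv_inv, h.inv.inv]
      calc u * (v⁻¹ * u * v * u) * u = u * (v⁻¹ * u * v) * (u * u) := by group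
        _ = u * (v⁻¹ * (u * v)) := by rw [h.inv.2, mul_one, mul_assoc]
  have hswu : ∀ v ∈ lineStab g r, Commute s (v⁻¹ * u * v) := fun v hv => by
    have h1 : v⁻¹ * u * v = (v⁻¹ * u * v * u) * u := by rw [mul_assoc _ u u, h.inv.2, mul_one]
    rw [h1]
    exact (hsC _ (Subgroup.subset_closure (hju v hv))).mul_right hsu
  have h1 : Commute (w * s * w⁻¹) u := by
    have := hswu w hw
    show w * s * w⁻¹ * u = u * (w * s * w⁻¹)
    calc w * s * w⁻¹ * u = w * (s * (w⁻¹ * u * w)) * w⁻¹ := by group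
      _ = w * ((w⁻¹ * u * w) * s) * w⁻¹ := by rw [this.eq]
      _ = u * (w * s * w⁻¹) := by group
  have h2 : Commute (w * s * w⁻¹) (r * u * r⁻¹) := by
    have hw' : r⁻¹ * w * r ∈ lineStab g r := (Subgroup.mem_normalizer_iff''.mp hrY w).mp hw
    have h3 := hswu _ hw'
    have h4 : Commute s (r * ((r⁻¹ * w * r)⁻¹ * u * (r⁻¹ * w * r)) * r⁻¹) :=
      ((show Commute s r from hsy).mul_right h3).mul_right (Commute.inv_right hsy)
    show w * s * w⁻¹ * (r * u * r⁻¹) = r * u * r⁻¹ * (w * s * w⁻¹)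
    calc w * s * w⁻¹ * (r * u * r⁻¹) = w * (s * (r * ((r⁻¹ * w * r)⁻¹ * u * (r⁻¹ * w * r)) * r⁻¹)) * w⁻¹ := by group
      _ = w * ((r * ((r⁻¹ * w * r)⁻¹ * u * (r⁻¹ * w * r)) * r⁻¹) * s) * w⁻¹ := by rw [h4.eq]
      _ = r * u * r⁻¹ * (w * s * w⁻¹) := by group
  have hsq : r * u * r⁻¹ * u = r * r := by
    have : u * r⁻¹ * u = r := by rw [invol_conj_inv h.inv.2, h.rinv, inv_inv]
    calc r * u * r⁻¹ * u = r * (u * r⁻¹ * u) := by group
      _ = r * r := by rw [this]
  have h5 : Commute (w * s * w⁻¹) r := by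
    have h6 := h2.mul_right h1
    rw [hsq] at h6
    obtain ⟨k, hk⟩ := CfsgLib.Involutions.exists_sqrt h.odd
    have := h6.pow_right k
    rwa [(Commute.refl r).mul_pow, hk] at this
  refine mem_lineCent.mpr ⟨mul_mem (mul_mem hw hsY) (inv_mem hw), h1.eq, h5.eq, fun x hx => ?_⟩
  have hx' : w⁻¹ * x * w ∈ Subgroup.closure (kerLine u g r) :=
    (Subgroup.mem_normalizer_iff''.mp ((closure_ker_normal hC hM h) (lineStab_le_stab hC hM h hw)) x).mp
      (Subgroup.subset_closure hx)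
  calc x * (w * s * w⁻¹) = w * ((w⁻¹ * x * w) * s) * w⁻¹ := by group
    _ = w * (s * (w⁻¹ * x * w)) * w⁻¹ := by rw [(hsC _ hx').eq]
    _ = w * s * w⁻¹ * x := by group

/-- An elementary abelian `l`-group in the centraliser of a line is smaller than every occurrence on the line. -/
theorem occurs_bound {y : G} (h : Line e u g y) (hnf : NoFourLine u g y) {l : ℕ} {V : Subgroup G} (hl : l.Prime)
    (hVl : ∀ v ∈ V, v ^ l = 1) (hVc : ∀ v ∈ V, ∀ w ∈ V, v * w = w * v) (hVS : V ≤ lineCent u g y)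
    {l' : ℕ} {W : Subgroup G} (hW : Occurs G Ω e l' u g y W) : Nat.card V < Nat.card W := by
  haveI := Fact.mk hl
  have hVp : IsPGroup l V := fun v => ⟨1, Subtype.ext (by rw [pow_one]; exact hVl _ v.2)⟩
  set Y1 := lineStab g y
  set S := lineCent u g y
  have hSY : S ≤ Y1 := fun s hs => (mem_lineCent.mp hs).1
  have hVY1 : V ≤ Y1 := hVS.trans hSY
  have hYS : Y1 ≤ Subgroup.normalizer (S : Set G) := lineCent_normal hC hM h
  obtain ⟨-, hl', hWD, hDW, huW, hWl, hWc, hWY⟩ := hW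
  haveI := Fact.mk hl'
  have hWp : IsPGroup l' W := fun v => ⟨1, Subtype.ext (by rw [pow_one]; exact hWl _ v.2)⟩
  obtain ⟨hcore, hWY', -, -⟩ := outside_facts hC hM he h hnf hWD hDW hWp huW hWY
  have hY1D : Y1 ≤ two (y⁻¹ • g) (y • g) := lineStab_le_two
  -- `S` is faithful on `W`
  have hfaith : S ⊓ Subgroup.centralizer (W : Set G) = ⊥ := by
    by_contra hne
    set Z := S ⊓ Subgroup.centralizer (W : Set G)
    have hYZ : Y1 ≤ Subgroup.normalizer (Z : Set G) := fun w hw => mem_normalizer_of_conj fun s hs => by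
      refine ⟨(Subgroup.mem_normalizer_iff.mp (hYS hw) s).mp hs.1, fun x hx => ?_⟩
      have hx' : w⁻¹ * x * w ∈ W := (Subgroup.mem_normalizer_iff''.mp (hDW (hY1D hw)) x).mp hx
      calc x * (w * s * w⁻¹) = w * ((w⁻¹ * x * w) * s) * w⁻¹ := by group
        _ = w * (s * (w⁻¹ * x * w)) * w⁻¹ := by rw [hs.2 _ hx']
        _ = w * s * w⁻¹ * x := by group
    have hcentral : ∀ v : G, (∀ s ∈ S, v * s = s * v) → v ∈ Subgroup.normalizer (Z : Set G) := fun v hv =>
      mem_normalizer_of_conj fun s hs => by rw [hv s hs.1, mul_inv_cancel_right]; exact hs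
    have hP1 := normalizer_inf_two hC hM h hnf hne (inf_le_left.trans hSY) hYZ
      (hcentral u fun s hs => (mem_lineCent.mp hs).2.1.symm) (hcentral y fun s hs => (mem_lineCent.mp hs).2.2.1.symm)
    refine hWY fun x hx => hP1 ⟨hWD hx, mem_normalizer_of_conj fun s hs => ?_⟩
    rw [hs.2 x hx, mul_inv_cancel_right]
    exact hs
  have hWne : W ≠ ⊥ := fun e0 => hWY (e0 ▸ bot_le)
  have hVW : ∀ v ∈ V, ∀ x ∈ W, v * x * v⁻¹ ∈ W := fun v hv x hx =>
    (Subgroup.mem_normalizer_iff.mp (hDW (hY1D (hVY1 hv))) x).mp hx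
  have hf : ∀ v ∈ S, (∀ x ∈ W, v * x = x * v) → v = 1 := fun v hv hvW =>
    Subgroup.mem_bot.mp (hfaith ▸ ⟨hv, fun x hx => (hvW x hx).symm⟩)
  have hcardV : ∀ {p : ℕ} [Fact p.Prime] {K : Subgroup G}, IsPGroup p K → ∃ i, Nat.card K = p ^ i :=
    fun h => IsPGroup.iff_card.mp h
  rcases eq_or_ne l l' with rfl | hne
  · -- equal primes
    haveI : Group.IsSolvable S := Cfsg.Agent.S0205.result
      ((odd_two hC (line_ne h)).of_dvd_nat (Subgroup.card_dvd_of_le (hSY.trans hY1D)))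
    have hSn : S ≤ Subgroup.normalizer (S : Set G) := Subgroup.le_normalizer
    have hScore : pCore l S = ⊥ := by
      have h1 : pCoreOf l S ≤ pCoreOf l Y1 := le_pCoreOf' ((pCoreOf_le l S).trans hSY)
        (hYS.trans (normalizer_le_pCoreOf l S)) (isPGroup_pCoreOf l S)
      rw [hcore, le_bot_iff, pCoreOf, Subgroup.map_eq_bot_iff_of_injective _ S.subtype_injective] at h1
      exact h1
    set F := (pPrimeCore l S).map S.subtype
    have hFS : F ≤ S := Subgroup.map_subtype_le _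
    have hFcop : (Nat.card F).Coprime l := by
      rw [Subgroup.card_map_of_injective S.subtype_injective]
      exact CfsgLib.card_pPrimeCore_coprime l
    refine card_lt_of_coprime_faithful_pair (F := F) (W := W) hWne hWp hWc hFcop
      (fun f hf' x hx => (Subgroup.mem_normalizer_iff.mp (hDW (hY1D (hSY (hFS hf')))) x).mp hx)
      (fun f hf' => hf f (hFS hf')) hVc hVl ?_ hVW ?_
    · rintro v hv _ ⟨f, hf', rfl⟩
      exact ⟨_, (inferInstance : (pPrimeCore l S).Normal).conj_mem f hf' ⟨v, hVS hv⟩, rfl⟩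
    · intro v hv hvF
      have h1 : (⟨v, hVS hv⟩ : S) ∈ pPrimeCore l S := by
        refine CfsgLib.Offender.centralizer_pPrimeCore_le
          (CfsgLib.PLocal.isPSolvable_of_isSolvable _ S rfl inferInstance) hScore ?_
        intro f hf'
        exact Subtype.ext (hvF _ ⟨f, hf', rfl⟩).symm
      have h2 : v ∈ F := ⟨_, h1, rfl⟩
      have h3 : orderOf v ∣ l := orderOf_dvd_of_pow_eq_one (hVl v hv)
      have h4 := Nat.eq_one_of_dvd_coprimes hFcop (Subgroup.orderOf_dvd_natCard F h2) h3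
      exact orderOf_eq_one_iff.mp h4
  · refine card_lt_of_coprime_faithful hWne hWc hVc hVW ?_ (fun v hv => hf v (hVS hv))
    obtain ⟨i, hi⟩ := hcardV hVp
    obtain ⟨j, hj⟩ := hcardV hWp
    rw [hi, hj]
    exact Nat.coprime_pow_primes i j hl hl' hne

/-- P2, the growth: an occurrence fixing the centre gives a larger one on a line inside its pair stabiliser. -/
theorem occurs_step {l : ℕ} {V : Subgroup G} (hocc : Occurs G Ω e l u g r V) (hnf : NoFourLine u g r)
    (hVg : ∀ v ∈ V, v • g = g) {y : G} (hyM : y ∈ two (r⁻¹ • g) (r • g)) (hLine : Line e u g y)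
    (hnf' : NoFourLine u g y) (hker : kerLine u g y = kerLine u g r) :
    ∃ (l' : ℕ) (W : Subgroup G), Occurs G Ω e l' u g y W ∧ Nat.card V < Nat.card W := by
  obtain ⟨h, hl, hVD, hDV, huV, hVl, hVc, hVY⟩ := hocc
  haveI := Fact.mk hl
  have hVp : IsPGroup l V := fun v => ⟨1, Subtype.ext (by rw [pow_one]; exact hVl _ v.2)⟩
  set D : Subgroup G := two (r⁻¹ • g) (r • g)
  obtain ⟨-, -, hfixV, -⟩ := outside_facts hC hM he h hnf hVD hDV hVp huV hVY
  have hVy : ∀ v ∈ V, y * v = v * y := by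
    intro v hv
    refine commute_of_inverted_fixed h.inv.2 hLine.rinv hLine.odd (hfixV v hv (hVg v hv)).1 ?_
    have hyv : y * v * y⁻¹ ∈ V := (Subgroup.mem_normalizer_iff.mp (hDV hyM) v).mp hv
    exact (hfixV _ hyv (hVg _ hyv)).1
  have hyV : y ∈ Subgroup.normalizer (V : Set G) := mem_normalizer_of_conj fun v hv => by
    rw [hVy v hv, mul_inv_cancel_right]
    exact hv
  set Y1 := lineStab g y
  have hVY1 : V ≤ Y1 := le_lineStab hyV hVg
  set S := lineCent u g y
  have hVS : V ≤ S := fun v hv => mem_lineCent.mpr ⟨hVY1 hv, by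
      have := (hfixV v hv (hVg v hv)).1
      calc v * u = u * v * u * u := by rw [this]
        _ = u * v := by rw [mul_assoc, h.inv.2, mul_one],
    (hVy v hv).symm, fun x hx => (hfixV v hv (hVg v hv)).2 x (hker ▸ hx)⟩
  have hSY : S ≤ Y1 := fun s hs => (mem_lineCent.mp hs).1
  have hYS : Y1 ≤ Subgroup.normalizer (S : Set G) := lineCent_normal hC hM hLine
  obtain ⟨l', W, hW⟩ := exists_occurs hC hM he hLine hnf'
  exact ⟨l', W, hW, occurs_bound hC hM he hLine hnf' hl hVl hVc hVS hW⟩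

/-- P1-P3 for a family of lines through one involution: there is no such family. -/
theorem no_line_family {u : G} {g : Ω} (L : G → Prop) (hline : ∀ r, L r → Line e u g r ∧ NoFourLine u g r)
    (hstep : ∀ (r : G) (l : ℕ) (V : Subgroup G), L r → Occurs G Ω e l u g r V →
      (∀ v ∈ V, v • g = g) ∧ ∃ y ∈ two (r⁻¹ • g) (r • g), L y ∧ kerLine u g r ⊆ kerLine u g y) :
    ∀ r, ¬ L r := by
  intro r₀ hr₀
  obtain ⟨l, V, hV⟩ := exists_occurs hC hM he (hline r₀ hr₀).1 (hline r₀ hr₀).2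
  set Ns : Set ℕ := {n | ∃ (l : ℕ) (r : G) (V : Subgroup G), L r ∧ Occurs G Ω e l u g r V ∧ Nat.card V = n}
  have hfin : Ns.Finite := (Set.finite_le_nat (Nat.card G)).subset fun n hn => by
    obtain ⟨l, r, V, -, -, rfl⟩ := hn
    exact Subgroup.card_le_card_group V
  obtain ⟨n, ⟨l, r, V, hr, hocc, rfl⟩, hmax⟩ := hfin.exists_maximal ⟨_, l, r₀, V, hr₀, hV, rfl⟩
  obtain ⟨hVg, y, hy, hLy, hsub⟩ := hstep r l V hr hocc
  obtain ⟨hly, hnfy⟩ := hline y hLy
  have hker : kerLine u g y = kerLine u g r := by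
    refine (Set.eq_of_subset_of_ncard_le hsub ?_ (Set.toFinite _)).symm
    rw [← bad_line_one hC hM hly]
    exact (hM u g _ hly.inv hly.fix hly.move).trans (hline r hr).1.ker
  obtain ⟨l', W, hW, hlt⟩ := occurs_step hC hM he hocc (hline r hr).2 hVg hy hly hnfy hker
  exact absurd (hmax ⟨l', y, W, hLy, hW, rfl⟩ hlt.le) (not_le.mpr hlt)

/-- Case 1 of B1: a maximal count `e > 1` needs a kernel of Lie type. -/
theorem exists_lMember (hB : Below.{u} (Nat.card G))
    (hex : ∃ (u : G) (g a : Ω), IsInv u ∧ u • g = g ∧ a ≠ g ∧ e ≤ (bad u g a).ncard) :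
    LMember G Ω e := by
  by_contra hnoL
  obtain ⟨u, g, a, hu, hug, hag, hcard⟩ := hex
  have hne : u • a ≠ a := fun h => hag (eq_of_fix hC hu h hug)
  have huD : u ∈ Subgroup.normalizer ((two a (u • a) : Subgroup G) : Set G) := mem_normalizer_of_conj fun x hx => by
    obtain ⟨h1, h2⟩ := mem_two.mp hx
    rw [hu.inv]
    exact mem_two.mpr ⟨by rw [mul_smul, mul_smul, h2, hu.smul_twice],
      by rw [mul_smul, mul_smul, hu.smul_twice, h1]⟩
  obtain ⟨y, -, hL, -⟩ := exists_line hC hu hug hag hcard (M := two a (u • a)) le_rfl huD inf_le_left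
    (exists_moves hC hu hug rfl hne)
  refine no_line_family hC hM he (fun r => Line e u g r)
    (fun r hr => ⟨hr, noFourLine hC hM hB hnoL hr⟩) ?_ y hL
  rintro r l V h ⟨-, hl, hVD, hDV, huV, hVl, hVc, hVY⟩
  haveI := Fact.mk hl
  have hVp : IsPGroup l V := fun v => ⟨1, Subtype.ext (by rw [pow_one]; exact hVl _ v.2)⟩
  refine ⟨outside_fix hC hM he hB hnoL h hVD hDV hVp huV hVY, ?_⟩
  have hu2 : u • r • g = r⁻¹ • g := by rw [← u_smul_two h, h.inv.smul_twice]
  have htwo : two (r • g) (u • r • g) = (two (r⁻¹ • g) (r • g) : Subgroup G) := by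
    rw [hu2]; exact CfsgLib.Bender.TwoClosed.mem_two_comm
  obtain ⟨z, hz, hzg⟩ := exists_moves hC h.inv h.fix (u_smul_two h) (line_ne h).symm
  have hbad := bad_line_one hC hM h
  obtain ⟨y, hyM, hLine, hsub⟩ := exists_line hC (e := e) h.inv h.fix h.move (hbad ▸ h.ker)
    (M := two (r⁻¹ • g) (r • g)) (by rw [htwo]) (u_normalizer_two hC hM h) (by rw [htwo]; exact inf_le_left)
    ⟨z, hz, hzg⟩
  exact ⟨y, hyM, hLine, hbad ▸ hsub⟩

end CfsgLib.Bender.B1
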