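import Cfsg.Agent.Lib.Bender.B1.Circle
import Cfsg.Agent.Lib.Bender.B1.Climb
import Cfsg.Agent.Lib.Bender.B1.RankOneEnd

/-!
The chosen circle or oval: the Glauberman subgroup and the cores of a pair stabiliser.

Blueprint: `blueprint/bender/A6.md`, case 2, Q2, Q3 (growth, residue) and Q4.
-/

set_option autoImplicit false
set_option linter.unusedSectionVars false
set_option linter.style.haveILetI false
set_option linter.unusedVariables false

namespace CfsgLib.Bender.B1

open MulAction Cfsg CfsgLib.SuzukiRankOne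
open CfsgLib.Bender.Ext (AbTwo IsSylowOf centOther mem_centOther pCoreOf_le isPGroup_pCoreOf normalizer_le_pCoreOf)
open CfsgLib.Bender.TwoClosed (IsInv IsInv.inv IsInv.conj IsInv.smul_twice two mem_two smul_conj MaxP exists_maxP
  exists_invariant_maxP odd_orderOf odd_orderOf_of_pGroup exists_mem_normalizer eq_one_of_inv_eq eq_one_of_two_odd)

universe u

variable {G : Type u} {Ω : Type u} [Group G] [MulAction G Ω]

/-- The part of a pair stabiliser inside `M`. -/
def pairIn (M : Subgroup G) (a b : Ω) : Subgroup G := two a b ⊓ M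

/-- The part of a point stabiliser in `M` stabilising the circle. -/
def pointIn (M : Subgroup G) (a b : Ω) : Subgroup G := M ⊓ stabilizer G a ⊓ setStab G (circ M a b)

/-- No involution of `M` centralises `O_r` of the fixer. -/
def Moving (Ω : Type u) [MulAction G Ω] (M : Subgroup G) (r : ℕ) : Prop :=
  ∀ i ∈ M, IsInv i → ∃ x ∈ pCoreOf r (fixer G (centres Ω M)), i * x * i ≠ x

theorem pairIn_le_two {M : Subgroup G} {a b : Ω} : pairIn M a b ≤ two a b := inf_le_left

theorem pairIn_le {M : Subgroup G} {a b : Ω} : pairIn M a b ≤ M := inf_le_right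

theorem fixer_le_two {M : Subgroup G} {a b : Ω} (ha : a ∈ centres Ω M) (hb : b ∈ centres Ω M) :
    fixer G (centres Ω M) ≤ two a b := fun _ hx => mem_two.mpr ⟨mem_fixer.mp hx a ha, mem_fixer.mp hx b hb⟩

theorem swap_normalizer_two [Finite G] {a b : Ω} {u : G} (hu : IsInv u) (hua : u • a = b) :
    u ∈ Subgroup.normalizer ((two a b : Subgroup G) : Set G) := mem_normalizer_of_conj fun x hx => by
  obtain ⟨h1, h2⟩ := mem_two.mp hx
  have hub : u • b = a := by rw [← hua, hu.smul_twice]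
  rw [hu.inv]
  exact mem_two.mpr ⟨by rw [mul_smul, mul_smul, hua, h2, hub], by rw [mul_smul, mul_smul, hub, h1, hua]⟩

/-- An element inverted by an involution and moved into its inverse commutes with it only when trivial. -/
theorem exists_inverted_in [Finite G] {u x : G} (hu : IsInv u) {K : Subgroup G} (hK : Odd (Nat.card K)) (hxK : x ∈ K)
    (huK : u * x * u ∈ K) (hne : u * x * u ≠ x) :
    ∃ s ∈ K, s = x⁻¹ * (u * x * u) ∧ u * s * u = s⁻¹ ∧ s * u ≠ u * s := by
  have hs : x⁻¹ * (u * x * u) ∈ K := mul_mem (inv_mem hxK) huK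
  have hinv : u * (x⁻¹ * (u * x * u)) * u = (x⁻¹ * (u * x * u))⁻¹ := by
    rw [invol_conj_mul hu.2, invol_conj_conj hu.2, invol_conj_inv hu.2, mul_inv_rev x⁻¹, inv_inv]
  refine ⟨_, hs, rfl, hinv, fun hcom => hne ?_⟩
  have h1 : x⁻¹ * (u * x * u) = 1 := by
    refine eq_one_of_inv_eq ?_ (odd_orderOf hK hs)
    rw [← hinv, mul_assoc u, hcom, ← mul_assoc, hu.2, one_mul]
  exact (inv_mul_eq_one.mp h1).symm

variable [Finite G] [FaithfulSMul G Ω] {e : ℕ} (hC : OneFix G Ω) (hB : Below.{u} (Nat.card G))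
  (hM : MaxBad G Ω e) (he : 1 < e) {M : Subgroup G} (hCh : Chosen Ω e M)
include hC hB hM he hCh

theorem fixer_le_pairIn {a b : Ω} (ha : a ∈ centres Ω M) (hb : b ∈ centres Ω M) :
    fixer G (centres Ω M) ≤ pairIn M a b := le_inf (fixer_le_two ha hb) (fixer_le hC hB he hCh)

theorem M_le_core (r : ℕ) : M ≤ Subgroup.normalizer (pCoreOf r (fixer G (centres Ω M)) : Set G) :=
  (le_normalizer_fixer hC hCh).trans (normalizer_le_pCoreOf r _)

theorem kerBad_eq_bad {u : G} (huM : u ∈ M) (hu : IsInv u) {g a : Ω} (hug : u • g = g) (ha : a ∈ centres Ω M)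
    (hag : a ≠ g) : bad u g a = kerBad Ω M u := by
  have hg : g ∈ centres Ω M := mem_centres huM hu hug
  refine (Set.eq_of_subset_of_ncard_le (s := kerBad Ω M u) (t := bad u g a) (fun x (hx : x ∈ kerBad Ω M u) => ⟨hx.2.1, hx.2.2 g hg, hx.2.2 a ha⟩) ?_ (Set.toFinite _)).symm
  exact (hM u g a hu hug hag).trans (hCh.carries.ker u huM hu)

theorem exists_moving : ∃ r : ℕ, r.Prime ∧ Moving Ω M r := by
  set K0 := fixer G (centres Ω M) with hK0
  obtain ⟨u, huM, v, hvM, hu, hv, -, -⟩ := hCh.carries.top.four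
  have hKodd := fixer_centres_odd hC hCh.carries.top
  suffices h : ∃ r : ℕ, r.Prime ∧ ∃ x ∈ pCoreOf r K0, u * x * u ≠ x by
    obtain ⟨r, hr, x, hx, hne⟩ := h
    refine ⟨r, hr, fun i hiM hi => ?_⟩
    obtain ⟨m, hmM, rfl⟩ := invol_conj_top hC hCh.carries.top huM hu hiM hi
    refine ⟨m * x * m⁻¹, (Subgroup.mem_normalizer_iff.mp (M_le_core hC hB hM he hCh r hmM) x).mp hx, fun h => hne ?_⟩
    have h' : m * (u * x * u) * m⁻¹ = m * x * m⁻¹ := by
      conv_rhs => rw [← h]
      group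
    exact mul_left_cancel (mul_right_cancel h')
  by_contra hno
  push Not at hno
  obtain ⟨g, hug⟩ := exists_fix hC hu
  haveI : Group.IsSolvable K0 := Cfsg.Agent.S0205.result hKodd
  obtain ⟨x, hx, hx1⟩ := Set.exists_ne_of_one_lt_ncard (lt_of_lt_of_le he (hCh.carries.ker u huM hu)) 1
  have hxK : x ∈ K0 := ker_subset_fixer hC hx
  have hodd := odd_orderOf hKodd hxK
  have hxc : ∀ r : ℕ, r.Prime → ∀ z ∈ pCoreOf r K0, z * x = x * z := fun r hr z hz => by
    refine (commute_of_inverted_fixed hu.2 hx.2.1 hodd (hno r hr z hz) (hno r hr _ ?_)).symm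
    exact (Subgroup.mem_normalizer_iff.mp (Subgroup.le_normalizer.trans (normalizer_le_pCoreOf r K0) hxK) z).mp hz
  have hxF := mem_fittingOf_of_centralizes hxK hxc
  have hFu : fittingOf K0 ≤ Subgroup.centralizer {u} := by
    rw [fittingOf, CfsgLib.fittingSubgroup_eq_iSup_pCore, Subgroup.map_iSup]
    refine iSup_le fun p z hz => Subgroup.mem_centralizer_singleton_iff.mpr ?_
    calc z * u = u * z * u * u := by rw [hno p p.2 z hz]
      _ = u * z := by rw [mul_assoc, hu.2, mul_one]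
  refine hx1 (eq_one_of_inv_eq ?_ hodd)
  rw [← hx.2.1, mul_assoc, Subgroup.mem_centralizer_singleton_iff.mp (hFu hxF), ← mul_assoc, hu.2, one_mul]

theorem cent_le_fixer {r : ℕ} (hr : Moving Ω M r) :
    M ⊓ Subgroup.centralizer (pCoreOf r (fixer G (centres Ω M)) : Set G) ≤ fixer G (centres Ω M) := by
  intro n hn
  refine mem_fixer.mpr fun c hc => ?_
  by_contra hnc
  obtain ⟨i, hiM, -, -, hi, -, -, -⟩ := hCh.carries.top.four
  set N := M ⊓ Subgroup.centralizer (pCoreOf r (fixer G (centres Ω M)) : Set G)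
  have hN : M ≤ Subgroup.normalizer (N : Set G) := fun m hm => Subgroup.mem_normalizer_iff.mpr fun x => by
    rw [Subgroup.mem_inf, Subgroup.mem_inf, ← Subgroup.mem_normalizer_iff.mp (Subgroup.le_normalizer hm) x,
      ← Subgroup.mem_normalizer_iff.mp (Ext.normalizer_le_centralizer (M_le_core hC hB hM he hCh r hm)) x]
  have hiN := invol_mem_of_normal hC hCh.carries.top hB inf_le_left hN hn hc hnc hiM hi
  obtain ⟨x, hx, hne⟩ := hr i hiM hi
  refine hne ?_
  rw [← hiN.2 x hx, mul_assoc, hi.2, mul_one]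

theorem cent_fitting_le {l : ℕ} [Fact l.Prime] {B : Subgroup G} (hBM : B ≤ M) :
    B ⊓ Subgroup.centralizer (pCoreOf l (fixer G (centres Ω M)) : Set G) ⊓ centOther l (fixer G (centres Ω M)) ≤
      fixer G (centres Ω M) := by
  intro x hx
  obtain ⟨r, hr, hmov⟩ := exists_moving hC hB hM he hCh
  refine cent_le_fixer hC hB hM he hCh hmov ⟨hBM hx.1.1, ?_⟩
  rcases eq_or_ne r l with rfl | hne
  · exact hx.1.2
  · exact mem_centOther.mp hx.2 r hr hne

theorem moving_ne_two {r : ℕ} (hr : r.Prime) (hmov : Moving Ω M r) : r ≠ 2 := by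
  rintro rfl
  obtain ⟨i, hiM, -, -, hi, -, -, -⟩ := hCh.carries.top.four
  obtain ⟨x, hx, hne⟩ := hmov i hiM hi
  haveI := Fact.mk Nat.prime_two
  obtain ⟨k, hk⟩ := isPGroup_pCoreOf 2 _ ⟨x, hx⟩
  have hodd := odd_orderOf (fixer_centres_odd hC hCh.carries.top) (pCoreOf_le 2 _ hx)
  have h1 : orderOf x = 1 := Nat.eq_one_of_dvd_coprimes (Nat.Coprime.pow_left k (Nat.coprime_two_left.2 hodd))
    (orderOf_dvd_of_pow_eq_one (congrArg Subtype.val hk)) dvd_rfl
  exact hne (by rw [orderOf_eq_one_iff.mp h1, mul_one, hi.2])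

variable {a b : Ω} (ha : a ∈ centres Ω M) (hb : b ∈ centres Ω M) (hne : b ≠ a)
include ha hb hne

theorem two_odd : Odd (Nat.card (two a b : Subgroup G)) := odd_two hC hne.symm

theorem invol_mem_pointIn {i : G} (hiM : i ∈ M) (hi : IsInv i) (hia : i • a = a) : i ∈ pointIn M a b := by
  haveI := finite_omega hC
  exact ⟨⟨hiM, hia⟩, mem_setStab_of_maps fun c hc => smul_circ_invol hC hCh.carries.top hB ha hb hne hiM hi hia hc⟩

theorem pairIn_le_pointIn : pairIn M a b ≤ pointIn M a b := fun x hx => by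
  haveI := finite_omega hC
  obtain ⟨hxa, hxb⟩ := mem_two.mp hx.1
  exact ⟨⟨hx.2, hxa⟩, mem_setStab_of_maps fun c hc => smul_circ_of_two hx.2 hxa hxb hc⟩

/-- An element of the point part is an involution at the point times an element of the pair part. -/
theorem pointIn_decomp {x : G} (hx : x ∈ pointIn M a b) :
    ∃ i ∈ M, (i = 1 ∨ IsInv i) ∧ i • a = a ∧ i * x ∈ pairIn M a b := by
  obtain ⟨⟨hxM, hxa⟩, hxs⟩ := hx
  have hxb : x • b ∈ circ M a b := (hxs b).mpr (Or.inr (Or.inl rfl))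
  rcases hxb with h | h | ⟨i, hiM, hi, hia, hib⟩
  · exact absurd (smul_left_cancel x (h.trans hxa.symm)) hne
  · exact ⟨1, one_mem _, Or.inl rfl, one_smul _ _,
      ⟨mem_two.mpr ⟨by rw [one_mul, hxa], by rw [one_mul, h]⟩, by rwa [one_mul]⟩⟩
  · refine ⟨i, hiM, Or.inr hi, hia, mem_two.mpr ⟨?_, ?_⟩, mul_mem hiM hxM⟩
    · rw [mul_smul, mem_stabilizer_iff.mp hxa, hia]
    · rw [mul_smul, ← hib, hi.smul_twice]

theorem card_pointIn : ∃ f : ℕ, Nat.card (pointIn M a b) = 2 ^ f * Nat.card (pairIn M a b) := by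
  haveI := finite_omega hC
  obtain ⟨f, -, hf⟩ := qTop_two_pow hC hCh.carries.top hB
  refine ⟨f, ?_⟩
  set B := pointIn M a b with hBdef
  have horb : orbit B b = circ M a b \ {a} := by
    ext c
    constructor
    · rintro ⟨⟨x, hx⟩, rfl⟩
      exact ⟨(hx.2 b).mpr (Or.inr (Or.inl rfl)), fun e => hne (smul_left_cancel x (e.trans hx.1.2.symm))⟩
    · rintro ⟨hc | hc | ⟨i, hiM, hi, hia, rfl⟩, hca⟩
      · exact absurd hc hca
      · rw [hc]; exact mem_orbit_self b
      · exact ⟨⟨i, invol_mem_pointIn hC hB hM he hCh ha hb hne hiM hi hia⟩, rfl⟩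
  have hcard : Nat.card (orbit B b) = 2 ^ f := by
    rw [horb, Nat.card_coe_set_eq, Set.ncard_sdiff_singleton_of_mem (show a ∈ circ M a b from Or.inl rfl),
      ← Nat.card_coe_set_eq, card_circ hC hCh.carries.top hB ha hb hne, hf, Nat.add_sub_cancel]
  have hstab : stabilizer B b = (pairIn M a b).subgroupOf B := by
    ext x
    rw [mem_stabilizer_iff, Subgroup.mem_subgroupOf]
    exact ⟨fun h => ⟨mem_two.mpr ⟨x.2.1.2, h⟩, x.2.1.1⟩, fun h => (mem_two.mp h.1).2⟩
  rw [Subgroup.card_eq_card_quotient_mul_card_subgroup (stabilizer B b),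
    ← Nat.card_congr (orbitEquivQuotientStabilizer B b), hcard, hstab,
    Nat.card_congr (Subgroup.subgroupOfEquivOfLe (pairIn_le_pointIn hC hB hM he hCh ha hb hne)).toEquiv]

theorem abTwo_pointIn : AbTwo (pointIn M a b) := by
  haveI := finite_omega hC
  haveI := Fact.mk Nat.prime_two
  obtain ⟨w, hwM, hw, hwa⟩ := centres_swap hC ha hb hne.symm
  have hT := hCh.carries.top
  obtain ⟨Q, hS⟩ := hT.setup hC hB ha hwM hw (by rw [hwa]; exact hne)
  set B := pointIn M a b
  let φ : B →* topGrp Ω M := (img Ω M).comp (Subgroup.inclusion (inf_le_left.trans inf_le_left : B ≤ M))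
  have key : ∀ (x : B) (k : ℕ), x ^ 2 ^ k = 1 → φ x * φ x = 1 := by
    intro x k hk
    obtain ⟨i, hiM, hi, hia, hd⟩ := pointIn_decomp hC hB hM he hCh ha hb hne x.2
    obtain ⟨hda, hdb⟩ := mem_two.mp hd.1
    set ib := img Ω M ⟨i, hiM⟩
    set db := img Ω M ⟨i * x, hd.2⟩
    have hii : i * i = 1 := by
      rcases hi with rfl | hi
      · exact one_mul 1
      · exact hi.2
    have hib2 : ib * ib = 1 := by
      rw [← map_mul, show (⟨i, hiM⟩ : M) * ⟨i, hiM⟩ = 1 from Subtype.ext hii, map_one]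
    have hiQ : ib ∈ Q := CfsgLib.RankOne.invol_mem_Q hS (Subtype.ext hia) hib2
    have hxe : φ x = ib * db := by
      show img Ω M _ = _
      rw [← map_mul]
      refine congrArg _ (Subtype.ext ?_)
      show (x : G) = i * (i * x)
      rw [← mul_assoc, hii, one_mul]
    have hdD : db ∈ CfsgLib.RankOne.D (⟨a, ha⟩ : centres Ω M) (img Ω M ⟨w, hwM⟩) := by
      refine (CfsgLib.RankOne.mem_D hS).mpr ⟨Subtype.ext hda, Subtype.ext ?_⟩
      show (i * x : G) • w • a = w • a
      rw [hwa, hdb]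
    have hda' : ∀ n : ℕ, (db ^ n) • (⟨a, ha⟩ : centres Ω M) = ⟨a, ha⟩ := fun n =>
      ((CfsgLib.RankOne.mem_D hS).mp (pow_mem hdD n)).1
    have hpow : ∀ n : ℕ, ∃ q ∈ Q, (ib * db) ^ n = q * db ^ n := by
      intro n
      induction n with
      | zero => exact ⟨1, one_mem _, by simp⟩
      | succ n ih =>
        obtain ⟨q, hq, e⟩ := ih
        refine ⟨q * (db ^ n * ib * (db ^ n)⁻¹), mul_mem hq (CfsgLib.RankOne.conj_Q hS (hda' n) hiQ), ?_⟩
        rw [pow_succ (ib * db), e, pow_succ db]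
        group
    obtain ⟨q, hq, e⟩ := hpow (2 ^ k)
    rw [← hxe, ← map_pow, hk, map_one] at e
    have hdQ : db ^ 2 ^ k ∈ Q := by
      rw [show db ^ 2 ^ k = q⁻¹ from eq_inv_of_mul_eq_one_right e.symm]
      exact inv_mem hq
    have h1 : db ^ 2 ^ k = 1 := CfsgLib.RankOne.eq_one_of_fix_ta hS hdQ
      ((CfsgLib.RankOne.mem_D hS).mp (pow_mem hdD _)).2
    have hodd : Odd (orderOf db) := hS.odd_card.of_dvd_nat
      (Subgroup.orderOf_dvd_natCard _ hdD)
    have h2 : db = 1 := orderOf_eq_one_iff.mp (Nat.eq_one_of_dvd_coprimes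
      (Nat.Coprime.pow_left k (Nat.coprime_two_left.2 hodd)) (orderOf_dvd_of_pow_eq_one h1) dvd_rfl)
    rw [hxe, h2, mul_one, hib2]
  intro P hP x hx y hy
  obtain ⟨kx, hkx⟩ := hP ⟨x, hx⟩
  obtain ⟨ky, hky⟩ := hP ⟨y, hy⟩
  obtain ⟨kxy, hkxy⟩ := hP ⟨x * y, mul_mem hx hy⟩
  have e1 := key x kx (congrArg Subtype.val hkx)
  have e2 := key y ky (congrArg Subtype.val hky)
  have e3 := key (x * y) kxy (congrArg Subtype.val hkxy)
  rw [map_mul] at e3
  have hc : φ (x * y * x⁻¹ * y⁻¹) = 1 := by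
    rw [map_mul, map_mul, map_mul, map_inv, map_inv, inv_eq_of_mul_eq_one_right e1,
      inv_eq_of_mul_eq_one_right e2, mul_assoc (φ x * φ y), e3]
  obtain ⟨j, hj⟩ := hP ⟨x * y * x⁻¹ * y⁻¹, mul_mem (mul_mem (mul_mem hx hy) (inv_mem hx)) (inv_mem hy)⟩
  have hodd := odd_of_img_one hC hT hc
  have hj' : ((x * y * x⁻¹ * y⁻¹ : B) : G) ^ 2 ^ j = 1 := congrArg (fun z : P => ((z : B) : G)) hj
  have h1 : ((x * y * x⁻¹ * y⁻¹ : B) : G) = 1 := orderOf_eq_one_iff.mp (Nat.eq_one_of_dvd_coprimes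
    (Nat.Coprime.pow_left j (Nat.coprime_two_left.2 hodd)) (orderOf_dvd_of_pow_eq_one hj') dvd_rfl)
  have h2 : x * y * x⁻¹ * y⁻¹ = 1 := Subtype.ext h1
  rw [mul_inv_eq_one, mul_inv_eq_iff_eq_mul] at h2
  exact h2

theorem solvable_pointIn : Group.IsSolvable (pointIn M a b) := by
  haveI := finite_omega hC
  haveI := Fact.mk Nat.prime_two
  obtain ⟨w, hwM, hw, hwa⟩ := centres_swap hC ha hb hne.symm
  have hT := hCh.carries.top
  obtain ⟨Q, hS⟩ := hT.setup hC hB ha hwM hw (by rw [hwa]; exact hne)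
  set P := stabilizer (topGrp Ω M) (⟨a, ha⟩ : centres Ω M)
  haveI : (Q.subgroupOf P).Normal := ⟨fun n hn h => hS.conj_mem h h.2 n hn⟩
  haveI : Group.IsNilpotent Q := (CfsgLib.SuzukiRankOne.concl hS (hT.fourTop hC)).1.isNilpotent
  haveI : Group.IsSolvable (Q.subgroupOf P) :=
    Group.isSolvable_of_isSolvable_injective (f := (Subgroup.subgroupOfEquivOfLe hS.le).toMonoidHom)
      (Subgroup.subgroupOfEquivOfLe hS.le).injective
  set D := CfsgLib.RankOne.D (⟨a, ha⟩ : centres Ω M) (img Ω M ⟨w, hwM⟩) with hD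
  haveI : Group.IsSolvable D := Cfsg.Agent.S0205.result hS.odd_card
  haveI : Group.IsSolvable (P ⧸ Q.subgroupOf P) := by
    refine Group.isSolvable_of_surjective (f := (QuotientGroup.mk' (Q.subgroupOf P)).comp
      (Subgroup.inclusion (CfsgLib.RankOne.D_le hS : D ≤ P))) fun z => ?_
    obtain ⟨⟨g, hg⟩, rfl⟩ := QuotientGroup.mk'_surjective _ z
    obtain ⟨q, hq, d, hd, rfl⟩ := CfsgLib.RankOne.exists_decomp hS (mem_stabilizer_iff.mp hg)
    refine ⟨⟨d, hd⟩, ?_⟩
    refine (QuotientGroup.mk'_eq_mk' _).mpr ⟨⟨d⁻¹ * q * d,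
      P.mul_mem (P.mul_mem (P.inv_mem hd.1) (hS.le hq)) hd.1⟩, ?_, Subtype.ext ?_⟩
    · have := hS.conj_mem d⁻¹ (P.inv_mem hd.1) q hq
      rw [Subgroup.mem_subgroupOf]
      simpa using this
    · show (d : topGrp Ω M) * (d⁻¹ * q * d) = q * d
      group
  haveI : Group.IsSolvable P := Group.isSolvable_of_ker_le_range (Q.subgroupOf P).subtype (QuotientGroup.mk' (Q.subgroupOf P))
    (by rw [QuotientGroup.ker_mk', Subgroup.range_subtype])
  set B := pointIn M a b
  let φ : B →* P := ((img Ω M).comp (Subgroup.inclusion (inf_le_left.trans inf_le_left : B ≤ M))).codRestrict P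
    fun x => Subtype.ext x.2.1.2
  have hker : Odd (Nat.card (φ.ker.map B.subtype)) := by
    refine (fixer_centres_odd hC hT).of_dvd_nat (Subgroup.card_dvd_of_le ?_)
    rintro _ ⟨x, hx, rfl⟩
    exact mem_fixer.mpr fun c hc => img_eq_one_iff.mp (congrArg Subtype.val (MonoidHom.mem_ker.mp hx)) c hc
  rw [Subgroup.card_map_of_injective B.subtype_injective] at hker
  haveI : Group.IsSolvable φ.ker := Cfsg.Agent.S0205.result hker
  exact Group.isSolvable_of_ker_le_range φ.ker.subtype φ (by rw [Subgroup.range_subtype])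

theorem pointIn_le_normalizer :
    pointIn M a b ≤ Subgroup.normalizer (fixer G (centres Ω M) : Set G) :=
  (inf_le_left.trans inf_le_left : pointIn M a b ≤ M).trans (le_normalizer_fixer hC hCh)

variable {u : G} (huM : u ∈ M) (hu : IsInv u) (hua : u • a = b)
include huM hu hua

theorem swap_normalizer_pairIn : u ∈ Subgroup.normalizer (pairIn M a b : Set G) :=
  Subgroup.mem_normalizer_iff.mpr fun x =>
    and_congr (Subgroup.mem_normalizer_iff.mp (swap_normalizer_two hu hua) x)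
      (Subgroup.mem_normalizer_iff.mp (Subgroup.le_normalizer huM) x)

theorem swap_normalizer_cent (l : ℕ) [Fact l.Prime] :
    u ∈ Subgroup.normalizer ((pairIn M a b ⊓ centOther l (fixer G (centres Ω M)) : Subgroup G) : Set G) := by
  refine Subgroup.mem_normalizer_iff.mpr fun x => ?_
  have hc : x ∈ centOther l (fixer G (centres Ω M)) ↔ u * x * u⁻¹ ∈ centOther l (fixer G (centres Ω M)) := by
    simp only [mem_centOther]
    refine forall_congr' fun r => imp_congr_right fun hr => imp_congr_right fun _ => ?_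
    exact Subgroup.mem_normalizer_iff.mp (Ext.normalizer_le_centralizer (M_le_core hC hB hM he hCh r huM)) x
  exact and_congr (Subgroup.mem_normalizer_iff.mp (swap_normalizer_pairIn hC hB hM he hCh ha hb hne huM hu hua) x) hc

/-- A subgroup of odd order normalised by the point part and the swapper fixes all centres. -/
theorem le_fixer_of_normalised {Z : Subgroup G} (hZ : Z ≠ ⊥) (hZM : Z ≤ M) (hodd : Odd (Nat.card Z))
    (hZa : ∀ z ∈ Z, z • a = a) (huZ : u ∈ Subgroup.normalizer (Z : Set G))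
    (hinv : ∀ i ∈ M, IsInv i → i • a = a → i ∈ Subgroup.normalizer (Z : Set G))
    (hfix : fixer G (centres Ω M) ≤ Subgroup.normalizer (Z : Set G)) : Z ≤ fixer G (centres Ω M) := by
  haveI := finite_omega hC
  set X := M ⊓ Subgroup.normalizer (Z : Set G) with hXdef
  have hmemX : ∀ {y : G}, y ∈ M → y ∈ Subgroup.normalizer (Z : Set G) → y ∈ X := fun h1 h2 =>
    Subgroup.mem_inf.mpr ⟨h1, h2⟩
  have hX : X ≠ ⊤ := fun e => hCh.carries.top.ne_top (top_le_iff.mp (e ▸ inf_le_left))
  obtain ⟨hXc, hXq, hcirc⟩ := normalizer_top hC hB he hCh ha hb hne huM hu hua (Y := X) hX (hmemX huM huZ)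
    (fun i hiM hi hia => hmemX hiM (hinv i hiM hi hia)) (le_inf (fixer_le hC hB he hCh) hfix)
  have hcen : centres Ω X = centres Ω M := by
    refine Set.Subset.antisymm (centres_mono inf_le_left) ?_
    rcases hCh.shape with h | ⟨h, hsz⟩
    · rw [← circ_eq_centres hC hCh.carries.top hB ha hb hne h, ← hcirc]
      obtain ⟨v, hvM, -, -, hv, hva, -⟩ := four_at hC hCh.carries.top ha
      exact circ_subset hC hXc.top (mem_centres (hmemX hvM (hinv v hvM hv hva)) hv hva)
        (hua ▸ centres_smul (hmemX huM huZ) (mem_centres (hmemX hvM (hinv v hvM hv hva)) hv hva))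
    · exact (Set.eq_of_subset_of_ncard_le (centres_mono inf_le_left)
        (by rw [← Nat.card_coe_set_eq, ← Nat.card_coe_set_eq, h, (hsz X hXc hXq).1]) (Set.toFinite _)).ge
  intro z hz
  refine mem_fixer.mpr fun c hc => ?_
  by_contra hzc
  obtain ⟨v, hvM, -, -, hv, hva, -⟩ := four_at hC hCh.carries.top ha
  have hvZ := invol_mem_of_normal hC hXc.top hB (le_inf hZM Subgroup.le_normalizer) inf_le_right hz
    (hcen.symm ▸ hc) hzc (hmemX hvM (hinv v hvM hv hva)) hv
  exact hv.1 (eq_one_of_two_odd (by rw [pow_two]; exact hv.2) (odd_orderOf hodd hvZ))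

/-- Q2: `Z(J)` of an invariant Sylow subgroup of the centraliser of the other cores. -/
theorem zj_pair {l : ℕ} [Fact l.Prime] (hl : l ≠ 2) {R : Subgroup G}
    (hR : MaxP l (pairIn M a b ⊓ centOther l (fixer G (centres Ω M))) R)
    (huR : u ∈ Subgroup.normalizer (R : Set G)) (hR0 : R ≠ ⊥) :
    two a b ⊓ Subgroup.normalizer (CfsgLib.ZJ.zj 0 R : Set G) ≤ M := by
  haveI := finite_omega hC
  set K0 := fixer G (centres Ω M) with hK0
  set B := pointIn M a b with hBdef
  set C := B ⊓ centOther l K0 with hCdef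
  have hEB : pairIn M a b ≤ B := pairIn_le_pointIn hC hB hM he hCh ha hb hne
  haveI : Group.IsSolvable B := solvable_pointIn hC hB hM he hCh ha hb hne
  haveI : Group.IsSolvable K0 := Cfsg.Agent.S0205.result (fixer_centres_odd hC hCh.carries.top)
  have hK0B : K0 ≤ B := (fixer_le_pairIn hC hB hM he hCh ha hb).trans hEB
  have hBn := pointIn_le_normalizer hC hB hM he hCh ha hb hne
  have hCn : B ≤ Subgroup.normalizer (C : Set G) := fun g hg => by
    refine Subgroup.mem_normalizer_iff.mpr fun x => ?_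
    have hc : x ∈ centOther l K0 ↔ g * x * g⁻¹ ∈ centOther l K0 := by
      simp only [mem_centOther]
      refine forall_congr' fun r => imp_congr_right fun hr => imp_congr_right fun _ => ?_
      exact Subgroup.mem_normalizer_iff.mp (Ext.normalizer_le_centralizer (normalizer_le_pCoreOf r K0 (hBn hg))) x
    exact and_congr (Subgroup.mem_normalizer_iff.mp (Subgroup.le_normalizer hg) x) hc
  have hle : pairIn M a b ⊓ centOther l K0 ≤ C := inf_le_inf_right _ hEB
  -- the index of the pair part is a power of two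
  have hidx : ∃ f, (pairIn M a b ⊓ centOther l K0).relIndex C ∣ 2 ^ f := by
    obtain ⟨f, hf⟩ := card_pointIn hC hB hM he hCh ha hb hne
    refine ⟨f, ?_⟩
    haveI : (C.subgroupOf B).Normal := (Subgroup.normal_subgroupOf_iff_le_normalizer inf_le_left).mpr hCn
    have h1 := Subgroup.relIndex_dvd_index_of_normal (C.subgroupOf B) ((pairIn M a b).subgroupOf B)
    rw [Subgroup.relIndex_subgroupOf hEB] at h1
    change C.relIndex (pairIn M a b) ∣ C.relIndex B at h1
    rw [show C.relIndex (pairIn M a b) = (pairIn M a b ⊓ centOther l K0).relIndex (pairIn M a b) by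
      rw [← Subgroup.inf_relIndex_right C, show C ⊓ pairIn M a b = pairIn M a b ⊓ centOther l K0 by
        rw [hCdef, inf_right_comm, inf_eq_right.mpr hEB]]] at h1
    set E := pairIn M a b
    set N := pairIn M a b ⊓ centOther l K0
    have e1 : Nat.card B = N.relIndex C * C.relIndex B * Nat.card N := by
      rw [← Subgroup.relIndex_bot_left, ← Subgroup.relIndex_bot_left (H := N),
        Subgroup.relIndex_mul_relIndex N C B hle inf_le_left, mul_comm,
        Subgroup.relIndex_mul_relIndex ⊥ N B bot_le (hle.trans inf_le_left)]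
    have e2 : Nat.card E = N.relIndex E * Nat.card N := by
      rw [← Subgroup.relIndex_bot_left, ← Subgroup.relIndex_bot_left (H := N), mul_comm,
        Subgroup.relIndex_mul_relIndex ⊥ N E bot_le inf_le_left]
    rw [e1, e2, ← mul_assoc] at hf
    have h3 := Nat.eq_of_mul_eq_mul_right Nat.card_pos hf
    obtain ⟨k, hk⟩ := h1
    refine ⟨k, Nat.eq_of_mul_eq_mul_right (m := N.relIndex E) ?_ ?_⟩
    · exact Nat.pos_of_ne_zero Subgroup.index_ne_zero_of_finite
    · rw [← h3, hk]; ring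
  have hS : IsSylowOf l R C := by
    refine ⟨hR.le.trans hle, hR.isPGroup, ?_⟩
    obtain ⟨T, hT⟩ := hR.sylow
    rw [← Subgroup.relIndex_mul_relIndex R _ C hR.le hle]
    intro hd
    rcases (Fact.out : l.Prime).dvd_mul.mp hd with h | h
    · refine T.not_dvd_index ?_
      rw [hT]
      exact h
    · obtain ⟨f, hf⟩ := hidx
      exact hl ((Nat.prime_dvd_prime_iff_eq Fact.out Nat.prime_two).mp ((Fact.out : l.Prime).dvd_of_dvd_pow (h.trans hf)))
  obtain ⟨hZ1, -⟩ := Ext.zj_cent_fitting (abTwo_pointIn hC hB hM he hCh ha hb hne) hl hK0B hBn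
    (cent_fitting_le hC hB hM he hCh (inf_le_left.trans inf_le_left)) hS
  set Z := CfsgLib.ZJ.zj 0 R
  have hZ0 : Z ≠ ⊥ := CfsgLib.ZJ.zj_ne_bot (p := l) (Or.inl rfl) hR.isPGroup hR0
  have hZE : Z ≤ pairIn M a b := (CfsgLib.ZJ.zj_le 0 R).trans (hR.le.trans inf_le_left)
  have huZ : u ∈ Subgroup.normalizer (Z : Set G) := CfsgLib.ZJ.normalizer_le_normalizer_zj 0 R huR
  have hinv : ∀ i ∈ M, IsInv i → i • a = a → i ∈ Subgroup.normalizer (Z : Set G) := fun i hiM hi hia =>
    hZ1 (invol_mem_pointIn hC hB hM he hCh ha hb hne hiM hi hia)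
  have hZK := le_fixer_of_normalised hC hB hM he hCh ha hb hne huM hu hua hZ0 (hZE.trans inf_le_right)
    ((two_odd hC hB hM he hCh ha hb hne).of_dvd_nat (Subgroup.card_dvd_of_le (hZE.trans inf_le_left)))
    (fun z hz => (mem_two.mp (hZE hz).1).1) huZ hinv (hK0B.trans hZ1)
  exact normalizer_inf_two_le hC hB he hCh ha hb hne huM hu hua hZ0 hZK huZ hinv (hK0B.trans hZ1)

theorem exists_pair_sylow (l : ℕ) [Fact l.Prime] :
    ∃ R, MaxP l (pairIn M a b ⊓ centOther l (fixer G (centres Ω M))) R ∧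
      u ∈ Subgroup.normalizer (R : Set G) :=
  exists_invariant_maxP ((two_odd hC hB hM he hCh ha hb hne).of_dvd_nat
    (Subgroup.card_dvd_of_le (inf_le_left.trans inf_le_left))) hu.2
    fun k hk => (Subgroup.mem_normalizer_iff.mp (swap_normalizer_cent hC hB hM he hCh ha hb hne huM hu hua l) k).mp hk

omit huM hu hua in
/-- Cores of the pair part commute with the cores of the fixer at other primes. -/
theorem commute_core {r l : ℕ} (hr : r.Prime) (hl : l.Prime) (hrl : r ≠ l) {W : Subgroup G}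
    (hWE : W ≤ pairIn M a b) (hEW : pairIn M a b ≤ Subgroup.normalizer (W : Set G)) (hW : IsPGroup l W) :
    W ≤ Subgroup.centralizer (pCoreOf r (fixer G (centres Ω M)) : Set G) := by
  haveI := Fact.mk hr
  haveI := Fact.mk hl
  refine Ext.commute_of_inf_eq_bot (hWE.trans (inf_le_right.trans (M_le_core hC hB hM he hCh r)))
    (((pCoreOf_le r _).trans (fixer_le_pairIn hC hB hM he hCh ha hb)).trans hEW) ?_
  exact disjoint_iff.mp (IsPGroup.disjoint_of_ne l r hrl.symm _ _ hW (isPGroup_pCoreOf r _))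

omit huM hu hua in
theorem le_core_of_other {r l : ℕ} (hr : r.Prime) (hl : l.Prime) (hrl : r ≠ l) (hmov : Moving Ω M r)
    {W : Subgroup G} (hWE : W ≤ pairIn M a b) (hEW : pairIn M a b ≤ Subgroup.normalizer (W : Set G))
    (hW : IsPGroup l W) : W ≤ pCoreOf l (fixer G (centres Ω M)) := by
  have hWK : W ≤ fixer G (centres Ω M) := fun w hw => cent_le_fixer hC hB hM he hCh hmov
    ⟨(hWE hw).2, commute_core hC hB hM he hCh ha hb hne hr hl hrl hWE hEW hW hw⟩
  exact le_pCoreOf' hWK ((fixer_le_pairIn hC hB hM he hCh ha hb).trans hEW) hW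

omit huM hu hua in
/-- Growth: if only `M` normalises `R` and `P` meets `M` in `R`, then `P` lies in `M`. -/
theorem le_of_growth {l : ℕ} [Fact l.Prime] {P R : Subgroup G} (hPD : P ≤ two a b)
    (hDP : two a b ≤ Subgroup.normalizer (P : Set G)) (hP : IsPGroup l P) (hRE : R ≤ pairIn M a b)
    (hR : IsPGroup l R) (hPR : P ⊓ M ≤ R) (hN : two a b ⊓ Subgroup.normalizer (R : Set G) ≤ M) : P ≤ M := by
  have hRP : R ≤ Subgroup.normalizer (P : Set G) := (hRE.trans inf_le_left).trans hDP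
  rcases (le_sup_left : R ≤ R ⊔ P).eq_or_lt with h | hlt
  · exact (le_sup_right.trans h.ge).trans (hRE.trans inf_le_right)
  obtain ⟨y, hy, hyR, hyn⟩ := exists_mem_normalizer (hR.to_sup_of_normal_right' hP hRP) hlt
  have hyM : y ∈ M := hN ⟨sup_le (hRE.trans inf_le_left) hPD hy, hyn⟩
  rw [← SetLike.mem_coe, Subgroup.coe_mul_of_left_le_normalizer_right _ _ hRP] at hy
  obtain ⟨r, hr, p, hp, rfl⟩ := Set.mem_mul.mp hy
  refine absurd (mul_mem hr (hPR ⟨hp, ?_⟩)) hyR
  rw [← inv_mul_cancel_left r p]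
  exact M.mul_mem (M.inv_mem (pairIn_le (hRE hr))) hyM

omit huM hu hua in
theorem le_maxP_of_normal {l : ℕ} [Fact l.Prime] {K R W : Subgroup G} (hR : MaxP l K R) (hW : IsPGroup l W)
    (hWK : W ≤ K) (hKW : K ≤ Subgroup.normalizer (W : Set G)) : W ≤ R := by
  rw [← hR.eq_of_le (hR.isPGroup.to_sup_of_normal_right' hW (hR.le.trans hKW)) (sup_le hR.le hWK) le_sup_left]
  exact le_sup_right

/-- A normal subgroup of prime power order of the pair stabiliser outside `M` fixes the centres of the swappers. -/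
theorem fix_swap_centre {l : ℕ} (hl : l.Prime) {P : Subgroup G} (hPD : P ≤ two a b)
    (hDP : two a b ≤ Subgroup.normalizer (P : Set G)) (hP : IsPGroup l P)
    (huP : u ∈ Subgroup.normalizer (P : Set G)) (hPM : ¬ P ≤ M)
    {v : G} (hvM : v ∈ M) (hv : IsInv v) (hva : v • a = b) {g : Ω} (hvg : v • g = g) :
    ∀ p ∈ P, p • g = g := by
  haveI := Fact.mk hl
  set K0 := fixer G (centres Ω M) with hK0
  set E := pairIn M a b with hE
  have hDodd := two_odd hC hB hM he hCh ha hb hne
  have hl2 : l ≠ 2 := by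
    rintro rfl
    refine hPM fun p hp => ?_
    obtain ⟨k, hk⟩ := hP ⟨p, hp⟩
    have h1 : orderOf p = 1 := Nat.eq_one_of_dvd_coprimes
      (Nat.Coprime.pow_left k (Nat.coprime_two_left.2 (odd_orderOf hDodd (hPD hp))))
      (orderOf_dvd_of_pow_eq_one (congrArg Subtype.val hk)) dvd_rfl
    rw [orderOf_eq_one_iff.mp h1]
    exact one_mem _
  have hPME : P ⊓ M ≤ E := fun x hx => ⟨hPD hx.1, hx.2⟩
  have hEPM : E ≤ Subgroup.normalizer ((P ⊓ M : Subgroup G) : Set G) := fun g hg =>
    Subgroup.mem_normalizer_iff.mpr fun x => and_congr (Subgroup.mem_normalizer_iff.mp (hDP hg.1) x)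
      (Subgroup.mem_normalizer_iff.mp (Subgroup.le_normalizer hg.2) x)
  have hPMp : IsPGroup l (P ⊓ M : Subgroup G) := hP.to_le inf_le_left
  have hK0E : K0 ≤ E := fixer_le_pairIn hC hB hM he hCh ha hb
  obtain ⟨r, hr, hrl, hmov⟩ : ∃ r : ℕ, r.Prime ∧ r ≠ l ∧ Moving Ω M r := by
    by_contra hno
    push Not at hno
    obtain ⟨r, hr, hmov⟩ := exists_moving hC hB hM he hCh
    obtain rfl : r = l := by
      by_contra hrl
      exact hno r hr hrl hmov
    obtain ⟨R, hR, huR⟩ := exists_pair_sylow hC hB hM he hCh ha hb hne huM hu hua r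
    have hPR : P ⊓ M ≤ R := le_maxP_of_normal hC hB hM he hCh ha hb hne hR hPMp
      (fun x hx => ⟨hPME hx, mem_centOther.mpr fun s hs hsr =>
        commute_core hC hB hM he hCh ha hb hne hs hr hsr hPME hEPM hPMp hx⟩)
      (inf_le_left.trans hEPM)
    have hR0 : R ≠ ⊥ := by
      intro e0
      obtain ⟨i, hiM, -, -, hi, -, -, -⟩ := hCh.carries.top.four
      obtain ⟨x, hx, hxne⟩ := hmov i hiM hi
      have hsub : pCoreOf r K0 ≤ E := (pCoreOf_le r K0).trans hK0E
      have hn : E ≤ Subgroup.normalizer (pCoreOf r K0 : Set G) := inf_le_right.trans (M_le_core hC hB hM he hCh r)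
      have hxR : x ∈ R := le_maxP_of_normal hC hB hM he hCh ha hb hne hR (isPGroup_pCoreOf r K0)
        (fun y hy => ⟨hsub hy, mem_centOther.mpr fun s hs hsr =>
          commute_core hC hB hM he hCh ha hb hne hs hr hsr hsub hn (isPGroup_pCoreOf r K0) hy⟩)
        (inf_le_left.trans hn) hx
      rw [e0, Subgroup.mem_bot] at hxR
      exact hxne (by rw [hxR, mul_one, hi.2])
    refine hPM (le_of_growth hC hB hM he hCh ha hb hne hPD hDP hP (hR.le.trans inf_le_left) hR.isPGroup hPR ?_)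
    exact le_trans (inf_le_inf_left _ (CfsgLib.ZJ.normalizer_le_normalizer_zj 0 R))
      (zj_pair hC hB hM he hCh ha hb hne huM hu hua hl2 hR huR hR0)
  have hPMK : P ⊓ M ≤ pCoreOf l K0 := le_core_of_other hC hB hM he hCh ha hb hne hr hl hrl hmov hPME hEPM hPMp
  -- the `l`-core of the fixer is trivial
  have hcore : pCoreOf l K0 = ⊥ := by
    by_contra hne'
    refine hPM (le_of_growth hC hB hM he hCh ha hb hne hPD hDP hP ((pCoreOf_le l K0).trans hK0E)
      (isPGroup_pCoreOf l K0) hPMK ?_)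
    exact normalizer_inf_two_le hC hB he hCh ha hb hne huM hu hua hne' (pCoreOf_le l K0)
      (M_le_core hC hB hM he hCh l huM) (fun i hiM _ _ => M_le_core hC hB hM he hCh l hiM)
      (Subgroup.le_normalizer.trans (normalizer_le_pCoreOf l K0))
  have hPM0 : ∀ p ∈ P, p ∈ M → p = 1 := fun p hp hpM => by
    have := hPMK ⟨hp, hpM⟩
    rwa [hcore, Subgroup.mem_bot] at this
  have hgM : g ∈ centres Ω M := mem_centres hvM hv hvg
  have hga : a ≠ g := fun e => hne (by rw [← hva, e, hvg])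
  have hvP : v ∈ Subgroup.normalizer (P : Set G) := by
    have hub : u • b = a := by rw [← hua, hu.smul_twice]
    have hvb : v • b = a := by rw [← hva, hv.smul_twice]
    have hd : u * v ∈ two a b :=
      mem_two.mpr ⟨by rw [mul_smul, hva, hub], by rw [mul_smul, hvb, hua]⟩
    rw [show v = u * (u * v) by rw [← mul_assoc, hu.2, one_mul]]
    exact mul_mem huP (hDP hd)
  -- fixed points of `v` in `P` centralise the inverted elements
  set S : Set G := {x | x ∈ pCoreOf r K0 ∧ v * x * v = x⁻¹}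
  have hKodd := fixer_centres_odd hC hCh.carries.top
  have hSK : ∀ x ∈ S, x ∈ K0 := fun x hx => pCoreOf_le r K0 hx.1
  have hcent : ∀ p ∈ P, p • g = g → v * p * v = p := by
    intro p hp hpg
    have hvp : v * p * v ∈ P := by
      have := (Subgroup.mem_normalizer_iff.mp hvP p).mp hp
      rwa [hv.inv] at this
    have hj : v * p * v * p⁻¹ ∈ P := mul_mem hvp (inv_mem hp)
    have hjb : v * p * v * p⁻¹ ∈ bad v g a := by
      refine ⟨?_, ?_, (mem_two.mp (hPD hj)).1⟩
      · rw [invol_conj_mul hv.2, invol_conj_conj hv.2, invol_conj_inv hv.2, mul_inv_rev (v * p * v), inv_inv]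
      · rw [mul_smul, inv_smul_eq_iff.mpr hpg.symm, mul_smul, mul_smul, hvg, hpg, hvg]
    rw [kerBad_eq_bad hC hB hM he hCh hvM hv hvg ha hga] at hjb
    exact mul_inv_eq_one.mp (hPM0 _ hj hjb.1)
  have hfix : ∀ c ∈ P, v * c * v = c → ∀ x ∈ S, x * c = c * x := by
    intro c hc hcv x hx
    have hcg : c • g = g := fix_of_fixed hC hv hvg hcv
    have hxc : x * c * x⁻¹ ∈ P := (Subgroup.mem_normalizer_iff.mp (hDP (fixer_le_two ha hb (hSK x hx))) c).mp hc
    have hxg : x • g = g := mem_fixer.mp (hSK x hx) g hgM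
    refine commute_of_inverted_fixed hv.2 hx.2 (odd_orderOf hKodd (hSK x hx)) hcv (hcent _ hxc ?_)
    rw [mul_smul, mul_smul, inv_smul_eq_iff.mpr hxg.symm, hcg, hxg]
  have hcl : Subgroup.closure S ≤ pCoreOf r K0 := (Subgroup.closure_le _).mpr fun x hx => hx.1
  have hcop := inverted_centralize hP (hDodd.of_dvd_nat (Subgroup.card_dvd_of_le hPD)) hv.2 hvP S
    (fun x hx => ⟨hx.2, odd_orderOf hKodd (hSK x hx), hDP (fixer_le_two ha hb (hSK x hx))⟩) hfix
  have hPC : P ≤ Subgroup.centralizer (Subgroup.closure S : Set G) := fun p hp x hx => by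
    haveI := Fact.mk hr
    obtain ⟨k, hk⟩ := isPGroup_pCoreOf r K0 ⟨x, hcl hx⟩
    refine hcop x hx (Nat.Coprime.coprime_dvd_left (orderOf_dvd_of_pow_eq_one (congrArg Subtype.val hk)) ?_) p hp
    exact Nat.Coprime.pow_left k ((Nat.coprime_primes hr hl).mpr hrl)
  -- a four group at `g` normalises the closure
  have hnorm : ∀ w ∈ M, w * v = v * w → w ∈ Subgroup.normalizer (Subgroup.closure S : Set G) := by
    intro w hwM hwv
    refine mem_normalizer_of_conj fun x hx => ?_
    induction hx using Subgroup.closure_induction with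
    | mem x hx =>
      refine Subgroup.subset_closure ⟨(Subgroup.mem_normalizer_iff.mp (M_le_core hC hB hM he hCh r hwM) x).mp hx.1, ?_⟩
      have h1 : v * w = w * v := hwv.symm
      have h2 : w⁻¹ * v = v * w⁻¹ := (Commute.inv_left (show Commute w v from hwv)).eq
      calc v * (w * x * w⁻¹) * v = v * w * x * (w⁻¹ * v) := by group
        _ = w * v * x * (v * w⁻¹) := by rw [h1, h2]
        _ = w * (v * x * v) * w⁻¹ := by group
        _ = (w * x * w⁻¹)⁻¹ := by rw [hx.2]; group
    | one => simp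
    | mul y z _ _ hy hz => rw [← conj_mul]; exact mul_mem hy hz
    | inv y _ hy => rw [← conj_inv]; exact inv_mem hy
  obtain ⟨v1, hv1M, w1, hw1M, hv1, hv1g, hw1, hw1g, hvw, hcom⟩ := four_at hC hCh.carries.top hgM
  obtain ⟨m, hmM, hmv⟩ := invol_conj_top hC hCh.carries.top hv1M hv1 hvM hv
  have hwv : (m * w1 * m⁻¹) * v = v * (m * w1 * m⁻¹) := by rw [← hmv, four_conj hcom.symm]
  obtain ⟨x0, hx0, hx0ne⟩ := hmov v hvM hv
  obtain ⟨s, hs, -, hsinv, hsv⟩ := exists_inverted_in hv
    (hKodd.of_dvd_nat (Subgroup.card_dvd_of_le (pCoreOf_le r K0))) hx0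
    (by have := (Subgroup.mem_normalizer_iff.mp (M_le_core hC hB hM he hCh r hvM) x0).mp hx0
        rwa [hv.inv] at this) hx0ne
  intro p hp
  exact lemmaV hC hB hv hvg (hw1.conj m) (fun e => hvw (mul_left_cancel (mul_right_cancel (hmv.trans e))))
    hwv.symm (hnorm v hvM rfl) (hnorm _ (mul_mem (mul_mem hmM hw1M) (inv_mem hmM)) hwv)
    (fun x hx => mem_fixer.mp (pCoreOf_le r K0 (hcl hx)) g hgM)
    ⟨s, Subgroup.subset_closure ⟨hs, hsinv⟩, hsv⟩ (hPC hp)

/-- Q4: if every core of the pair stabiliser lies in `M`, so does the pair stabiliser. -/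
theorem two_le_of_cores (hall : ∀ l : ℕ, l.Prime → pCoreOf l (two a b : Subgroup G) ≤ M) : two a b ≤ M := by
  set D : Subgroup G := two a b with hDdef
  set K0 := fixer G (centres Ω M) with hK0
  set E := pairIn M a b with hE
  have hDodd : Odd (Nat.card D) := two_odd hC hB hM he hCh ha hb hne
  haveI : Group.IsSolvable D := Cfsg.Agent.S0205.result hDodd
  obtain ⟨q, hq, hmov⟩ := exists_moving hC hB hM he hCh
  haveI := Fact.mk hq
  have hq2 := moving_ne_two hC hB hM he hCh hq hmov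
  have hED : E ≤ D := inf_le_left
  have hallE : ∀ s : ℕ, s.Prime → pCoreOf s D ≤ E := fun s hs x hx => ⟨pCoreOf_le s D hx, hall s hs hx⟩
  have hK0E : K0 ≤ E := fixer_le_pairIn hC hB hM he hCh ha hb
  have hcores : ∀ s : ℕ, s.Prime → s ≠ q → pCoreOf s E = pCoreOf s K0 := fun s hs hsq => by
    refine le_antisymm (le_core_of_other hC hB hM he hCh ha hb hne hq hs hsq.symm hmov (pCoreOf_le s E)
      (Subgroup.le_normalizer.trans (normalizer_le_pCoreOf s E)) (isPGroup_pCoreOf s E)) ?_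
    exact le_pCoreOf' ((pCoreOf_le s K0).trans hK0E) (inf_le_right.trans (M_le_core hC hB hM he hCh s))
      (isPGroup_pCoreOf s K0)
  have hCy : E ⊓ centOther q E = E ⊓ centOther q K0 := by
    ext x
    simp only [Subgroup.mem_inf, mem_centOther]
    refine and_congr_right fun _ => forall_congr' fun s => imp_congr_right fun hs => imp_congr_right fun hsq => ?_
    rw [hcores s hs hsq]
  set Cy := E ⊓ centOther q E
  set Cd := D ⊓ centOther q D
  have hCyd : Cy ≤ Cd := fun y hy => ⟨hED hy.1, mem_centOther.mpr fun s hs hsq t ht =>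
    mem_centOther.mp hy.2 s hs hsq t (pCoreOf_mono hED (hallE s hs) ht)⟩
  obtain ⟨R, hR', huR⟩ := exists_pair_sylow hC hB hM he hCh ha hb hne huM hu hua q
  have hR : MaxP q Cy R := by rw [hCy]; exact hR'
  have hR0 : R ≠ ⊥ := by
    intro e0
    obtain ⟨i, hiM, -, -, hi, -, -, -⟩ := hCh.carries.top.four
    obtain ⟨x, hx, hxne⟩ := hmov i hiM hi
    have hsub : pCoreOf q K0 ≤ E := (pCoreOf_le q K0).trans hK0E
    have hn : E ≤ Subgroup.normalizer (pCoreOf q K0 : Set G) := inf_le_right.trans (M_le_core hC hB hM he hCh q)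
    have hxR : x ∈ R := le_maxP_of_normal hC hB hM he hCh ha hb hne hR' (isPGroup_pCoreOf q K0)
      (fun y hy => ⟨hsub hy, mem_centOther.mpr fun s hs hsr =>
        commute_core hC hB hM he hCh ha hb hne hs hq hsr hsub hn (isPGroup_pCoreOf q K0) hy⟩)
      (inf_le_left.trans hn) hx
    rw [e0, Subgroup.mem_bot] at hxR
    exact hxne (by rw [hxR, mul_one, hi.2])
  have hP1 : D ⊓ Subgroup.normalizer (CfsgLib.ZJ.zj 0 R : Set G) ≤ M :=
    zj_pair hC hB hM he hCh ha hb hne huM hu hua hq2 hR' huR hR0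
  -- the Sylow subgroup is also one of the larger centraliser
  obtain ⟨T, hRT, hT⟩ := exists_maxP hR.isPGroup (hR.le.trans hCyd)
  have hTR : T = R := by
    rcases hRT.lt_or_eq with hlt | h
    swap
    · exact h.symm
    obtain ⟨y, hy, hyR, hyn⟩ := exists_mem_normalizer hT.isPGroup hlt
    have hyD := hT.le hy
    have hyE : y ∈ E := ⟨hyD.1, hP1 ⟨hyD.1, CfsgLib.ZJ.normalizer_le_normalizer_zj 0 R hyn⟩⟩
    obtain ⟨k, hk⟩ := hT.isPGroup ⟨y, hy⟩
    have hyC : y ∈ Cy := ⟨hyE, cent_other_step hED hallE hyD.1 hyD.2 (congrArg Subtype.val hk)⟩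
    have := hR.eq_of_le (hT.isPGroup.to_le (sup_le hlt.le (Subgroup.zpowers_le.mpr hy)))
      (sup_le hR.le (Subgroup.zpowers_le.mpr hyC)) le_sup_left
    exact absurd (this ▸ (le_sup_right : Subgroup.zpowers y ≤ _) (Subgroup.mem_zpowers y)) hyR
  rw [hTR] at hT
  have hI : IsSylowOf q R Cd := ⟨hT.le, hT.isPGroup, by
    obtain ⟨S, hS⟩ := hT.sylow
    rw [Subgroup.relIndex, ← hS]
    exact S.not_dvd_index⟩
  exact fun y hy => hP1 ⟨hy, Ext.zj_of_odd hDodd hq2 hI (Subgroup.le_normalizer hy)⟩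

end CfsgLib.Bender.B1
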