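import Cfsg.Agent.Lib.Bender.B1.CircleCore

/-!
The pair stabilisers of the chosen circle or oval lie in its stabiliser.

Blueprint: `blueprint/bender/A6.md`, case 2, Q3 (circle and Suzuki residue).
-/

set_option autoImplicit false
set_option linter.unusedSectionVars false
set_option linter.style.haveILetI false
set_option linter.unusedVariables false

namespace CfsgLib.Bender.B1

open MulAction Cfsg CfsgLib.SuzukiRankOne
open CfsgLib.Bender.TwoClosed (IsInv IsInv.inv IsInv.conj IsInv.smul_twice two mem_two smul_conj odd_orderOf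
  eq_one_of_inv_eq)

universe u v

section RankOne

variable {G : Type u} {Ω : Type v} [Group G] [Finite G] [MulAction G Ω] [FaithfulSMul G Ω] {a : Ω} {t : G}
  {Q : Subgroup G}

/-- In a Suzuki top only the identity of the two-point stabiliser commutes with the torus and the swapper. -/
theorem eq_one_of_cent_torus (hS : IsRankOneSetup G Ω a t Q) (h2 : Four G) (hR : ¬ Rsq a t Q) {x y : G}
    (hx : x ∈ invertedBy (CfsgLib.RankOne.D a t) t) (hord : orderOf x + 1 = qZ G a)
    (hy : y ∈ CfsgLib.RankOne.D a t) (hyt : t * y * t = y) (hyx : y * x = x * y) : y = 1 := by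
  classical
  obtain ⟨C, hC, -, -⟩ := Cfsg.Agent.S1131.result hS h2
  have hmem : ∀ {g : G}, g ∈ C ↔ g ∈ invertedBy (CfsgLib.RankOne.D a t) t := fun {g} => by
    rw [← SetLike.mem_coe, hC]
  have hxC : Subgroup.zpowers x = C := by
    refine Subgroup.eq_of_le_of_card_ge (Subgroup.zpowers_le.mpr (hmem.mpr hx)) ?_
    have := card_inverted_qZ hS
    rw [show Nat.card (invertedBy (CfsgLib.RankOne.D a t) t) = Nat.card C by rw [← hC]; rfl] at this
    rw [Nat.card_zpowers]
    omega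
  have hcomC : ∀ c ∈ C, y * c = c * y := fun c hc => by
    rw [← hxC] at hc
    obtain ⟨i, rfl⟩ := hc
    exact ((show Commute y x from hyx).zpow_right i).eq
  obtain ⟨s, hs, -⟩ := CfsgLib.RankOne.two_le_card_invol hS h2
  have hya := ((CfsgLib.RankOne.mem_D hS).mp hy).1
  have hys := invol_conj_mem hS hya hs
  obtain ⟨k, hk, hks⟩ := CfsgLib.RankOne.exists_conj_inverted hS hs hys
  have hkC := hmem.mpr hk
  set w := k * y with hw
  have hws : w * s = s * w := by
    have e : w * s * w⁻¹ = s := by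
      calc w * s * w⁻¹ = k * (y * s * y⁻¹) * k⁻¹ := by rw [hw]; group
        _ = k * (k⁻¹ * s * k) * k⁻¹ := by rw [hks]
        _ = s := by group
    exact mul_inv_eq_iff_eq_mul.mp e
  have hwC : ∀ c ∈ C, Commute w c := fun c hc => by
    rw [← hxC] at hkC hc
    obtain ⟨i, rfl⟩ := hkC
    obtain ⟨j, rfl⟩ := hc
    exact ((Commute.refl x).zpow_zpow i j).mul_left ((show Commute y x from hyx).zpow_right j)
  have hQ : Nat.card Q = qZ G a ^ 2 := by
    rcases Ext.shape_cases hS h2 with ⟨h, -⟩ | ⟨-, h⟩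
    · exact absurd h hR
    · exact h
  have hW := noW hS h2 (iHyp_of_parts parts _) (concl hS h2).1 (Or.inl hQ) hR
  have hw1 : w = 1 := by
    refine hW w (mul_mem hk.1 hy) fun s' hs' => ?_
    obtain ⟨k', hk', rfl⟩ := CfsgLib.RankOne.exists_conj_inverted hS hs hs'
    have hc := hwC k' (hmem.mpr hk')
    exact (((Commute.inv_right hc).mul_right hws).mul_right hc).eq
  have hy' : y = k⁻¹ := eq_inv_of_mul_eq_one_right hw1
  refine eq_one_of_inv_eq ?_ (hS.odd_card.of_dvd_nat (Subgroup.orderOf_dvd_natCard _ hy))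
  have hti : t⁻¹ = t := inv_eq_of_mul_eq_one_right hS.mul_self
  have h3 : t * y * t⁻¹ = y⁻¹ := by
    rw [hy', show t * k⁻¹ * t⁻¹ = (t * k * t⁻¹)⁻¹ by group, hk.2]
  rw [← h3, hti, hyt]

end RankOne

variable {G : Type u} {Ω : Type u} [Group G] [MulAction G Ω]

/-- An element of `M` inverted by `u` acting as a full torus, whose line stabiliser is not in `M`. -/
structure Torus (Ω : Type u) [MulAction G Ω] (M : Subgroup G) (u : G) (g : Ω) (r : G) : Prop where
  mem : r ∈ M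
  rinv : u * r * u = r⁻¹
  odd : Odd (orderOf r)
  dvd : ∀ n : ℕ, (r ^ n) • g = g → qTop Ω M - 1 ∣ n
  out : ¬ lineStab g r ≤ M

variable [Finite G] [FaithfulSMul G Ω] {e : ℕ} (hC : OneFix G Ω) (hB : Below.{u} (Nat.card G))
  (hM : MaxBad G Ω e) (he : 1 < e) {M : Subgroup G} (hCh : Chosen Ω e M)
include hC hB hM he hCh

theorem exists_torus {a b g : Ω} (ha : a ∈ centres Ω M) (hb : b ∈ centres Ω M) (hne : b ≠ a) {u : G}
    (huM : u ∈ M) (hu : IsInv u) (hua : u • a = b) (hug : u • g = g) :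
    ∃ y ∈ M, y • a = a ∧ y • b = b ∧ u * y * u = y⁻¹ ∧ Odd (orderOf y) ∧
      ∀ n : ℕ, (y ^ n) • g = g → qTop Ω M - 1 ∣ n := by
  haveI := finite_omega hC
  have hT := hCh.carries.top
  have hga : a ≠ g := fun e0 => hne (by rw [← hua, e0, hug])
  obtain ⟨Q, hS⟩ := hT.setup hC hB ha huM hu (by rw [hua]; exact hne)
  set t := img Ω M ⟨u, huM⟩
  have h2 := hT.fourTop hC
  obtain ⟨C, hCs, hcyc, -⟩ := Cfsg.Agent.S1131.result hS h2
  obtain ⟨c, hc⟩ := hcyc.exists_generator
  have hcI : (c : topGrp Ω M) ∈ invertedBy (CfsgLib.RankOne.D (⟨a, ha⟩ : centres Ω M) t) t := by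
    have := c.2
    rw [← SetLike.mem_coe, hCs] at this
    exact this
  obtain ⟨x, hx⟩ := MonoidHom.rangeRestrict_surjective (centresPerm Ω M) (c : topGrp Ω M)
  change img Ω M x = c at hx
  obtain ⟨hca, hct⟩ := (CfsgLib.RankOne.mem_D hS).mp hcI.1
  have hxa : (x : G) • a = a := by rw [← img_smul x ⟨a, ha⟩, hx, hca]
  have hxb : (x : G) • b = b := by
    have h := congrArg (fun z : centres Ω M => (z : Ω)) hct
    rw [← hx] at h
    change (x : G) • u • a = u • a at h
    rwa [hua] at h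
  have hub : u • b = a := by rw [← hua, hu.smul_twice]
  set y : M := x⁻¹ * (⟨u, huM⟩ * x * ⟨u, huM⟩) with hydef
  have hy : (y : G) = (x : G)⁻¹ * (u * x * u) := rfl
  have hya : (y : G) • a = a := by
    rw [hy, mul_smul, mul_smul, mul_smul, hua, hxb, hub, inv_smul_eq_iff, hxa]
  have hyb : (y : G) • b = b := by
    rw [hy, mul_smul, mul_smul, mul_smul, hub, hxa, hua, inv_smul_eq_iff, hxb]
  have hyinv : u * (y : G) * u = (y : G)⁻¹ := by
    rw [hy, invol_conj_mul hu.2, invol_conj_conj hu.2, invol_conj_inv hu.2, mul_inv_rev (x : G)⁻¹, inv_inv]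
  refine ⟨y, y.2, hya, hyb, hyinv, odd_of_fix_two hC hne.symm hya hyb, fun n hn => ?_⟩
  have hbad : (y : G) ^ n ∈ bad u g a := by
    refine ⟨?_, hn, mem_stabilizer_iff.mp (Subgroup.pow_mem _ (mem_stabilizer_iff.mpr hya) n)⟩
    have h := conj_pow (i := n) (a := u) (b := (y : G))
    rw [hu.inv, hyinv, inv_pow] at h
    exact h.symm
  rw [kerBad_eq_bad hC hB hM he hCh huM hu hug ha hga] at hbad
  have h1 : img Ω M (y ^ n) = 1 := img_eq_one_iff.mpr fun d hd => by
    rw [Subgroup.coe_pow]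
    exact hbad.2.2 d hd
  have hti : t * c * t = (c : topGrp Ω M)⁻¹ := by
    rw [← hcI.2, inv_eq_of_mul_eq_one_right hS.mul_self]
  have hyc : img Ω M y = (c : topGrp Ω M)⁻¹ * (c : topGrp Ω M)⁻¹ := by
    rw [hydef, map_mul, map_mul, map_mul, map_inv, hx, hti]
  rw [map_pow] at h1
  have hdvd := orderOf_dvd_of_pow_eq_one h1
  have hodd : Odd (orderOf (c : topGrp Ω M)) := hS.odd_card.of_dvd_nat (Subgroup.orderOf_dvd_natCard _ hcI.1)
  have hord : orderOf (img Ω M y) = orderOf (c : topGrp Ω M) := by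
    rw [hyc, ← mul_inv_rev, orderOf_inv, ← pow_two]
    exact Nat.Coprime.orderOf_pow (Nat.coprime_two_right.mpr hodd)
  rw [hord, Subgroup.orderOf_coe, orderOf_eq_card_of_forall_mem_zpowers hc] at hdvd
  have hcard := card_inverted_qZ hS
  rw [show Nat.card (invertedBy (CfsgLib.RankOne.D (⟨a, ha⟩ : centres Ω M) t) t) = Nat.card C by rw [← hCs]; rfl,
    qTop_eq hC hT ha] at hcard
  rwa [show qTop Ω M - 1 = Nat.card C by omega]

/-- A subgroup fixing the centres of all swappers fixes the lines of the torus elements. -/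
theorem le_lineStab_torus {a b g : Ω} {u y : G} (huM : u ∈ M) (hu : IsInv u) (hua : u • a = b)
    (hug : u • g = g) (hyM : y ∈ M) (hya : y • a = a) (hyb : y • b = b) {P : Subgroup G}
    (hP : ∀ v ∈ M, IsInv v → v • a = b → ∀ c : Ω, v • c = c → ∀ p ∈ P, p • c = c) : P ≤ lineStab g y := by
  intro p hp
  refine mem_lineStab.mpr fun n => ?_
  refine hP (y ^ n * u * (y ^ n)⁻¹) (mul_mem (mul_mem (zpow_mem hyM n) huM) (inv_mem (zpow_mem hyM n)))
    (hu.conj _) ?_ _ (smul_conj hug) p hp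
  have hna : (y ^ n) • a = a := mem_stabilizer_iff.mp (Subgroup.zpow_mem _ (mem_stabilizer_iff.mpr hya) n)
  have hnb : (y ^ n) • b = b := mem_stabilizer_iff.mp (Subgroup.zpow_mem _ (mem_stabilizer_iff.mpr hyb) n)
  rw [mul_smul, mul_smul, inv_smul_eq_iff.mpr hna.symm, hua, hnb]

theorem line_of_torus {u r : G} {g : Ω} (huM : u ∈ M) (hu : IsInv u) (hug : u • g = g)
    (h : Torus Ω M u g r) : Line e u g r := by
  haveI := finite_omega hC
  have hq := (even_qTop hC hCh.carries.top hB).2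
  refine ⟨hu, hug, h.rinv, h.odd, fun e0 => ?_, (hCh.carries.ker u huM hu).trans (Set.ncard_le_ncard ?_ (Set.toFinite _))⟩
  · have := Nat.le_of_dvd one_pos (h.dvd 1 (by rwa [pow_one]))
    omega
  · exact fun x hx => ⟨mem_lineStab.mpr fun n => hx.2.2 _ (centres_smul (zpow_mem h.mem n) (mem_centres huM hu hug)),
      hx.2.1⟩

theorem fixer_le_lineStab {u r : G} {g : Ω} (huM : u ∈ M) (hu : IsInv u) (hug : u • g = g) (hr : r ∈ M) :
    fixer G (centres Ω M) ≤ lineStab g r := fun x hx =>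
  mem_lineStab.mpr fun n => mem_fixer.mp hx _ (centres_smul (zpow_mem hr n) (mem_centres huM hu hug))

/-- In the Suzuki case a torus line has no four group in the normalisers of its invariant subgroups. -/
theorem noFour_of_torus {u r : G} {g : Ω} (huM : u ∈ M) (hu : IsInv u) (hug : u • g = g)
    (hsz : ∀ X : Subgroup G, Carries Ω e X → qTop Ω X = qTop Ω M → Nat.card (centres Ω X) = qTop Ω M ^ 2 + 1 ∧
      (fixer G (centres Ω M) ≤ fixer G (centres Ω X) → fixer G (centres Ω X) = fixer G (centres Ω M)))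
    (h : Torus Ω M u g r) : NoFourLine u g r := by
  haveI := finite_omega hC
  intro Z hZ hZY hY huX hrX h4
  set X := Subgroup.normalizer (Z : Set G)
  have hL := line_of_torus hC hB hM he hCh huM hu hug h
  have hXtop : X ≠ ⊤ := fun e0 => by
    haveI := Subgroup.normalizer_eq_top_iff.mp e0
    exact hZ (eq_bot_of_normal hC fun x hx => lineStab_fix (hZY hx))
  have hgX : g ∈ centres Ω X := mem_centres huX hu hug
  have hrgX : r • g ∈ centres Ω X := centres_smul hrX hgX
  have hT : IsTop Ω X := ⟨hXtop, h4, g, r • g, hgX, hrgX, hL.move⟩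
  have hkX : ∀ x ∈ lineStab g r, u * x * u = x⁻¹ → ∀ d ∈ centres Ω X, x • d = d := fun x hx hxu d hd =>
    inverted_fix_centres hC hB hXtop h4 hu huX hug ⟨_, hrgX, hL.move⟩ (hY hx) (lineStab_fix hx) hxu
      (kerLine_odd hC hL hx) hd
  have hXc : Carries Ω e X := carries_of_one hC hT huX hu (hL.ker.trans
    (Set.ncard_le_ncard (fun x hx => ⟨hY hx.1, hx.2, hkX x hx.1 hx.2⟩) (Set.toFinite _)))
  obtain ⟨f, hf2, hf⟩ := qTop_two_pow hC hCh.carries.top hB
  obtain ⟨f', hf2', hf'⟩ := qTop_two_pow hC hT hB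
  have h4q : 4 ≤ 2 ^ f := le_trans (by norm_num) (Nat.pow_le_pow_right (by norm_num : 1 ≤ 2) hf2)
  -- the torus element in the top
  set U := img Ω X ⟨u, huX⟩
  set R := img Ω X ⟨r, hrX⟩
  obtain ⟨hU1, hU2⟩ := img_isInv hC hT (x := ⟨u, huX⟩) hu
  have hodd : ∀ z : X, Odd (orderOf (z : G)) → Odd (orderOf (img Ω X z)) := fun z hz =>
    hz.of_dvd_nat (by rw [Subgroup.orderOf_coe z]; exact orderOf_map_dvd _ _)
  have hURU : U * R * U = R⁻¹ := by
    rw [← map_mul, ← map_mul, ← map_inv]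
    exact congrArg _ (Subtype.ext h.rinv)
  have hRodd := hodd ⟨r, hrX⟩ h.odd
  have hRdvd : qTop Ω M - 1 ∣ orderOf R := h.dvd _ (by
    have h1 : img Ω X (⟨r, hrX⟩ ^ orderOf R) = 1 := by rw [map_pow, pow_orderOf_eq_one]
    have h2 := img_eq_one_iff.mp h1 g hgX
    rwa [Subgroup.coe_pow] at h2)
  have h2top := hT.fourTop hC
  obtain ⟨w, hwX, hw, hwg⟩ := centres_swap hC hgX hrgX hL.move.symm
  obtain ⟨Q, hS⟩ := hT.setup hC hB hgX hwX hw (by rw [hwg]; exact hL.move)
  have hord := Ext.inverted_order hS h2top hRodd hU1 hU2 hURU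
  rw [qTop_eq hC hT hgX] at hord
  have hqq : qTop Ω X = qTop Ω M := by
    have hle := hCh.maxq X hXc
    rw [hf, hf'] at hle
    have hle' : f' ≤ f := (Nat.pow_le_pow_iff_right (by norm_num : 1 < 2)).mp hle
    rcases hle'.lt_or_eq with hlt | heq
    swap
    · rw [hf, hf', heq]
    obtain ⟨b1, b2, b3⟩ := Ext.pow_bound (n := f) (n' := f') (by omega) (by omega) hlt
    rw [hf'] at hord
    rw [hf] at hRdvd
    rcases hord with h1 | h1 | ⟨-, h1⟩
    · exact absurd (hRdvd.trans h1) b1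
    · exact absurd (hRdvd.trans h1) b2
    · exact absurd (hRdvd.trans h1) b3
  obtain ⟨hcard, hmax⟩ := hsz X hXc hqq
  rw [hqq, hf] at hord
  rw [hf] at hRdvd hcard
  -- the order is exactly `q - 1`
  have htwo : ∀ m : ℕ, 2 ^ f - 1 ∣ m * (2 ^ f - 1) + 2 → False := fun m hm => by
    have := Nat.le_of_dvd two_pos ((Nat.dvd_add_right (dvd_mul_left _ m)).mp hm)
    omega
  have hsq : (2 ^ f) ^ 2 + 1 = (2 ^ f + 1) * (2 ^ f - 1) + 2 := by
    obtain ⟨j, hj⟩ := Nat.exists_eq_add_of_le h4q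
    rw [hj, show 4 + j - 1 = 3 + j by omega]
    ring
  have hordR : orderOf R = 2 ^ f - 1 := by
    rcases hord with h1 | h1 | ⟨-, h1⟩
    · exact Nat.dvd_antisymm h1 hRdvd
    · exact absurd (show 2 ^ f - 1 ∣ 1 * (2 ^ f - 1) + 2 by
        rw [one_mul, show 2 ^ f - 1 + 2 = 2 ^ f + 1 by omega]; exact hRdvd.trans h1) (htwo 1)
    · exact absurd (hsq ▸ hRdvd.trans h1) (htwo _)
  -- a fixed point of a power of the torus element
  obtain ⟨c, m, hmc, hm1⟩ : ∃ (c : centres Ω X) (m : ℕ), R ^ m • c = c ∧ R ^ m ≠ 1 := by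
    by_contra hfree
    push Not at hfree
    have h1 := Ext.orderOf_dvd_card (x := R) (S := (Set.univ : Set (centres Ω X))) (fun _ _ => Set.mem_univ _)
      (fun c _ m hm => hfree c m hm)
    rw [hordR, Nat.card_congr (Equiv.Set.univ _), hcard] at h1
    exact htwo _ (hsq ▸ h1)
  have hUc : U • c ≠ c := fun e0 => hm1 (Ext.inverted_eq_one hS h2top hU1 hU2 (by
    have h := conj_pow (i := m) (a := U) (b := R)
    rw [inv_eq_of_mul_eq_one_right hU2, hURU, inv_pow] at h
    exact h.symm) (hRodd.of_dvd_nat (orderOf_pow_dvd m)) e0 hmc)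
  obtain ⟨c, hcX⟩ := c
  have huc : u • c ≠ c := fun e0 => hUc (Subtype.ext e0)
  obtain ⟨Qc, hSc⟩ := hT.setup hC hB hcX huX hu huc
  have hUi : U⁻¹ = U := inv_eq_of_mul_eq_one_right hU2
  have hRm : U * R ^ m * U = (R ^ m)⁻¹ := by
    have h := conj_pow (i := m) (a := U) (b := R)
    rw [hUi, hURU, inv_pow] at h
    exact h.symm
  have hmD : R ^ m ∈ CfsgLib.RankOne.D (⟨c, hcX⟩ : centres Ω X) U := by
    refine (CfsgLib.RankOne.mem_D hSc).mpr ⟨hmc, ?_⟩
    have h1 : (R ^ m)⁻¹ • (⟨c, hcX⟩ : centres Ω X) = ⟨c, hcX⟩ := inv_smul_eq_iff.mpr hmc.symm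
    rw [← hRm, mul_smul, mul_smul] at h1
    have h3 : U • U • R ^ m • U • (⟨c, hcX⟩ : centres Ω X) = U • (⟨c, hcX⟩ : centres Ω X) := congrArg (U • ·) h1
    rw [smul_smul U U, show U * U = 1 from hU2, one_smul] at h3
    exact h3
  have hcomD : ∀ z : topGrp Ω X, Odd (orderOf z) → z * R ^ m = R ^ m * z →
      z ∈ CfsgLib.RankOne.D (⟨c, hcX⟩ : centres Ω X) U := by
    intro z hz hzc
    have hfix : ∀ d : centres Ω X, R ^ m • d = d → z • d = ⟨c, hcX⟩ ∨ z • d = U • ⟨c, hcX⟩ := fun d hd =>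
      CfsgLib.RankOne.inverted_fix hSc ⟨hmD, by rw [hUi]; exact hRm⟩ hm1 (by rw [← mul_smul, ← hzc, mul_smul, hd])
    have h1 := hfix _ ((CfsgLib.RankOne.mem_D hSc).mp hmD).1
    have h2 := hfix _ ((CfsgLib.RankOne.mem_D hSc).mp hmD).2
    exact (CfsgLib.RankOne.mem_D hSc).mpr ⟨smul_eq_of_pair hz h1 h2, smul_eq_of_pair hz h2.symm h1.symm⟩
  have hRD := hcomD R hRodd ((Commute.refl R).pow_right m).eq
  have hnR : ¬ Rsq (⟨c, hcX⟩ : centres Ω X) U Qc := by
    intro hR'
    have hp := CfsgLib.RankOne.card_points hSc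
    rw [hcard] at hp
    rcases Ext.shape_cases hSc h2top with ⟨-, h1 | h1⟩ | ⟨hn, -⟩
    · rw [h1, qTop_eq hC hT hcX, hqq, hf] at hp
      nlinarith
    · rw [h1, qTop_eq hC hT hcX, hqq, hf] at hp
      nlinarith
    · exact hn hR'
  -- the line stabiliser fixes every centre
  have hUy : ∀ y : X, (y : G) ∈ lineStab g r → U * img Ω X y * U = img Ω X y := by
    intro y hy
    have hju : (y : G)⁻¹ * u * y * u ∈ lineStab g r := by
      have h1 : u * (y : G) * u ∈ lineStab g r := by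
        have := (Subgroup.mem_normalizer_iff.mp (u_normalizer hL) _).mp hy
        rwa [hu.inv] at this
      simpa [mul_assoc] using mul_mem (inv_mem hy) h1
    have hinv : u * ((y : G)⁻¹ * u * y * u) * u = ((y : G)⁻¹ * u * y * u)⁻¹ := by
      rw [mul_inv_rev, mul_inv_rev, mul_inv_rev, inv_inv, hu.inv]
      calc u * ((y : G)⁻¹ * u * y * u) * u = u * ((y : G)⁻¹ * u * y) * (u * u) := by group
        _ = u * ((y : G)⁻¹ * (u * y)) := by rw [hu.2, mul_one, mul_assoc]
    have h1 : img Ω X (y⁻¹ * ⟨u, huX⟩ * y * ⟨u, huX⟩) = 1 :=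
      img_eq_one_iff.mpr fun d hd => hkX _ hju hinv d hd
    rw [map_mul, map_mul, map_mul, map_inv, mul_assoc, mul_assoc, inv_mul_eq_one, ← mul_assoc] at h1
    exact h1.symm
  have hYfix : lineStab g r ≤ fixer G (centres Ω X) := by
    intro y hy
    set Y := img Ω X ⟨y, hY hy⟩
    have e1 : U * Y * U = Y := hUy ⟨y, hY hy⟩ hy
    have hy' : r⁻¹ * y * r ∈ lineStab g r := (Subgroup.mem_normalizer_iff''.mp r_normalizer y).mp hy
    have e2 : U * (R⁻¹ * Y * R) * U = R⁻¹ * Y * R := by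
      have e := hUy ⟨_, hY hy'⟩ hy'
      rwa [show img Ω X ⟨r⁻¹ * y * r, hY hy'⟩ = R⁻¹ * Y * R by rw [← map_inv, ← map_mul, ← map_mul]; rfl] at e
    have h3 : U * R⁻¹ * U = R := by
      rw [show U * R⁻¹ * U = (U * R * U)⁻¹ by rw [mul_inv_rev, mul_inv_rev, hUi, mul_assoc], hURU, inv_inv]
    rw [invol_conj_mul hU2, invol_conj_mul hU2, h3, e1, hURU] at e2
    have hRR : Commute (R * R) Y := by
      show R * R * Y = Y * (R * R)
      calc R * R * Y = R * (R * Y * R⁻¹) * R := by group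
        _ = R * (R⁻¹ * Y * R) * R := by rw [e2]
        _ = Y * (R * R) := by group
    obtain ⟨k, hk⟩ := CfsgLib.Involutions.exists_sqrt hRodd
    have hYR : Commute Y R := by
      have := (hRR.pow_left k).symm
      rwa [(Commute.refl R).mul_pow, hk] at this
    have hYodd := hodd ⟨y, hY hy⟩ (kerLine_odd hC hL hy)
    have hY1 : Y = 1 := eq_one_of_cent_torus hSc h2top hnR ⟨hRD, by rw [hUi]; exact hURU⟩
      (by rw [hordR, qTop_eq hC hT hcX, hqq, hf]; omega) (hcomD Y hYodd (hYR.pow_right m).eq) e1 hYR.eq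
    exact mem_fixer.mpr fun d hd => img_eq_one_iff.mp hY1 d hd
  exact h.out ((hYfix.trans (hmax ((fixer_le_lineStab hC hB hM he hCh huM hu hug h.mem).trans hYfix)).le).trans
    (fixer_le hC hB he hCh))

/-- Q3 and Q4: the pair stabilisers of two centres of the chosen subgroup lie in it. -/
theorem circle_end {a b : Ω} (ha : a ∈ centres Ω M) (hb : b ∈ centres Ω M) (hne : a ≠ b) : two a b ≤ M := by
  haveI := finite_omega hC
  obtain ⟨u, huM, hu, hua⟩ := centres_swap hC ha hb hne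
  refine two_le_of_cores hC hB hM he hCh ha hb hne.symm huM hu hua fun l hl => ?_
  haveI := Fact.mk hl
  by_contra hPM
  set D : Subgroup G := two a b
  set P := pCoreOf l D
  have hDP : D ≤ Subgroup.normalizer (P : Set G) := Subgroup.le_normalizer.trans (Ext.normalizer_le_pCoreOf l D)
  have hfixP : ∀ v ∈ M, IsInv v → v • a = b → ∀ c : Ω, v • c = c → ∀ p ∈ P, p • c = c :=
    fun v hvM hv hva c hvc => fix_swap_centre hC hB hM he hCh ha hb hne.symm huM hu hua hl
      (Ext.pCoreOf_le l D) hDP (Ext.isPGroup_pCoreOf l D)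
      (Ext.normalizer_le_pCoreOf l D (swap_normalizer_two hu hua)) hPM hvM hv hva hvc
  rcases hCh.shape with h | ⟨h, hsz⟩
  · refine hPM ((fun p hp => fixer_le hC hB he hCh (mem_fixer.mpr fun c hc => ?_)) : P ≤ M)
    obtain ⟨hpa, hpb⟩ := mem_two.mp (Ext.pCoreOf_le l D hp)
    by_cases hca : c = a
    · rw [hca, hpa]
    by_cases hcb : c = b
    · rw [hcb, hpb]
    have hq : Nat.card (centres Ω M) ≠ qTop Ω M ^ 2 + 1 := by
      have := (even_qTop hC hCh.carries.top hB).2
      rw [h]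
      nlinarith
    rw [← circ_eq_centres hC hCh.carries.top hB ha hb hne.symm h] at hc
    obtain ⟨v, hvM, hv, hva, hvc⟩ := circ_centre hC hCh.carries.top hB hq ha hb hne.symm hc hca hcb
    exact hfixP v hvM hv hva c hvc p hp
  obtain ⟨g, hug⟩ := exists_fix hC hu
  obtain ⟨y, hyM, hya, hyb, hyinv, hyodd, hydvd⟩ := exists_torus hC hB hM he hCh ha hb hne.symm huM hu hua hug
  have hPy := le_lineStab_torus hC hB hM he hCh huM hu hua hug hyM hya hyb hfixP
  refine no_line_family hC hM he (u := u) (g := g) (fun r => Torus Ω M u g r)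
    (fun r hr => ⟨line_of_torus hC hB hM he hCh huM hu hug hr,
      noFour_of_torus hC hB hM he hCh huM hu hug hsz hr⟩)
    ?_ y ⟨hyM, hyinv, hyodd, hydvd, fun hle => hPM (hPy.trans hle)⟩
  rintro r l' V hr ⟨hL, hl', hVD, hDV, huV, hVl, hVc, hVY⟩
  haveI := Fact.mk hl'
  have hVp : IsPGroup l' V := fun v => ⟨1, Subtype.ext (by rw [pow_one]; exact hVl _ v.2)⟩
  obtain ⟨-, hVY1, -, -⟩ := outside_facts hC hM he hL (noFour_of_torus hC hB hM he hCh huM hu hug hsz hr)
    hVD hDV hVp huV hVY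
  have hgM : g ∈ centres Ω M := mem_centres huM hu hug
  have ha' : r⁻¹ • g ∈ centres Ω M := centres_smul (inv_mem hr.mem) hgM
  have hb' : r • g ∈ centres Ω M := centres_smul hr.mem hgM
  have hne' : r • g ≠ r⁻¹ • g := (line_ne hL).symm
  have hua' := u_smul_two hL
  have hKY := fixer_le_lineStab hC hB hM he hCh huM hu hug hr.mem
  have hVM : ¬ V ≤ M := fun hle => hVY fun v hv => by
    set K0 := fixer G (centres Ω M)
    obtain ⟨q, hq, hmov⟩ := exists_moving hC hB hM he hCh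
    have hcom : V ≤ Subgroup.centralizer (K0 : Set G) := Ext.commute_of_inf_eq_bot
      (hle.trans (le_normalizer_fixer hC hCh)) ((fixer_le_two ha' hb').trans hDV)
      ((Subgroup.eq_bot_iff_forall _).mpr fun x hx => hVY1 x hx.1 (hKY hx.2))
    have hvK : v ∈ K0 := cent_le_fixer hC hB hM he hCh hmov
      ⟨hle hv, fun x hx => hcom hv x (Ext.pCoreOf_le q K0 hx)⟩
    exact hKY hvK
  have hfixV : ∀ v ∈ M, IsInv v → v • r⁻¹ • g = r • g → ∀ c : Ω, v • c = c → ∀ p ∈ V, p • c = c :=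
    fun v hvM hv hva c hvc => fix_swap_centre hC hB hM he hCh ha' hb' hne' huM hu hua' hl' hVD hDV hVp huV hVM
      hvM hv hva hvc
  refine ⟨hfixV u huM hu hua' g hug, ?_⟩
  obtain ⟨z, hzM, hza, hzb, hzinv, hzodd, hzdvd⟩ := exists_torus hC hB hM he hCh ha' hb' hne' huM hu hua' hug
  refine ⟨z, mem_two.mpr ⟨hza, hzb⟩, ⟨hzM, hzinv, hzodd, hzdvd, fun hle =>
    hVM ((le_lineStab_torus hC hB hM he hCh huM hu hua' hug hzM hza hzb hfixV).trans hle)⟩, ?_⟩
  rw [← bad_line_one hC hM hL, kerBad_eq_bad hC hB hM he hCh huM hu hug hb' hL.move]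
  exact fun x hx => ⟨fixer_le_lineStab hC hB hM he hCh huM hu hug hzM (mem_fixer.mpr hx.2.2), hx.2.1⟩

end CfsgLib.Bender.B1
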