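import Cfsg.Agent.Lib.Bender.B1.CliqueCore

/-!
The clique end: a top containing the pair stabilisers of its centres carries no inverted elements.

Blueprint: `blueprint/bender/A6.md`, case 2, Q5.
-/

set_option autoImplicit false
set_option linter.unusedSectionVars false
set_option linter.style.haveILetI false
set_option linter.unusedVariables false

namespace CfsgLib.Bender.B1

open MulAction Cfsg CfsgLib.SuzukiRankOne
open CfsgLib.Bender.TwoClosed (IsInv IsInv.inv IsInv.conj IsInv.smul_twice InvAt two mem_two mem_two_comm smul_conj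
  odd_orderOf odd_card_of_forall eq_one_of_inv_eq eq_one_of_two_odd MaxP exists_maxP maxP_of_card
  exists_invariant_maxP mem_normalizer_of_conj conj_mem_of_normalizer exists_mem_normalizer fixSet fixSet_smul)
open CfsgLib.Bender.OddCore (Act)

universe u

variable {G : Type u} {Ω : Type u} [Group G] [Finite G] [MulAction G Ω]

/-- The fixed points of the Sylow subgroup `X` are the pair `c`, `d`. -/
def Exact (l : ℕ) (c d : Ω) (X : Subgroup G) : Prop :=
  MaxP l ⊤ X ∧ ∀ e : Ω, e ∈ fixSet Ω X ↔ e = c ∨ e = d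

theorem Exact.conj {l : ℕ} [Fact l.Prime] {c d : Ω} {X : Subgroup G} (h : Exact l c d X) (g : G) :
    Exact l (g • c) (g • d) (X.map (MulAut.conj g).toMonoidHom) := by
  refine ⟨maxP_of_card (h.1.isPGroup.map _) le_top ?_, fun e => ?_⟩
  · rw [Subgroup.card_map_of_injective (f := (MulAut.conj g).toMonoidHom) (MulAut.conj g).injective, h.1.card]
  · have hiff : e ∈ fixSet Ω (X.map (MulAut.conj g).toMonoidHom) ↔ g⁻¹ • e ∈ fixSet Ω X := by
      constructor
      · intro he x hx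
        have := he (g * x * g⁻¹) ⟨x, hx, rfl⟩
        rw [mul_smul, mul_smul] at this
        exact smul_left_cancel g (this.trans (smul_inv_smul g e).symm)
      · rintro he _ ⟨x, hx, rfl⟩
        show (g * x * g⁻¹) • e = e
        rw [mul_smul, mul_smul, he x hx, smul_inv_smul]
    rw [hiff, h.2, inv_smul_eq_iff, inv_smul_eq_iff]

variable [FaithfulSMul G Ω] {M : Subgroup G} {l f : ℕ} (hK : Clique Ω M l f)
include hK

theorem Clique.act : Act G Ω := ⟨hK.fix.trans, hK.fix.one_fix, hK.fix.four⟩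

/-- No invariant Sylow subgroup of a swapped pair fixes the centre. -/
theorem Clique.even' : Even' l G Ω := by
  intro u a g R hu hug hua hR huR hgR
  haveI := Fact.mk hK.prime
  set C : Subgroup G := Subgroup.centralizer ({u} : Set G)
  set D : Subgroup G := two a (u • a)
  set O : Subgroup G := oAt G g
  have huD : ∀ k ∈ D, u * k * u⁻¹ ∈ D := OddCore.swap_conj_two hK.act hu rfl
  have hDodd : Odd (Nat.card D) := odd_two hK.fix (Ne.symm hua)
  have hm0 : Nat.card (InvAt G g) ≠ 0 := by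
    haveI : Nonempty (InvAt G g) := ⟨⟨u, hu, hug⟩⟩
    exact Nat.card_pos.ne'
  have h1 := card_conj_image R u
  rw [show Subgroup.centralizer ({u} : Set G) = C from rfl, (maxP_cent hu hDodd huD hR huR).card, hR.card,
    OddCore.card_two_eq hK.act hua hu rfl, card_invAt_eq hK.fix a g,
    Nat.factorization_mul hm0 Nat.card_pos.ne', Finsupp.add_apply, pow_add] at h1
  have hOR := Nat.eq_of_mul_eq_mul_right (pow_pos hK.prime.pos _) h1
  have hcl0 : (cls g u).ncard ≠ 0 := fun h => hm0 (by rw [hK.card_invAt hu hug, h, mul_zero])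
  have huO : ∀ k ∈ O, u * k * u⁻¹ ∈ O := fun k hk => conj_oAt_self hug hk
  obtain ⟨P, hRP, hP, huP⟩ := exists_invariant_maxP_above (Z := R ⊓ O) (hK.odd_oAt g) hu.2 huO
    (hR.isPGroup.to_le inf_le_left) inf_le_right
    (mem_normalizer_of_conj fun x hx => ⟨conj_mem_of_normalizer huR hx.1, huO x hx.2⟩)
  have h2 := card_conj_image P u
  rw [show Subgroup.centralizer ({u} : Set G) = C from rfl, (maxP_cent hu (hK.odd_oAt g) huO hP huP).card, hP.card,
    ← hK.card_cls_mul hu hug, Nat.factorization_mul hcl0 Nat.card_pos.ne', Finsupp.add_apply, pow_add] at h2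
  have hOP := Nat.eq_of_mul_eq_mul_right (pow_pos hK.prime.pos _) h2
  have hsub : (fun x => x * u * x⁻¹) '' (R : Set G) ⊆ (fun x => x * u * x⁻¹) '' (P : Set G) := by
    rintro _ ⟨x, hx, rfl⟩
    have hjR : x * u * x⁻¹ * u ∈ R := by
      rw [show x * u * x⁻¹ * u = x * (u * x⁻¹ * u⁻¹) * (u * u) by group, hu.2, mul_one]
      exact mul_mem hx (conj_mem_of_normalizer huR (inv_mem hx))
    have hinv : u * (x * u * x⁻¹ * u) * u = (x * u * x⁻¹ * u)⁻¹ := by
      calc u * (x * u * x⁻¹ * u) * u = u * x * u * x⁻¹ * (u * u) := by group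
        _ = u * x * u * x⁻¹ := by rw [hu.2, mul_one]
        _ = _ := by simp [mul_inv_rev, hu.inv, mul_assoc]
    have hjodd : Odd (orderOf (x * u * x⁻¹ * u)) := odd_orderOf hDodd (hR.le hjR)
    have hjP : x * u * x⁻¹ * u ∈ P :=
      hRP ⟨hjR, mem_oAt_of_inverted hu hug (hgR _ hjR) hinv hjodd⟩
    obtain ⟨k, hk⟩ := CfsgLib.Involutions.exists_sqrt hjodd
    refine ⟨(x * u * x⁻¹ * u) ^ k, pow_mem hjP k, ?_⟩
    set r := (x * u * x⁻¹ * u) ^ k
    have hr : u * r⁻¹ * u = r := by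
      have h := conj_pow (i := k) (a := u) (b := (x * u * x⁻¹ * u)⁻¹)
      rw [hu.inv, inv_pow] at h
      rw [← h, ← hinv, show u * (u * (x * u * x⁻¹ * u) * u) * u = (u * u) * (x * u * x⁻¹ * u) * (u * u) by group,
        hu.2, one_mul, mul_one]
    calc r * u * r⁻¹ = r * (u * r⁻¹ * u) * u := by
          rw [show r * (u * r⁻¹ * u) * u = r * u * r⁻¹ * (u * u) by group, hu.2, mul_one]
      _ = (x * u * x⁻¹ * u) * u := by rw [hr, hk]
      _ = x * u * x⁻¹ := by rw [mul_assoc, hu.2, mul_one]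
  have hle := Set.ncard_le_ncard hsub (Set.toFinite _)
  rw [hOR, hOP] at hle
  have := (Nat.pow_le_pow_iff_right hK.prime.one_lt).mp hle
  have := hK.factorization_invAt hu hug
  omega

/-- S3: an `l`-group with three fixed points fixes a class at one of its fixed points. -/
theorem Clique.exists_class {R : Subgroup G} (hR : IsPGroup l R) {x y z : Ω} (hx : x ∈ fixSet Ω R)
    (hy : y ∈ fixSet Ω R) (hz : z ∈ fixSet Ω R) (hxy : x ≠ y) (hxz : x ≠ z) (hyz : y ≠ z) :
    ∃ c ∈ fixSet Ω R, ∃ w, IsInv w ∧ w • c = c ∧ R ≤ stabCls c w := by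
  haveI := Fact.mk hK.prime
  obtain ⟨T, hRT, ⟨hT, a, ha, b, hb, d, hd, hab, had, hbd⟩, hmax⟩ := Finite.exists_le_maximal
    (p := fun W : Subgroup G => IsPGroup l W ∧ ∃ a ∈ fixSet Ω W, ∃ b ∈ fixSet Ω W, ∃ d ∈ fixSet Ω W,
      a ≠ b ∧ a ≠ d ∧ b ≠ d) ⟨hR, x, hx, y, hy, z, hz, hxy, hxz, hyz⟩
  obtain ⟨w, hwn, hw, c, hc, hwc⟩ := exists_inv_at_fixed hK.act hK.ne_two hK.even' hT ha hb hd hab had hbd
    (fun W hW hTW r hr s hs t ht => by
      by_contra h
      push Not at h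
      exact hTW.not_ge (hmax ⟨hW, r, hr, s, hs, t, ht, h.1, h.2.1, h.2.2⟩ hTW.le))
  refine ⟨c, fun t ht => hc t (hRT ht), w, hw, hwc, fun t ht => ⟨hc t (hRT ht), ?_⟩⟩
  have hu : t * w * t⁻¹ * w⁻¹ ∈ uAt G c := by
    rw [hw.inv]
    refine mul_mem (mem_uAt (hw.conj t) ?_) (mem_uAt hw hwc)
    rw [mul_smul, mul_smul, inv_smul_eq_iff.mpr (hc t (hRT ht)).symm, hwc, hc t (hRT ht)]
  refine mem_oAt hu (CfsgLib.Bender.TwoClosed.odd_orderOf_of_pGroup hK.ne_two hT ?_)
  rw [show t * w * t⁻¹ * w⁻¹ = t * (w * t⁻¹ * w⁻¹) by group]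
  exact mul_mem (hRT ht) (conj_mem_of_normalizer hwn (inv_mem (hRT ht)))

/-- An involution at a centre has a lift normalising a Sylow subgroup of the kernel. -/
theorem Clique.exists_lift {a b : Ω} (ha : a ∈ centres Ω M) (hb : b ∈ centres Ω M) (hne : b ≠ a)
    {S : Subgroup G} (hS : MaxP l (fixer G (centres Ω M)) S) {i : G} (hi : IsInv i) (hia : i • a = a) :
    ∃ z ∈ Subgroup.normalizer (S : Set G), IsInv z ∧ z • a = a ∧ ∀ c ∈ centres Ω M, z • c = i • c := by
  haveI := Fact.mk hK.prime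
  haveI := finite_omega hK.fix
  set K := fixer G (centres Ω M)
  have hiM := hK.invol_mem ha hi hia
  have hiK : i ∈ Subgroup.normalizer (K : Set G) :=
    setStab_le_normalizer (mem_setStab_of_maps fun c hc => centres_smul hiM hc)
  set S' := S.map (MulAut.conj i).toMonoidHom
  have hS' : MaxP l K S' := by
    refine maxP_of_card (hS.isPGroup.map _) ?_ ?_
    · rintro _ ⟨s, hs, rfl⟩
      exact conj_mem_of_normalizer hiK (hS.le hs)
    · rw [Subgroup.card_map_of_injective (f := (MulAut.conj i).toMonoidHom) (MulAut.conj i).injective, hS.card]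
  obtain ⟨k, hk, hconj⟩ := hS'.conj hS
  have hn : k * i ∈ Subgroup.normalizer (S : Set G) := mem_normalizer_of_conj fun s hs => by
    have h1 : i * s * i⁻¹ ∈ S' := ⟨s, hs, rfl⟩
    have h2 := (hconj _).mp h1
    rwa [show k * (i * s * i⁻¹) * k⁻¹ = k * i * s * (k * i)⁻¹ by group] at h2
  have hki : ∀ c ∈ centres Ω M, (k * i) • c = i • c := fun c hc => by
    rw [mul_smul, mem_fixer.mp hk _ (centres_smul hiM hc)]
  have hsq : k * i * (k * i) ∈ K := mem_fixer.mpr fun c hc => by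
    rw [mul_smul, hki c hc, hki _ (centres_smul hiM hc), hi.smul_twice]
  obtain ⟨n, hn'⟩ := odd_orderOf hK.odd_fixer hsq
  set z := k * i * (k * i * (k * i)) ^ n
  have hzc : ∀ c ∈ centres Ω M, z • c = i • c := fun c hc => by
    rw [mul_smul, mem_fixer.mp (pow_mem hsq n) c hc, hki c hc]
  have hz2 : z * z = 1 := by
    have hcx : Commute (k * i) ((k * i * (k * i)) ^ n) :=
      ((Commute.refl (k * i)).mul_right (Commute.refl (k * i))).pow_right n
    have h1 := pow_orderOf_eq_one (k * i * (k * i))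
    rw [hn'] at h1
    calc z * z = k * i * ((k * i * (k * i)) ^ n * (k * i)) * (k * i * (k * i)) ^ n := by simp only [z, mul_assoc]
      _ = (k * i * (k * i)) * ((k * i * (k * i)) ^ n * (k * i * (k * i)) ^ n) := by
          rw [← hcx.eq]; simp only [mul_assoc]
      _ = 1 := by rw [← pow_add, ← pow_succ', ← two_mul, h1]
  refine ⟨z, mul_mem hn (pow_mem (mul_mem hn hn) n), ⟨fun e => hne ?_, hz2⟩, by rw [hzc a ha, hia], hzc⟩
  have h1 := hzc b hb
  rw [e, one_smul] at h1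
  exact eq_of_fix hK.fix hi h1.symm hia

/-- Two involutions of a top at a centre which agree at another centre agree at all. -/
theorem Clique.agree {X : Subgroup G} (hX : IsTop Ω X) {a g : Ω} (hg : g ∈ centres Ω X) (hne : g ≠ a)
    {i j : G} (hi : IsInv i) (hj : IsInv j) (hiX : i ∈ X) (hjX : j ∈ X) (hia : i • a = a) (hja : j • a = a)
    (hag : j • g = i • g) {c : Ω} (hc : c ∈ centres Ω X) : j • c = i • c := by
  have hog : (i * j) • g = g := by rw [mul_smul, hag, hi.smul_twice]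
  have hoa : (i * j) • a = a := by rw [mul_smul, hja, hia]
  have hinv : i * (i * j) * i = (i * j)⁻¹ := by
    rw [mul_inv_rev, hi.inv, hj.inv, ← mul_assoc, hi.2, one_mul]
  have h := inverted_fix_centres hK.fix hK.below hX.ne_top hX.four hi hiX hia ⟨g, hg, hne⟩
    (mul_mem hiX hjX) hoa hinv (odd_of_fix_two hK.fix hne hog hoa) hc
  rw [mul_smul] at h
  calc j • c = i • i • j • c := (hi.smul_twice _).symm
    _ = i • c := by rw [h]

/-- A normaliser of a Sylow subgroup of the kernel has the same `q`. -/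
theorem Clique.top_normalizer {a g : Ω} (ha : a ∈ centres Ω M) (hg : g ∈ centres Ω M) (hne : g ≠ a)
    {S : Subgroup G} (hS : MaxP l (fixer G (centres Ω M)) S) (hS1 : S ≠ ⊥) {u : G} (hu : IsInv u)
    (hug : u • g = g) (huS : u ∈ Subgroup.normalizer (S : Set G)) :
    IsTop Ω (Subgroup.normalizer (S : Set G)) ∧ qTop Ω (Subgroup.normalizer (S : Set G)) = qTop Ω M ∧
      a ∈ centres Ω (Subgroup.normalizer (S : Set G)) := by
  haveI := finite_omega hK.fix
  set Y := Subgroup.normalizer (S : Set G)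
  have hlift : ∀ i, IsInv i → i • a = a →
      ∃ z ∈ Y, IsInv z ∧ z • a = a ∧ ∀ c ∈ centres Ω M, z • c = i • c := fun i hi hia =>
    hK.exists_lift ha hg hne hS hi hia
  obtain ⟨v, hvM, w, hwM, hv, hva, hw, hwa, hvw, hcom⟩ := four_at hK.fix hK.top ha
  obtain ⟨z, hzY, hz, hza, hzv⟩ := hlift v hv hva
  obtain ⟨z', hz'Y, hz', hz'a, hz'w⟩ := hlift w hw hwa
  have hYne : Y ≠ ⊤ := fun e => hS1 (by
    haveI : S.Normal := Subgroup.normalizer_eq_top_iff.mp e
    exact eq_bot_of_normal hK.fix fun x hx => mem_fixer.mp (hS.le hx) a ha)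
  have h4 : FourIn Y := by
    by_contra h4
    have hodd := odd_mul_of_no_four hK.fix h4 hzY hz'Y hz hz'
    have hvwi : IsInv (v * w) := ⟨fun e => hvw (by rw [mul_eq_one_iff_eq_inv, hw.inv] at e; exact e), by
      calc v * w * (v * w) = v * (w * v) * w := by group
        _ = v * (v * w) * w := by rw [hcom]
        _ = 1 := by rw [← mul_assoc, hv.2, one_mul, hw.2]⟩
    have hzz : ∀ c ∈ centres Ω M, (z * z') • c = (v * w) • c := fun c hc => by
      rw [mul_smul, mul_smul, hz'w c hc, hzv _ (centres_smul hwM hc)]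
    have hfix : ∀ c ∈ centres Ω M, (v * w) • c = c := fun c hc => by
      rw [← hzz c hc]
      refine mem_stabilizer_iff.mp (CfsgLib.Bender.TwoClosed.mem_of_sq_mem hodd (mem_stabilizer_iff.mpr ?_))
      rw [mul_smul, hzz c hc, hzz _ (centres_smul (mul_mem hvM hwM) hc)]
      exact hvwi.smul_twice c
    exact hne (eq_of_fix hK.fix hvwi (hfix g hg) (hfix a ha))
  have haY : a ∈ centres Ω Y := mem_centres hzY hz hza
  have hgY : g ∈ centres Ω Y := mem_centres huS hu hug
  have hT : IsTop Ω Y := ⟨hYne, h4, a, g, haY, hgY, hne⟩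
  refine ⟨hT, ?_, haY⟩
  set a1 : centres Ω M := ⟨a, ha⟩
  set a2 : centres Ω Y := ⟨a, haY⟩
  have hchoice : ∀ y : InvAt (topGrp Ω M) a1, ∃ x : Y, IsInv (x : G) ∧ (x : G) • a = a ∧
      ∀ c : centres Ω M, (x : G) • (c : Ω) = ((y.1 • c : centres Ω M) : Ω) := fun y => by
    obtain ⟨i, hi, hiy⟩ := exists_inv_lift hK.fix hK.top y.2.1
    have hia : (i : G) • a = a := by rw [← img_smul i a1, hiy, y.2.2]
    obtain ⟨x, hxY, hx, hxa, hxi⟩ := hlift i hi hia
    exact ⟨⟨x, hxY⟩, hx, hxa, fun c => by rw [← hiy, img_smul]; exact hxi c c.2⟩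
  choose x hxi hxa hxy using hchoice
  let F : InvAt (topGrp Ω M) a1 → InvAt (topGrp Ω Y) a2 := fun y =>
    ⟨img Ω Y (x y), img_isInv hK.fix hT (x := x y) (hxi y), Subtype.ext (hxa y)⟩
  have hF : Function.Bijective F := by
    refine ⟨fun y y' h => ?_, fun y => ?_⟩
    · have hat : (x y' : G) • g = (x y : G) • g := (smul_of_img_eq (congrArg Subtype.val h) hgY).symm
      refine Subtype.ext (Subtype.ext (Equiv.ext fun c => Subtype.ext ?_))
      show ((y.1 • c : centres Ω M) : Ω) = ((y'.1 • c : centres Ω M) : Ω)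
      rw [← hxy y c, ← hxy y' c]
      exact (hK.agree hK.top hg hne (hxi y) (hxi y') (hK.invol_mem ha (hxi y) (hxa y))
        (hK.invol_mem ha (hxi y') (hxa y')) (hxa y) (hxa y') hat c.2).symm
    · obtain ⟨j, hj, hjy⟩ := exists_inv_lift hK.fix hT y.2.1
      have hja : (j : G) • a = a := by rw [← img_smul j a2, hjy, y.2.2]
      have hjM := hK.invol_mem ha hj hja
      refine ⟨⟨img Ω M ⟨j, hjM⟩, img_isInv hK.fix hK.top (x := ⟨j, hjM⟩) hj, Subtype.ext hja⟩, ?_⟩
      refine Subtype.ext (Eq.trans ?_ hjy)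
      refine img_eq_of_smul fun c hc => ?_
      refine hK.agree hT hgY hne hj (hxi _) j.2 (x _).2 hja (hxa _) ?_ hc
      exact hxy _ ⟨g, hg⟩
  have hq : ∀ (X : Subgroup G), IsTop Ω X → ∀ h : a ∈ centres Ω X,
      qTop Ω X = Nat.card (InvAt (topGrp Ω X) (⟨a, h⟩ : centres Ω X)) + 1 := fun X hX h => by
    rw [← qTop_eq hK.fix hX h, qZ]
    congr 1
    exact Nat.card_congr (Equiv.subtypeEquivRight fun y =>
      ⟨fun ⟨h1, h2, h3⟩ => ⟨⟨h2, h3⟩, h1⟩, fun ⟨⟨h2, h3⟩, h1⟩ => ⟨h1, h2, h3⟩⟩)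
  rw [hq Y hT haY, hq M hK.top ha, Nat.card_eq_of_bijective F hF]

/-- S4: the pair of two centres is the fixed pair of a Sylow subgroup. -/
theorem Clique.exact_centres {a b : Ω} (ha : a ∈ centres Ω M) (hb : b ∈ centres Ω M) (hne : b ≠ a) :
    ∃ X, Exact (G := G) l a b X := by
  haveI := Fact.mk hK.prime
  haveI := finite_omega hK.fix
  obtain ⟨u, huM, hu, rfl⟩ := centres_swap hK.fix ha hb hne.symm
  obtain ⟨g, hug⟩ := exists_fix hK.fix hu
  have hgM : g ∈ centres Ω M := mem_centres huM hu hug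
  have hga : g ≠ a := fun e => hne (e ▸ hug)
  have hgb : g ≠ u • a := fun e => hga (by rw [← hug, e, hu.smul_twice])
  have huD := OddCore.swap_conj_two hK.act (a := a) (b := u • a) hu rfl
  obtain ⟨R, hR, huR⟩ := exists_invariant_maxP (p := l) (odd_two hK.fix hne.symm) hu.2 huD
  have haR : a ∈ fixSet Ω R := fun x hx => (mem_two.mp (hR.le hx)).1
  have hbR : u • a ∈ fixSet Ω R := fun x hx => (mem_two.mp (hR.le hx)).2
  by_cases hall : ∀ d ∈ fixSet Ω R, d = a ∨ d = u • a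
  · refine ⟨R, maxP_top_of_fix hK.act hK.ne_two hK.even' hR hall, fun d => ⟨hall d, ?_⟩⟩
    rintro (rfl | rfl)
    · exact haR
    · exact hbR
  exfalso
  push Not at hall
  obtain ⟨d, hd, hda, hdb⟩ := hall
  obtain ⟨X, c, hRX, hX, huX, hc, hfix, hin⟩ := exists_climb hK.act hK.ne_two hK.even' hu hne hR huR
  have hlt : R < X := by
    refine lt_of_le_of_ne hRX fun e => ?_
    subst e
    rcases (hfix a).mp haR with h1 | h1 <;> rcases (hfix _).mp hbR with h2 | h2 <;>
      rcases (hfix d).mp hd with h3 | h3 <;>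
      first | exact hne (h2.trans h1.symm) | exact hda (h3.trans h1.symm) | exact hdb (h3.trans h2.symm)
  -- an element of the normaliser commuting with `u`
  obtain ⟨x, hxX, hxR, hxn⟩ := exists_mem_normalizer hX.isPGroup hlt
  set j := x * u * x⁻¹ * u with hj
  have hjX : j ∈ X := by
    rw [hj, show x * u * x⁻¹ * u = x * (u * x⁻¹ * u⁻¹) * (u * u) by group, hu.2, mul_one]
    exact mul_mem hxX (conj_mem_of_normalizer huX (inv_mem hxX))
  have hjinv : u * j * u = j⁻¹ := by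
    rw [hj]
    calc u * (x * u * x⁻¹ * u) * u = u * x * u * x⁻¹ * (u * u) := by group
      _ = u * x * u * x⁻¹ := by rw [hu.2, mul_one]
      _ = _ := by simp [mul_inv_rev, hu.inv, mul_assoc]
  have hjR := hin j hjX hjinv
  obtain ⟨k, hk⟩ := CfsgLib.Involutions.exists_sqrt (odd_orderOf (odd_two hK.fix hne.symm) (hR.le hjR))
  set r := j ^ k with hr
  have hrR : r ∈ R := pow_mem hjR k
  set y := r⁻¹ * x with hy
  have hyX : y ∈ X := mul_mem (inv_mem (hRX hrR)) hxX
  have hyn : y ∈ Subgroup.normalizer (R : Set G) := mul_mem (inv_mem (Subgroup.le_normalizer hrR)) hxn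
  have hyR : y ∉ R := fun h => hxR (by simpa [hy] using mul_mem hrR h)
  have hyu : u * y * u = y := by
    have h1 : u * r⁻¹ * u = r := by
      have h := conj_pow (i := k) (a := u) (b := j⁻¹)
      rw [hu.inv, inv_pow] at h
      rw [hr, ← h, ← hjinv, show u * (u * j * u) * u = (u * u) * j * (u * u) by group, hu.2, one_mul, mul_one]
    have h2 : u * x * u = j⁻¹ * x := by
      rw [← hjinv, hj, show u * (x * u * x⁻¹ * u) * u * x = u * x * u * (x⁻¹ * (u * u) * x) by group, hu.2]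
      group
    calc u * y * u = (u * r⁻¹ * u) * (u * x * u) := by
          rw [hy, show (u * r⁻¹ * u) * (u * x * u) = u * r⁻¹ * (u * u) * x * u by group, hu.2]; group
      _ = y := by rw [h1, h2, ← hk, mul_inv_rev, hy]; group
  have hyg : y • g = g := fix_of_fixed hK.fix hu hug hyu
  have hyu' : y * u = u * y := by
    calc y * u = (u * y * u) * u := by rw [hyu]
      _ = u * y := by rw [mul_assoc (u * y), hu.2, mul_one]
  have hya : y • a ≠ a := fun e => hyR (by
    have h2 : y ∈ two a (u • a) := mem_two.mpr ⟨e, by rw [← mul_smul, hyu', mul_smul, e]⟩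
    have := hR.eq_of_le (hX.isPGroup.to_le (sup_le hRX (Subgroup.zpowers_le.mpr hyX)))
      (sup_le hR.le (Subgroup.zpowers_le.mpr h2)) le_sup_left
    exact this ▸ (le_sup_right : Subgroup.zpowers y ≤ _) (Subgroup.mem_zpowers y))
  have hpow : ∀ z ∈ R, ∃ n : ℕ, z ^ l ^ n = 1 := fun z hz => by
    obtain ⟨n, hn⟩ := hR.isPGroup ⟨z, hz⟩
    exact ⟨n, congrArg Subtype.val hn⟩
  have hRM : R ≤ M := hR.le.trans (hK.two_le _ _ ha hb hne.symm)
  set K := fixer G (centres Ω M)
  set S := R ⊓ stabilizer G g with hSdef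
  have hSK : S ≤ K := fun z hz => mem_fixer.mpr fun c' hc' => by
    obtain ⟨n, hn⟩ := hpow z hz.1
    exact fix_all_of_three hK.fix hK.top hK.below hK.prime hK.hq hK.dvd hK.not_dvd (hRM hz.1) hn ha hb hgM hne hga
      hgb (haR z hz.1) (hbR z hz.1) (mem_stabilizer_iff.mp hz.2) hc'
  have hKD : K ≤ two a (u • a) := fun z hz =>
    mem_two.mpr ⟨mem_fixer.mp hz a ha, mem_fixer.mp hz _ hb⟩
  have hS : MaxP l K S := by
    obtain ⟨P, hSP, hP⟩ := exists_maxP (hR.isPGroup.to_le (inf_le_left : S ≤ R)) hSK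
    obtain ⟨P', hPP', hP'⟩ := exists_maxP hP.isPGroup (hP.le.trans hKD)
    obtain ⟨t, ht, htc⟩ := hP'.conj hR
    have htK : t ∈ Subgroup.normalizer (K : Set G) := setStab_le_normalizer
      (mem_setStab_of_maps fun c' hc' => centres_smul (hK.two_le _ _ ha hb hne.symm ht) hc')
    have hle : P.map (MulAut.conj t).toMonoidHom ≤ S := by
      rintro _ ⟨p, hp, rfl⟩
      exact ⟨(htc p).mp (hPP' hp),
        mem_stabilizer_iff.mpr (mem_fixer.mp (conj_mem_of_normalizer htK (hP.le hp)) g hgM)⟩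
    have hcard := Subgroup.card_le_of_le hle
    rw [Subgroup.card_map_of_injective (f := (MulAut.conj t).toMonoidHom) (MulAut.conj t).injective] at hcard
    have heq : S = P := Subgroup.eq_of_le_of_card_ge hSP hcard
    rw [heq]
    exact hP
  by_cases hS1 : S = ⊥
  · have hlK : ¬ l ∣ Nat.card K := fun h => by
      have h1 := hS.card
      rw [hS1, Subgroup.card_bot] at h1
      have := hK.prime.factorization_pos_of_dvd Nat.card_pos.ne' h
      exact absurd h1.symm (Nat.one_lt_pow (by omega) hK.prime.one_lt).ne'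
    have hlO : ∀ c' : Ω, ¬ l ∣ Nat.card (oAt G c') := fun c' h => by
      obtain ⟨z, hz⟩ := exists_prime_orderOf_dvd_card' (G := oAt G c') l h
      obtain ⟨a', ha', g', rfl⟩ := hK.exists_centre c'
      have h1 : g'⁻¹ * (z : G) * g' ∈ oAt G a' := by simpa using conj_oAt g'⁻¹ z.2
      have h2 : g'⁻¹ * (z : G) * g' ∈ K := mem_fixer.mpr fun c'' hc'' => hK.fix_oAt ha' h1 hc''
      refine hlK ?_
      have h3 := Subgroup.orderOf_dvd_natCard K h2
      rwa [show g'⁻¹ * (z : G) * g' = g'⁻¹ * (z : G) * g'⁻¹⁻¹ by rw [inv_inv], CfsgLib.Involutions.orderOf_conj,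
        Subgroup.orderOf_coe, hz] at h3
    obtain ⟨c', hc', w, hw, hwc, hRw⟩ := hK.exists_class hR.isPGroup haR hbR hd hne.symm hda.symm hdb.symm
    obtain ⟨v, hv, hvc, hcomm⟩ := hK.exists_cent_in_cls hw hwc (hlO c') hR.isPGroup hRw
    have huc : u • c' ≠ c' := fun e => hK.even' u a g R hu hug hne hR huR (eq_of_fix hK.fix hu e hug ▸ hc')
    -- `R` has an element inverted by `u`
    have hRC : ¬ R ≤ Subgroup.centralizer ({u} : Set G) := fun hle => by
      have h1 := (maxP_cent hu (odd_two hK.fix hne.symm) huD hR huR).card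
      rw [inf_eq_left.mpr hle, hR.card] at h1
      have h2 := Nat.pow_right_injective hK.prime.two_le h1
      obtain ⟨i, hi, hia⟩ := exists_inv_at hK.fix a
      haveI : Nonempty (InvAt G a) := ⟨⟨i, hi, hia⟩⟩
      rw [OddCore.card_two_eq hK.act hne hu rfl, Nat.factorization_mul Nat.card_pos.ne' Nat.card_pos.ne',
        Finsupp.add_apply] at h2
      have := hK.factorization_invAt hi hia
      omega
    obtain ⟨z, hzR, hzu⟩ := SetLike.not_le_iff_exists.mp hRC
    set i := z * u * z⁻¹ * u with hi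
    have hiR : i ∈ R := by
      rw [hi, show z * u * z⁻¹ * u = z * (u * z⁻¹ * u⁻¹) * (u * u) by group, hu.2, mul_one]
      exact mul_mem hzR (conj_mem_of_normalizer huR (inv_mem hzR))
    have hiinv : u * i * u = i⁻¹ := by
      rw [hi]
      calc u * (z * u * z⁻¹ * u) * u = u * z * u * z⁻¹ * (u * u) := by group
        _ = u * z * u * z⁻¹ := by rw [hu.2, mul_one]
        _ = _ := by simp [mul_inv_rev, hu.inv, mul_assoc]
    have hi1 := inverted_commute hK.fix hu hv (odd_orderOf (odd_two hK.fix hne.symm) (hR.le hiR)) hiinv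
      (hcomm i hiR) hvc huc
    refine hzu (Subgroup.mem_centralizer_singleton_iff.mpr ?_)
    calc z * u = z * u * z⁻¹ * u * (u⁻¹ * z) := by group
      _ = u * z := by rw [← hi, hi1, one_mul, hu.inv]
  · have hug' : u ∈ stabilizer G g := mem_stabilizer_iff.mpr hug
    have huS : u ∈ Subgroup.normalizer (S : Set G) := mem_normalizer_of_conj fun z hz =>
      ⟨conj_mem_of_normalizer huR hz.1, (mul_mem (mul_mem hug' hz.2) (inv_mem hug') : u * z * u⁻¹ ∈ stabilizer G g)⟩
    have hyS : y ∈ Subgroup.normalizer (S : Set G) := mem_normalizer_of_conj fun z hz =>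
      ⟨conj_mem_of_normalizer hyn hz.1, (mul_mem (mul_mem (mem_stabilizer_iff.mpr hyg) hz.2)
        (inv_mem (mem_stabilizer_iff.mpr hyg)) : y * z * y⁻¹ ∈ stabilizer G g)⟩
    obtain ⟨hT, hq, haY⟩ := hK.top_normalizer ha hgM hga hS hS1 hu hug huS
    obtain ⟨n, hn⟩ := hX.isPGroup ⟨y, hyX⟩
    exact hya (fix_all_of_commute hK.fix hT hK.below hK.prime (hq ▸ hK.hq) (hq ▸ hK.dvd) hK.not_dvd hyS
      (congrArg Subtype.val hn : y ^ l ^ n = 1) huS hu (fun c' _ => by rw [← mul_smul, hyu', mul_smul]) haY)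

/-- Exact pairs are conjugate. -/
theorem Clique.exact_conj {a b c d : Ω} (hne : b ≠ a) {X X' : Subgroup G} (h : Exact l a b X)
    (h' : Exact l c d X') : ∃ g : G, g • a = c ∧ g • b = d := by
  haveI := Fact.mk hK.prime
  haveI := hK.fix.trans
  obtain ⟨g, rfl⟩ := exists_smul_eq G a c
  have hg := h.conj g
  obtain ⟨k, hk, hk'⟩ := top_pairs_conj hK.act hK.ne_two hK.even'
    (show g • a ≠ g • b from fun e => hne (smul_left_cancel g e).symm) hg.1 h'.1 hg.2 h'.2
  exact ⟨k * g, by rw [mul_smul, hk], by rw [mul_smul, hk']⟩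

/-- S5: every pair is the fixed pair of a Sylow subgroup. -/
theorem Clique.exact_all {c d : Ω} (hne : d ≠ c) : ∃ X, Exact (G := G) l c d X := by
  haveI := Fact.mk hK.prime
  haveI := finite_omega hK.fix
  have hex : ∀ c d : Ω, ∀ R : Subgroup G, MaxP l (two c d) R → (∀ x ∈ fixSet Ω R, x = c ∨ x = d) →
      Exact l c d R := fun c d R hR hall => by
    refine ⟨maxP_top_of_fix hK.act hK.ne_two hK.even' hR hall, fun e => ⟨hall e, ?_⟩⟩
    rintro (rfl | rfl)
    · exact fun x hx => (mem_two.mp (hR.le hx)).1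
    · exact fun x hx => (mem_two.mp (hR.le hx)).2
  set Bad : Set (Subgroup G) := {R | ∃ d e x : Ω, d ≠ e ∧ x ≠ d ∧ x ≠ e ∧ MaxP l (two d e) R ∧ x ∈ fixSet Ω R}
  by_cases hBad : Bad.Nonempty
  swap
  · obtain ⟨R, -, hR⟩ := exists_maxP (p := l) (K := (two c d : Subgroup G)) (X := ⊥) IsPGroup.of_bot bot_le
    refine ⟨R, hex c d R hR fun x hx => ?_⟩
    by_contra h
    push Not at h
    exact hBad ⟨R, c, d, x, hne.symm, h.1, h.2, hR, hx⟩
  exfalso
  obtain ⟨R, ⟨d, e, x, hde, hxd, hxe, hR, hx⟩, hmax⟩ :=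
    Set.exists_max_image Bad (fun R => Nat.card R) (Set.toFinite _) hBad
  have hdR : d ∈ fixSet Ω R := fun z hz => (mem_two.mp (hR.le hz)).1
  have heR : e ∈ fixSet Ω R := fun z hz => (mem_two.mp (hR.le hz)).2
  obtain ⟨c, hc, w, hw, hwc, hRw⟩ := hK.exists_class hR.isPGroup hdR heR hx hde hxd.symm hxe.symm
  have hcd : c ≠ d := fun e' => hK.no_class hde hR hw (e' ▸ hwc) (e' ▸ hRw)
  obtain ⟨R1, hRR1, hR1⟩ := exists_maxP hR.isPGroup
    (show R ≤ two c d from fun z hz => mem_two.mpr ⟨hc z hz, hdR z hz⟩)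
  by_cases hall : ∀ z ∈ fixSet Ω R1, z = c ∨ z = d
  swap
  · push Not at hall
    obtain ⟨z, hz, hzc, hzd⟩ := hall
    have heq := Subgroup.eq_of_le_of_card_ge hRR1 (hmax R1 ⟨c, d, z, hcd, hzc, hzd, hR1, hz⟩)
    exact hK.no_class hcd (heq ▸ hR1) hw hwc hRw
  obtain ⟨a, b, ha, hb, hba⟩ := hK.top.two
  obtain ⟨Xab, hab⟩ := hK.exact_centres ha hb hba
  obtain ⟨g, rfl, rfl⟩ := hK.exact_conj hba hab (hex c d R1 hR1 hall)
  obtain ⟨v, hv, hvd⟩ := exists_inv_at hK.fix (g • b)
  refine hK.no_class hde hR hv hvd fun t ht => ⟨hdR t ht, ?_⟩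
  set t' := g⁻¹ * t * g with ht'
  set w' := g⁻¹ * w * g with hw'
  set v' := g⁻¹ * v * g with hv'
  have hta : t' • a = a := by rw [ht', mul_smul, mul_smul, hc t ht, inv_smul_smul]
  have htb : t' • b = b := by rw [ht', mul_smul, mul_smul, hdR t ht, inv_smul_smul]
  have htM : t' ∈ M := hK.two_le a b ha hb hba.symm (mem_two.mpr ⟨hta, htb⟩)
  have hwi : IsInv w' := by simpa [hw'] using hw.conj g⁻¹
  have hwM : w' ∈ M := hK.invol_mem ha hwi (by rw [hw', mul_smul, mul_smul, hwc, inv_smul_smul])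
  have hvi : IsInv v' := by simpa [hv'] using hv.conj g⁻¹
  have hvb : v' • b = b := by rw [hv', mul_smul, mul_smul, hvd, inv_smul_smul]
  have hvM : v' ∈ M := hK.invol_mem hb hvi hvb
  have ho : t' * w' * t'⁻¹ * w'⁻¹ ∈ oAt G a := by
    have h := conj_oAt g⁻¹ (hRw ht).2
    rwa [inv_smul_smul, show g⁻¹ * (t * w * t⁻¹ * w⁻¹) * g⁻¹⁻¹ = t' * w' * t'⁻¹ * w'⁻¹ by
      rw [ht', hw']; group] at h
  obtain ⟨n, hn⟩ := hR.isPGroup ⟨t, ht⟩
  have hn' : t' ^ l ^ n = 1 := by
    have h1 : t ^ l ^ n = 1 := congrArg Subtype.val hn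
    rw [ht', show g⁻¹ * t * g = g⁻¹ * t * g⁻¹⁻¹ by rw [inv_inv], conj_pow, h1, mul_one, mul_inv_cancel]
  have htK : ∀ c' ∈ centres Ω M, t' • c' = c' := fun c' hc' => by
    refine fix_all_of_commute hK.fix hK.top hK.below hK.prime hK.hq hK.dvd hK.not_dvd htM hn' hwM hwi
      (fun x hx => ?_) hc'
    have h1 := hK.fix_oAt ha ho (centres_smul hwM (centres_smul htM hx))
    rwa [← mul_smul, ← mul_smul, show t' * w' * t'⁻¹ * w'⁻¹ * w' * t' = t' * w' by group, mul_smul] at h1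
  have hu' : t' * v' * t'⁻¹ * v'⁻¹ ∈ uAt G b := by
    rw [hvi.inv]
    refine mul_mem (mem_uAt (hvi.conj t') ?_) (mem_uAt hvi hvb)
    rw [mul_smul, mul_smul, inv_smul_eq_iff.mpr htb.symm, hvb, htb]
  have ho' : t' * v' * t'⁻¹ * v'⁻¹ ∈ oAt G b := (hK.mem_oAt_iff hb).mpr ⟨hu', fun c' hc' => by
    have hv1 := centres_smul (inv_mem hvM) hc'
    have ht1 : t'⁻¹ • v'⁻¹ • c' = v'⁻¹ • c' := inv_smul_eq_iff.mpr (htK _ hv1).symm
    rw [mul_smul, mul_smul, mul_smul, ht1, smul_inv_smul, htK c' hc']⟩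
  have h := conj_oAt g ho'
  rwa [show g * (t' * v' * t'⁻¹ * v'⁻¹) * g⁻¹ = t * v * t⁻¹ * v⁻¹ by rw [ht', hv']; group] at h

/-- The odd cores are trivial. -/
theorem Clique.oAt_eq_one {a : Ω} (ha : a ∈ centres Ω M) {x : G} (hx : x ∈ oAt G a) : x = 1 := by
  obtain ⟨b, hb, hba⟩ := hK.top.exists_ne hK.fix a
  obtain ⟨X, hX⟩ := hK.exact_centres ha hb hba
  refine eq_of_smul_eq_smul (α := Ω) fun d => ?_
  rw [one_smul]
  rcases eq_or_ne d a with rfl | hda
  · exact smul_of_mem_oAt hx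
  obtain ⟨X', hX'⟩ := hK.exact_all hda
  obtain ⟨g, hga, rfl⟩ := hK.exact_conj hba hX hX'
  have h := hK.fix_oAt ha (conj_oAt_back hga hx) hb
  rwa [mul_smul, mul_smul, inv_smul_eq_iff] at h

end CfsgLib.Bender.B1

namespace CfsgLib.Bender.B1

open MulAction
open CfsgLib.Bender.TwoClosed (IsInv two)

universe u

variable {G : Type u} {Ω : Type u} [Group G] [Finite G] [MulAction G Ω] [FaithfulSMul G Ω]

/-- An exponent above one has a prime of `2 ^ f - 1` not dividing it. -/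
theorem exists_prime_pow_sub_one {f : ℕ} (hf : 2 ≤ f) :
    ∃ l : ℕ, l.Prime ∧ l ≠ 2 ∧ l ∣ 2 ^ f - 1 ∧ ¬ l ∣ f := by
  have hne : f.primeFactors.Nonempty := Nat.nonempty_primeFactors.mpr hf
  set p := f.primeFactors.max' hne
  obtain ⟨hp, hpf, hf0⟩ := Nat.mem_primeFactors.mp (f.primeFactors.max'_mem hne)
  have h2p : 2 ≤ p := hp.two_le
  have h4 : 4 ≤ 2 ^ p := le_trans (by norm_num) (Nat.pow_le_pow_right (by norm_num : 1 ≤ 2) h2p)
  obtain ⟨l, hl, hlp⟩ := Nat.exists_prime_and_dvd (n := 2 ^ p - 1) (by omega)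
  have hl2 : l ≠ 2 := fun e => by
    have h2 : 2 ∣ 2 ^ p := dvd_pow_self 2 (by omega)
    rw [e] at hlp
    omega
  refine ⟨l, hl, hl2, hlp.trans ?_, fun hlf => ?_⟩
  · obtain ⟨k, hk⟩ := hpf
    rw [hk, pow_mul]
    simpa using Nat.sub_dvd_pow_sub_pow (2 ^ p) 1 k
  have hle : l ≤ p := f.primeFactors.le_max' l (Nat.mem_primeFactors.mpr ⟨hl, hlf, hf0⟩)
  haveI := Fact.mk hl
  haveI := Fact.mk hp
  have h2 : (2 : ZMod l) ^ p = 1 := by
    have h := (ZMod.natCast_eq_zero_iff _ _).mpr hlp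
    rw [Nat.cast_sub (by omega), sub_eq_zero] at h
    exact_mod_cast h
  have h21 : (2 : ZMod l) ≠ 1 := fun e => by
    have : (1 : ZMod l) = 0 := by linear_combination e
    exact one_ne_zero this
  have hord : orderOf (2 : ZMod l) = p := orderOf_eq_prime h2 h21
  have h20 : (2 : ZMod l) ≠ 0 := fun e => by
    rw [e, zero_pow (by omega)] at h2
    exact zero_ne_one h2
  have := Nat.le_of_dvd (by have := hl.two_le; omega) (hord ▸ ZMod.orderOf_dvd_card_sub_one h20)
  omega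

/-- Q5: pair stabilisers of two centres of the chosen top do not all lie in it. -/
theorem clique_end (hC : OneFix G Ω) (hB : Below.{u} (Nat.card G)) {e : ℕ} (hM : MaxBad G Ω e) (he : 1 < e)
    {M : Subgroup G} (hCh : Chosen Ω e M)
    (hD : ∀ a b : Ω, a ∈ centres Ω M → b ∈ centres Ω M → a ≠ b → two a b ≤ M) : False := by
  obtain ⟨f, hf2, hf⟩ := qTop_two_pow hC hCh.carries.top hB
  obtain ⟨l, hl, hl2, hlq, hlf⟩ := exists_prime_pow_sub_one hf2
  have hK : Clique Ω M l f := ⟨hC, hB, hCh.carries.top, hD, hl, hl2, hf, hf ▸ hlq, hlf⟩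
  obtain ⟨a, b, ha, hb, hne⟩ := hCh.carries.top.two
  obtain ⟨i, hiM, hi, hia⟩ := ha
  have hsub : kerBad Ω M i ⊆ {1} := fun x hx =>
    Set.mem_singleton_iff.mpr (hK.oAt_eq_one ⟨i, hiM, hi, hia⟩ (mem_oAt_of_inverted hi hia
      (hx.2.2 a ⟨i, hiM, hi, hia⟩) hx.2.1
      (odd_of_fix_two hC hne (hx.2.2 b hb) (hx.2.2 a ⟨i, hiM, hi, hia⟩))))
  have h1 := (hCh.carries.ker i hiM hi).trans (Set.ncard_le_ncard hsub)
  rw [Set.ncard_singleton] at h1
  omega

end CfsgLib.Bender.B1
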