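import Cfsg.Agent.Lib.Bender.B1.Circle
import Cfsg.Agent.Lib.Bender.B1.Climb

/-!
The odd core of the involutions at a point when the pair stabilisers of a top lie in it, and the classes of
involutions modulo it.

Blueprint: `blueprint/bender/A6.md`, case 2, Q5.
-/

set_option autoImplicit false
set_option linter.unusedSectionVars false
set_option linter.style.haveILetI false
set_option linter.unusedVariables false

namespace CfsgLib.Bender.B1

open MulAction Cfsg CfsgLib.SuzukiRankOne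
open CfsgLib.Bender.TwoClosed (IsInv IsInv.inv IsInv.conj IsInv.smul_twice InvAt two mem_two smul_conj
  odd_orderOf odd_card_of_forall eq_one_of_inv_eq eq_one_of_two_odd MaxP exists_maxP)

universe u

variable {G : Type u} {Ω : Type u} [Group G] [MulAction G Ω]

/-- The group generated by the involutions at `c`. -/
def uAt (G : Type u) [Group G] [MulAction G Ω] (c : Ω) : Subgroup G :=
  Subgroup.closure {x | IsInv x ∧ x • c = c}

/-- The group generated by the elements of odd order of `uAt G c`. -/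
def oAt (G : Type u) [Group G] [MulAction G Ω] (c : Ω) : Subgroup G :=
  Subgroup.closure {x | x ∈ uAt G c ∧ Odd (orderOf x)}

theorem mem_uAt {x : G} {c : Ω} (hx : IsInv x) (hc : x • c = c) : x ∈ uAt G c :=
  Subgroup.subset_closure ⟨hx, hc⟩

theorem oAt_le_uAt (c : Ω) : oAt G c ≤ uAt G c := (Subgroup.closure_le _).mpr fun _ h => h.1

theorem smul_of_mem_uAt {x : G} {c : Ω} (hx : x ∈ uAt G c) : x • c = c :=
  mem_stabilizer_iff.mp
    ((Subgroup.closure_le (stabilizer G c)).mpr (fun _ h => mem_stabilizer_iff.mpr h.2) hx)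

theorem smul_of_mem_oAt {x : G} {c : Ω} (hx : x ∈ oAt G c) : x • c = c := smul_of_mem_uAt (oAt_le_uAt c hx)

theorem mem_oAt {x : G} {c : Ω} (hx : x ∈ uAt G c) (hodd : Odd (orderOf x)) : x ∈ oAt G c :=
  Subgroup.subset_closure ⟨hx, hodd⟩

theorem conj_uAt (g : G) {x : G} {c : Ω} (hx : x ∈ uAt G c) : g * x * g⁻¹ ∈ uAt G (g • c) := by
  have hle : uAt G c ≤ (uAt G (g • c)).comap (MulAut.conj g).toMonoidHom :=
    (Subgroup.closure_le _).mpr fun y hy => mem_uAt (hy.1.conj g) (smul_conj hy.2)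
  simpa using hle hx

theorem conj_oAt (g : G) {x : G} {c : Ω} (hx : x ∈ oAt G c) : g * x * g⁻¹ ∈ oAt G (g • c) := by
  have hle : oAt G c ≤ (oAt G (g • c)).comap (MulAut.conj g).toMonoidHom :=
    (Subgroup.closure_le _).mpr fun y hy => mem_oAt (conj_uAt g hy.1)
      (show Odd (orderOf (g * y * g⁻¹)) by rw [CfsgLib.Involutions.orderOf_conj]; exact hy.2)
  simpa using hle hx

theorem conj_oAt_self {g x : G} {c : Ω} (hg : g • c = c) (hx : x ∈ oAt G c) : g * x * g⁻¹ ∈ oAt G c := by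
  have := conj_oAt g hx
  rwa [hg] at this

theorem conj_oAt_back {g x : G} {c : Ω} (hg : g • c = c) (hx : x ∈ oAt G c) : g⁻¹ * x * g ∈ oAt G c := by
  have := conj_oAt_self (g := g⁻¹) (inv_smul_eq_iff.mpr hg.symm) hx
  rwa [inv_inv] at this

/-- An odd order element inverted by an involution at `c` and fixing `c` lies in the odd core at `c`. -/
theorem mem_oAt_of_inverted [Finite G] {z x : G} {c : Ω} (hz : IsInv z) (hzc : z • c = c) (hxc : x • c = c)
    (hinv : z * x * z = x⁻¹) (hodd : Odd (orderOf x)) : x ∈ oAt G c := by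
  refine mem_oAt (CfsgLib.Bender.TwoClosed.mem_of_sq_mem hodd ?_) hodd
  have h1 : z * x⁻¹ * z = x := by
    rw [← hinv, show z * (z * x * z) * z = (z * z) * x * (z * z) by group, hz.2, one_mul, mul_one]
  have h2 : x * z * x⁻¹ * z = x * x := by
    calc x * z * x⁻¹ * z = x * (z * x⁻¹ * z) := by group
      _ = x * x := by rw [h1]
  rw [← h2]
  refine mul_mem (mem_uAt (hz.conj x) ?_) (mem_uAt hz hzc)
  rw [mul_smul, mul_smul, inv_smul_eq_iff.mpr hxc.symm, hzc, hxc]

/-- The elements fixing `c` which fix the class of `w` modulo the odd core at `c`. -/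
def stabCls (c : Ω) (w : G) : Subgroup G where
  carrier := {x | x • c = c ∧ x * w * x⁻¹ * w⁻¹ ∈ oAt G c}
  one_mem' := ⟨one_smul _ _, by simp⟩
  mul_mem' := fun {x y} hx hy => ⟨by rw [mul_smul, hy.1, hx.1], by
    have h := mul_mem (conj_oAt_self hx.1 hy.2) hx.2
    rwa [show x * (y * w * y⁻¹ * w⁻¹) * x⁻¹ * (x * w * x⁻¹ * w⁻¹) = x * y * w * (x * y)⁻¹ * w⁻¹ by group] at h⟩
  inv_mem' := fun {x} hx => ⟨inv_smul_eq_iff.mpr hx.1.symm, by
    have h := conj_oAt_back hx.1 (inv_mem hx.2)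
    rwa [show x⁻¹ * (x * w * x⁻¹ * w⁻¹)⁻¹ * x = x⁻¹ * w * x⁻¹⁻¹ * w⁻¹ by group] at h⟩

theorem mem_stabCls {c : Ω} {w x : G} :
    x ∈ stabCls c w ↔ x • c = c ∧ x * w * x⁻¹ * w⁻¹ ∈ oAt G c := Iff.rfl

/-- The class of an involution modulo the odd core at its point. -/
def cls (c : Ω) (w : G) : Set G := {j | IsInv j ∧ j • c = c ∧ w * j ∈ oAt G c}

theorem oAt_le_stabCls {c : Ω} {w : G} (hwc : w • c = c) : oAt G c ≤ stabCls c w := fun x hx =>
  ⟨smul_of_mem_oAt hx, by
    rw [show x * w * x⁻¹ * w⁻¹ = x * (w * x⁻¹ * w⁻¹) by group]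
    exact mul_mem hx (conj_oAt_self hwc (inv_mem hx))⟩

theorem conj_mem_cls {c : Ω} {w x : G} (hw : IsInv w) (hwc : w • c = c) (hx : x ∈ stabCls c w) :
    x * w * x⁻¹ ∈ cls c w := by
  refine ⟨hw.conj x, ?_, ?_⟩
  · rw [mul_smul, mul_smul, inv_smul_eq_iff.mpr hx.1.symm, hwc, hx.1]
  · have h := conj_oAt_self hwc (hx.2 : x * w * x⁻¹ * w⁻¹ ∈ oAt G c)
    rwa [show w * (x * w * x⁻¹ * w⁻¹) * w⁻¹ = w * (x * w * x⁻¹) * (w * w)⁻¹ by group, hw.2, inv_one, mul_one] at h

theorem mem_stabCls_of_cls {c : Ω} {w x : G} (hw : IsInv w) (hwc : w • c = c) (hxc : x • c = c)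
    (h : x * w * x⁻¹ ∈ cls c w) : x ∈ stabCls c w := by
  refine ⟨hxc, ?_⟩
  have h1 := conj_oAt_back hwc h.2.2
  rwa [show w⁻¹ * (w * (x * w * x⁻¹)) * w = x * w * x⁻¹ * w by group,
    show x * w * x⁻¹ * w = x * w * x⁻¹ * w⁻¹ by rw [hw.inv]] at h1

variable [Finite G]

/-- The conjugates of an element under a subgroup. -/
theorem card_conj_image (E : Subgroup G) (w : G) :
    ((fun x => x * w * x⁻¹) '' (E : Set G)).ncard * Nat.card ↥(E ⊓ Subgroup.centralizer ({w} : Set G)) =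
      Nat.card E := by
  set K := (E ⊓ Subgroup.centralizer ({w} : Set G)).subgroupOf E
  rw [Subgroup.card_eq_card_quotient_mul_card_subgroup K,
    Nat.card_congr (Subgroup.subgroupOfEquivOfLe
      (inf_le_left : E ⊓ Subgroup.centralizer ({w} : Set G) ≤ E)).toEquiv]
  congr 1
  have hiff : ∀ e e' : E, (e : G) * w * (e : G)⁻¹ = (e' : G) * w * (e' : G)⁻¹ ↔ e⁻¹ * e' ∈ K := fun e e' => by
    rw [Subgroup.mem_subgroupOf, Subgroup.mem_inf, Subgroup.mem_centralizer_singleton_iff,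
      and_iff_right (e⁻¹ * e').2, Subgroup.coe_mul, Subgroup.coe_inv]
    constructor
    · intro h
      calc (e : G)⁻¹ * e' * w = (e : G)⁻¹ * ((e' : G) * w * (e' : G)⁻¹) * e' := by group
        _ = w * ((e : G)⁻¹ * e') := by rw [← h]; group
    · intro h
      calc (e : G) * w * (e : G)⁻¹ = (e : G) * (w * ((e : G)⁻¹ * e')) * (e' : G)⁻¹ := by group
        _ = _ := by rw [← h]; group
  rw [← Nat.card_coe_set_eq]
  refine (Nat.card_eq_of_bijective (Quotient.lift
    (fun e : E => (⟨_, Set.mem_image_of_mem _ e.2⟩ : ↥((fun x => x * w * x⁻¹) '' (E : Set G)))) fun e e' h =>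
      Subtype.ext ((hiff e e').mpr (QuotientGroup.leftRel_apply.mp h))) ⟨?_, ?_⟩).symm
  · intro x y h
    induction x using Quotient.inductionOn
    induction y using Quotient.inductionOn
    exact Quotient.sound (QuotientGroup.leftRel_apply.mpr ((hiff _ _).mp (congrArg Subtype.val h)))
  · rintro ⟨_, x, hx, rfl⟩
    exact ⟨Quotient.mk _ ⟨x, hx⟩, rfl⟩

/-- The facts about the top used in the clique argument. -/
structure Clique (Ω : Type u) [MulAction G Ω] (M : Subgroup G) (l f : ℕ) : Prop where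
  fix : OneFix G Ω
  below : Below.{u} (Nat.card G)
  top : IsTop Ω M
  two_le : ∀ a b : Ω, a ∈ centres Ω M → b ∈ centres Ω M → a ≠ b → two a b ≤ M
  prime : l.Prime
  ne_two : l ≠ 2
  hq : qTop Ω M = 2 ^ f
  dvd : l ∣ qTop Ω M - 1
  not_dvd : ¬ l ∣ f

variable {M : Subgroup G} {l f : ℕ} [FaithfulSMul G Ω] (hK : Clique Ω M l f)
include hK

theorem Clique.exists_centre (c : Ω) : ∃ a ∈ centres Ω M, ∃ g : G, g • a = c := by
  obtain ⟨a, -, ha, -, -⟩ := hK.top.two
  haveI := hK.fix.trans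
  exact ⟨a, ha, exists_smul_eq G a c⟩

theorem Clique.invol_mem {a : Ω} (ha : a ∈ centres Ω M) {i : G} (hi : IsInv i) (hia : i • a = a) : i ∈ M := by
  obtain ⟨v, hvM, -, -, hv, hva, -⟩ := four_at hK.fix hK.top ha
  obtain ⟨b, hb, hne⟩ := hK.top.exists_ne hK.fix a
  obtain ⟨g, hg, rfl⟩ := exists_conj_stab hK.fix hv hva hi hia hne.symm
  have hgM := hK.two_le a b ha hb hne.symm hg
  exact mul_mem (mul_mem hgM hvM) (inv_mem hgM)

theorem Clique.uAt_le {a : Ω} (ha : a ∈ centres Ω M) : uAt G a ≤ M :=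
  (Subgroup.closure_le _).mpr fun _ h => hK.invol_mem ha h.1 h.2

theorem Clique.odd_fixer : Odd (Nat.card (fixer G (centres Ω M))) := by
  obtain ⟨g, c, hg, hc, hne⟩ := hK.top.two
  exact (odd_two hK.fix hne).of_dvd_nat (Subgroup.card_dvd_of_le fun x hx =>
    mem_two.mpr ⟨mem_fixer.mp hx c hc, mem_fixer.mp hx g hg⟩)

/-- An element of odd order generated by involutions at a centre fixes every centre. -/
theorem Clique.fix_of_odd {a : Ω} (ha : a ∈ centres Ω M) {x : G} (hx : x ∈ uAt G a) (hodd : Odd (orderOf x))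
    {c : Ω} (hc : c ∈ centres Ω M) : x • c = c := by
  obtain ⟨b, hb, hne⟩ := hK.top.exists_ne hK.fix a
  obtain ⟨t, Q, hS, hQ⟩ := good_centres hK.fix hK.below hK.top.ne_top hK.top.four ha hb hne ⟨a, ha⟩
  have hle : uAt G a ≤ ((Q.comap (img Ω M)).map M.subtype) := (Subgroup.closure_le _).mpr fun i hi =>
    ⟨⟨i, hK.invol_mem ha hi.1 hi.2⟩, CfsgLib.RankOne.invol_mem_Q hS (Subtype.ext hi.2)
      (img_isInv hK.fix hK.top (x := ⟨i, hK.invol_mem ha hi.1 hi.2⟩) hi.1).2, rfl⟩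
  obtain ⟨x', hx', rfl⟩ := hle hx
  haveI : Fact (Nat.Prime 2) := ⟨Nat.prime_two⟩
  obtain ⟨k, hk⟩ := hQ ⟨img Ω M x', hx'⟩
  have hodd' : Odd (orderOf (img Ω M x')) := hodd.of_dvd_nat (by
    rw [Subgroup.coe_subtype, Subgroup.orderOf_coe]; exact orderOf_map_dvd _ x')
  refine img_eq_one_iff.mp (orderOf_eq_one_iff.mp ?_) c hc
  exact Nat.eq_one_of_dvd_coprimes (Nat.Coprime.pow_left k (Nat.coprime_two_left.2 hodd'))
    (orderOf_dvd_of_pow_eq_one (congrArg Subtype.val hk)) dvd_rfl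

theorem Clique.fix_oAt {a : Ω} (ha : a ∈ centres Ω M) {x : G} (hx : x ∈ oAt G a) {c : Ω}
    (hc : c ∈ centres Ω M) : x • c = c :=
  mem_stabilizer_iff.mp ((Subgroup.closure_le (stabilizer G c)).mpr
    (fun y hy => mem_stabilizer_iff.mpr (hK.fix_of_odd ha hy.1 hy.2 hc)) hx)

theorem Clique.mem_oAt_iff {a : Ω} (ha : a ∈ centres Ω M) {x : G} :
    x ∈ oAt G a ↔ x ∈ uAt G a ∧ ∀ c ∈ centres Ω M, x • c = c :=
  ⟨fun h => ⟨oAt_le_uAt a h, fun _ hc => hK.fix_oAt ha h hc⟩,
    fun h => mem_oAt h.1 (odd_orderOf hK.odd_fixer (mem_fixer.mpr h.2))⟩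

theorem Clique.odd_oAt (c : Ω) : Odd (Nat.card (oAt G c)) := by
  refine odd_card_of_forall fun x hx hxi => ?_
  obtain ⟨a, ha, g, rfl⟩ := hK.exists_centre c
  have hy : g⁻¹ * x * g ∈ oAt G a := by simpa using conj_oAt g⁻¹ hx
  obtain ⟨b, hb, hne⟩ := hK.top.exists_ne hK.fix a
  have hyi : IsInv (g⁻¹ * x * g) := by simpa using hxi.conj g⁻¹
  exact hne (eq_of_fix hK.fix hyi (hK.fix_oAt ha hy hb) (hK.fix_oAt ha hy ha))

/-- The conjugates of an involution at `c` under the odd core are its class. -/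
theorem Clique.conj_image_oAt {c : Ω} {w : G} (hw : IsInv w) (hwc : w • c = c) {E : Subgroup G}
    (hOE : oAt G c ≤ E) (hEs : E ≤ stabCls c w) : (fun x => x * w * x⁻¹) '' (E : Set G) = cls c w := by
  refine Set.Subset.antisymm ?_ fun j hj => ?_
  · rintro _ ⟨x, hx, rfl⟩
    exact conj_mem_cls hw hwc (hEs hx)
  · obtain ⟨hji, hjc, ho⟩ := hj
    obtain ⟨k, hk⟩ := CfsgLib.Involutions.exists_sqrt (odd_orderOf (hK.odd_oAt c) ho)
    set r := (w * j) ^ k
    have hinv : w * r * w = r⁻¹ := by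
      have h := conj_pow (i := k) (a := w) (b := w * j)
      rw [hw.inv] at h
      rw [← h, ← inv_pow, mul_inv_rev, hw.inv, hji.inv, ← mul_assoc, hw.2, one_mul]
    refine ⟨r⁻¹, hOE (inv_mem (pow_mem ho k)), ?_⟩
    calc r⁻¹ * w * r⁻¹⁻¹ = (w * r * w) * w * r := by rw [hinv]; group
      _ = w * r * (w * w) * r := by group
      _ = w * (r * r) := by rw [hw.2]; group
      _ = j := by rw [hk, ← mul_assoc, hw.2, one_mul]

theorem Clique.card_cls_mul {c : Ω} {w : G} (hw : IsInv w) (hwc : w • c = c) :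
    (cls c w).ncard * Nat.card ↥(oAt G c ⊓ Subgroup.centralizer ({w} : Set G)) = Nat.card (oAt G c) := by
  rw [← hK.conj_image_oAt hw hwc le_rfl (oAt_le_stabCls hwc)]
  exact card_conj_image _ w

omit hK in
theorem card_cls_conj {c c' : Ω} {w w' g : G} (hc : g • c = c') (he : g * w * g⁻¹ = w') :
    (cls c' w').ncard = (cls c w).ncard := by
  subst hc he
  rw [show cls (g • c) (g * w * g⁻¹) = (fun j => g * j * g⁻¹) '' cls c w from ?_,
    Set.ncard_image_of_injective _ fun a b h => mul_left_cancel (mul_right_cancel h)]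
  ext j
  constructor
  · rintro ⟨hj, hjc, ho⟩
    refine ⟨g⁻¹ * j * g, ⟨by simpa using hj.conj g⁻¹, by rw [mul_smul, mul_smul, hjc, inv_smul_smul], ?_⟩, by group⟩
    have h := conj_oAt g⁻¹ ho
    rwa [inv_smul_smul, show g⁻¹ * (g * w * g⁻¹ * j) * g⁻¹⁻¹ = w * (g⁻¹ * j * g) by group] at h
  · rintro ⟨i, ⟨hi, hic, ho⟩, rfl⟩
    refine ⟨hi.conj g, smul_conj hic, ?_⟩
    rw [show g * w * g⁻¹ * (g * i * g⁻¹) = g * (w * i) * g⁻¹ by group]
    exact conj_oAt g ho

/-- The classes at every point: there are `q - 1` of the same size. -/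
theorem Clique.card_invAt {c : Ω} {w : G} (hw : IsInv w) (hwc : w • c = c) :
    Nat.card (InvAt G c) = (qTop Ω M - 1) * (cls c w).ncard := by
  obtain ⟨a, ha, g, rfl⟩ := hK.exists_centre c
  set w₀ := g⁻¹ * w * g with hw₀
  have hw₀i : IsInv w₀ := by simpa using hw.conj g⁻¹
  have hw₀a : w₀ • a = a := by rw [hw₀, mul_smul, mul_smul, hwc, inv_smul_smul]
  rw [card_invAt_eq hK.fix (g • a) a, card_cls_conj (w := w₀) rfl (by rw [hw₀]; group)]
  set a' : centres Ω M := ⟨a, ha⟩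
  have hImg : ∀ i : InvAt G a, IsInv (img Ω M ⟨i, hK.invol_mem ha i.2.1 i.2.2⟩) ∧
      img Ω M ⟨i, hK.invol_mem ha i.2.1 i.2.2⟩ • a' = a' := fun i =>
    ⟨img_isInv hK.fix hK.top (x := ⟨i, hK.invol_mem ha i.2.1 i.2.2⟩) i.2.1, Subtype.ext i.2.2⟩
  let φ : InvAt G a → InvAt (topGrp Ω M) a' := fun i => ⟨_, hImg i⟩
  have hfib : ∀ y, Nat.card {i : InvAt G a // φ i = y} = (cls a w₀).ncard := by
    intro y
    obtain ⟨i, hi, hiy⟩ := exists_inv_lift hK.fix hK.top y.2.1
    have hia : (i : G) • a = a := by rw [← img_smul i a', hiy, y.2.2]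
    obtain ⟨b, hb, hne⟩ := hK.top.exists_ne hK.fix a
    obtain ⟨h, hh, hhe⟩ := exists_conj_stab hK.fix hw₀i hw₀a hi hia hne.symm
    rw [← card_cls_conj (mem_two.mp hh).1 hhe, ← Nat.card_coe_set_eq]
    have key : ∀ j : G, ∀ hj : IsInv j, ∀ hja : j • a = a, φ ⟨j, hj, hja⟩ = y ↔ (i : G) * j ∈ oAt G a := by
      intro j hj hja
      have hjM := hK.invol_mem ha hj hja
      constructor
      · intro e
        have e' : img Ω M ⟨j, hjM⟩ = img Ω M i := (congrArg Subtype.val e).trans hiy.symm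
        refine (hK.mem_oAt_iff ha).mpr ⟨mul_mem (mem_uAt hi hia) (mem_uAt hj hja), fun c hc => ?_⟩
        rw [mul_smul, smul_of_img_eq e' hc]
        exact hi.smul_twice c
      · intro ho
        refine Subtype.ext (Eq.trans ?_ hiy)
        refine img_eq_of_smul fun c hc => ?_
        have h1 := hK.fix_oAt ha ho hc
        rw [mul_smul] at h1
        calc j • c = (i : G) • (i : G) • j • c := (hi.smul_twice _).symm
          _ = (i : G) • c := by rw [h1]
    exact Nat.card_congr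
      { toFun := fun z => ⟨z.1.1, z.1.2.1, z.1.2.2, (key _ z.1.2.1 z.1.2.2).mp z.2⟩
        invFun := fun z => ⟨⟨z.1, z.2.1, z.2.2.1⟩, (key _ z.2.1 z.2.2.1).mpr z.2.2.2⟩
        left_inv := fun z => rfl
        right_inv := fun z => rfl }
  have hq1 : qTop Ω M = Nat.card (InvAt (topGrp Ω M) a') + 1 := by
    rw [← qTop_eq hK.fix hK.top ha, qZ]
    congr 1
    exact Nat.card_congr (Equiv.subtypeEquivRight fun y =>
      ⟨fun ⟨h1, h2, h3⟩ => ⟨⟨h2, h3⟩, h1⟩, fun ⟨⟨h2, h3⟩, h1⟩ => ⟨h1, h2, h3⟩⟩)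
  classical
  haveI := Fintype.ofFinite (InvAt (topGrp Ω M) a')
  rw [hq1, Nat.add_sub_cancel, ← Nat.card_congr (Equiv.sigmaFiberEquiv φ), Nat.card_sigma,
    Finset.sum_congr rfl (fun y _ => hfib y), Finset.sum_const, Finset.card_univ, smul_eq_mul,
    ← Nat.card_eq_fintype_card]

theorem Clique.factorization_invAt {c : Ω} {w : G} (hw : IsInv w) (hwc : w • c = c) :
    (cls c w).ncard.factorization l < (Nat.card (InvAt G c)).factorization l := by
  have hm := hK.card_invAt hw hwc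
  haveI : Nonempty (InvAt G c) := ⟨⟨w, hw, hwc⟩⟩
  have hpos : Nat.card (InvAt G c) ≠ 0 := Nat.card_pos.ne'
  rw [hm] at hpos ⊢
  obtain ⟨h1, h2⟩ := mul_ne_zero_iff.mp hpos
  rw [Nat.factorization_mul h1 h2, Finsupp.add_apply]
  have := hK.prime.factorization_pos_of_dvd h1 hK.dvd
  omega

/-- A Sylow subgroup of a pair stabiliser fixes no class at either point. -/
theorem Clique.no_class {c d : Ω} (hne : d ≠ c) {R : Subgroup G} (hR : MaxP l (two d c) R) {w : G}
    (hw : IsInv w) (hwd : w • d = d) : ¬ R ≤ stabCls d w := by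
  intro hle
  haveI := Fact.mk hK.prime
  set D : Subgroup G := two d c
  set C : Subgroup G := Subgroup.centralizer ({w} : Set G)
  set E : Subgroup G := D ⊓ stabCls d w
  have hall : ∀ j, IsInv j → j • d = d → j ∈ (fun x => x * w * x⁻¹) '' (D : Set G) := fun j hj hjd => by
    obtain ⟨x, hx, he⟩ := exists_conj_stab hK.fix hw hwd hj hjd hne
    exact ⟨x, hx, he⟩
  have hD : (fun x => x * w * x⁻¹) '' (D : Set G) = {j | IsInv j ∧ j • d = d} := by
    refine Set.Subset.antisymm ?_ fun j hj => hall j hj.1 hj.2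
    rintro _ ⟨x, hx, rfl⟩
    have hxd := (mem_two.mp hx).1
    exact ⟨hw.conj x, by rw [mul_smul, mul_smul, inv_smul_eq_iff.mpr hxd.symm, hwd, hxd]⟩
  have hE : (fun x => x * w * x⁻¹) '' (E : Set G) = cls d w := by
    refine Set.Subset.antisymm ?_ fun j hj => ?_
    · rintro _ ⟨x, hx, rfl⟩
      exact conj_mem_cls hw hwd hx.2
    · obtain ⟨x, hx, rfl⟩ := hall j hj.1 hj.2.1
      exact ⟨x, ⟨hx, mem_stabCls_of_cls hw hwd (mem_two.mp hx).1 hj⟩, rfl⟩
  have hcent : E ⊓ C = D ⊓ C := by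
    refine le_antisymm (inf_le_inf_right C inf_le_left) fun x hx => ⟨⟨hx.1, ?_⟩, hx.2⟩
    have hxw : x * w = w * x := Subgroup.mem_centralizer_singleton_iff.mp hx.2
    exact ⟨(mem_two.mp hx.1).1, by rw [show x * w * x⁻¹ * w⁻¹ = 1 by rw [hxw]; group]; exact one_mem _⟩
  have h1 := card_conj_image D w
  have h2 := card_conj_image E w
  rw [show Subgroup.centralizer ({w} : Set G) = C from rfl] at h1 h2
  rw [hD] at h1
  rw [hE, hcent] at h2
  change Nat.card (InvAt G d) * _ = _ at h1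
  have hlt := hK.factorization_invAt hw hwd
  have hdvd : l ^ (Nat.card D).factorization l ∣ Nat.card E :=
    hR.card ▸ Subgroup.card_dvd_of_le (le_inf hR.le hle)
  have hle2 := (hK.prime.pow_dvd_iff_le_factorization Nat.card_pos.ne').mp hdvd
  rw [← h1, ← h2] at hle2
  haveI : Nonempty (InvAt G d) := ⟨⟨w, hw, hwd⟩⟩
  have hne0 : (cls d w).ncard ≠ 0 := fun h => by
    rw [h, zero_mul] at h2
    exact Nat.card_pos.ne' h2.symm
  rw [Nat.factorization_mul Nat.card_pos.ne' Nat.card_pos.ne', Nat.factorization_mul hne0 Nat.card_pos.ne',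
    Finsupp.add_apply, Finsupp.add_apply] at hle2
  omega

/-- A `l`-group fixing a class of size prime to `l` centralises one of its involutions. -/
theorem Clique.exists_cent_in_cls {c : Ω} {w : G} (hw : IsInv w) (hwc : w • c = c)
    (hcop : ¬ l ∣ Nat.card (oAt G c)) {R : Subgroup G} (hR : IsPGroup l R) (hRc : R ≤ stabCls c w) :
    ∃ v, IsInv v ∧ v • c = c ∧ ∀ x ∈ R, x * v = v * x := by
  haveI := Fact.mk hK.prime
  set E := stabCls c w
  set C : Subgroup G := Subgroup.centralizer ({w} : Set G)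
  have h1 := card_conj_image E w
  rw [hK.conj_image_oAt hw hwc (oAt_le_stabCls hwc) le_rfl] at h1
  have hs : ¬ l ∣ (cls c w).ncard := fun h => hcop (h.trans ⟨_, (hK.card_cls_mul hw hwc).symm⟩)
  obtain ⟨P, -, hP⟩ := exists_maxP (p := l) (K := E ⊓ C) (X := ⊥) IsPGroup.of_bot bot_le
  have hPE : MaxP l E P := by
    refine CfsgLib.Bender.TwoClosed.maxP_of_card hP.isPGroup (hP.le.trans inf_le_left) ?_
    have hne0 : (cls c w).ncard ≠ 0 := fun h => hs (h ▸ dvd_zero l)
    rw [hP.card, ← h1, Nat.factorization_mul hne0 Nat.card_pos.ne', Finsupp.add_apply,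
      Nat.factorization_eq_zero_of_not_dvd hs, zero_add]
  obtain ⟨R', hRR', hR'⟩ := exists_maxP hR hRc
  obtain ⟨x, hx, hconj⟩ := hPE.conj hR'
  refine ⟨x * w * x⁻¹, hw.conj x, (conj_mem_cls hw hwc hx).2.1, fun r hr => ?_⟩
  have hrP : x⁻¹ * r * x ∈ P := (hconj _).mpr (by simpa [mul_assoc] using hRR' hr)
  have h2 : x⁻¹ * r * x * w = w * (x⁻¹ * r * x) :=
    Subgroup.mem_centralizer_singleton_iff.mp (hP.le hrP).2
  calc r * (x * w * x⁻¹) = x * (x⁻¹ * r * x * w) * x⁻¹ := by group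
    _ = x * w * x⁻¹ * r := by rw [h2]; group

end CfsgLib.Bender.B1
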