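import Cfsg.Agent.Lib.Bender.B1.Basic
import Cfsg.Agent.S0225
import Cfsg.Agent.S0205

/-!
Inverted elements in a proper subgroup with involutions at two points.

Blueprint: `blueprint/bender/A6.md`, L2.
-/

set_option autoImplicit false
set_option linter.unusedSectionVars false
set_option linter.style.haveILetI false
set_option linter.unusedVariables false

namespace CfsgLib.Bender.B1

open MulAction CfsgLib.SuzukiRankOne
open CfsgLib.Bender.TwoClosed (IsInv InvAt Swap two mem_two smul_conj exists_inv_of_even odd_card_of_forall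
  odd_orderOf eq_one_of_inv_eq eq_one_of_two_odd)

universe u v

variable {G : Type u} {Ω : Type u} [Group G] [MulAction G Ω]

/-- The fixed points of the involutions of `X`. -/
def centres (Ω : Type u) [MulAction G Ω] (X : Subgroup G) : Set Ω := {c | ∃ x ∈ X, IsInv x ∧ x • c = c}

/-- `X` has two distinct commuting involutions. -/
def FourIn (X : Subgroup G) : Prop := ∃ x ∈ X, ∃ y ∈ X, IsInv x ∧ IsInv y ∧ x ≠ y ∧ x * y = y * x

/-- The elements inverted by `u` which fix its point `g` and the point `a`. -/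
def bad (u : G) (g a : Ω) : Set G := {x | u * x * u = x⁻¹ ∧ x • g = g ∧ x • a = a}

/-- The elements of `X` inverted by `u` which fix all centres of `X`. -/
def kerBad (Ω : Type u) [MulAction G Ω] (X : Subgroup G) (u : G) : Set G :=
  {x | x ∈ X ∧ u * x * u = x⁻¹ ∧ ∀ c ∈ centres Ω X, x • c = c}

/-- No pair has more than `e` inverted elements fixing the centre. -/
def MaxBad (G : Type u) (Ω : Type u) [Group G] [MulAction G Ω] (e : ℕ) : Prop :=
  ∀ (u : G) (g a : Ω), IsInv u → u • g = g → a ≠ g → (bad u g a).ncard ≤ e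

/-- A proper subgroup with a four group and two centres carrying `e` inverted elements in its kernel. -/
def LMember (G : Type u) (Ω : Type u) [Group G] [MulAction G Ω] (e : ℕ) : Prop :=
  ∃ (X : Subgroup G) (u : G) (g : Ω), X ≠ ⊤ ∧ FourIn X ∧ IsInv u ∧ u ∈ X ∧ u • g = g ∧
    (∃ c ∈ centres Ω X, c ≠ g) ∧ e ≤ (kerBad Ω X u).ncard

theorem centres_smul {X : Subgroup G} {x : G} (hx : x ∈ X) {c : Ω} (hc : c ∈ centres Ω X) :
    x • c ∈ centres Ω X := by
  obtain ⟨i, hi, hiv, hic⟩ := hc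
  exact ⟨x * i * x⁻¹, mul_mem (mul_mem hx hi) (inv_mem hx), hiv.conj x, smul_conj hic⟩

theorem mem_centres {X : Subgroup G} {x : G} (hx : x ∈ X) (hi : IsInv x) {c : Ω} (hc : x • c = c) :
    c ∈ centres Ω X := ⟨x, hx, hi, hc⟩

variable (hC : OneFix G Ω) [Finite G]
include hC

theorem centres_swap {X : Subgroup G} {c d : Ω} (hc : c ∈ centres Ω X) (hd : d ∈ centres Ω X) (hne : c ≠ d) :
    ∃ w ∈ X, IsInv w ∧ w • c = d := by
  obtain ⟨i, hi, hiv, hic⟩ := hc
  obtain ⟨j, hj, hjv, hjd⟩ := hd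
  obtain ⟨w, hw, he, hcl⟩ := exists_swap_conj hC hiv hic hjv hjd hne
  refine ⟨w, (Subgroup.closure_le _).mpr ?_ hcl, hw, (swap_points hC hiv hic hjv hjd hw he).1⟩
  rintro y (rfl | rfl)
  · exact hi
  · exact hj

/-- A subgroup normalised by `X` fixing one centre fixes all. -/
theorem fix_centres {X Y : Subgroup G} (hn : X ≤ Subgroup.normalizer (Y : Set G)) {g c : Ω}
    (hg : g ∈ centres Ω X) (hY : ∀ y ∈ Y, y • g = g) (hc : c ∈ centres Ω X) : ∀ y ∈ Y, y • c = c := by
  intro y hy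
  rcases eq_or_ne g c with rfl | hne
  · exact hY y hy
  · obtain ⟨w, hwX, hw, rfl⟩ := centres_swap hC hg hc hne
    have h1 := hY _ ((Subgroup.mem_normalizer_iff.mp (hn hwX) y).mp hy)
    rw [hw.inv, mul_smul, mul_smul] at h1
    calc y • w • g = w • w • y • w • g := (hw.smul_twice _).symm
      _ = w • g := by rw [h1]

/-- A product of two involutions of a subgroup without four group has odd order. -/
theorem odd_mul_of_no_four {X : Subgroup G} (h4 : ¬ FourIn X) {i j : G} (hiX : i ∈ X) (hjX : j ∈ X)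
    (hi : IsInv i) (hj : IsInv j) : Odd (orderOf (i * j)) := by
  by_contra hodd
  rw [Nat.not_odd_iff_even] at hodd
  obtain ⟨h1, h2⟩ := CfsgLib.Involutions.central_half hi.2 hj.2 hodd
  obtain ⟨hz2, hz1⟩ := CfsgLib.Involutions.orderOf_eq_two_iff'.mp (CfsgLib.Involutions.orderOf_half hodd)
  set z := (i * j) ^ (orderOf (i * j) / 2)
  have hzX : z ∈ X := pow_mem (mul_mem hiX hjX) _
  have e1 : z = i := by_contra fun h => h4 ⟨z, hzX, i, hiX, ⟨hz1, hz2⟩, hi, h, h1.eq⟩
  have e2 : z = j := by_contra fun h => h4 ⟨z, hzX, j, hjX, ⟨hz1, hz2⟩, hj, h, h2.eq⟩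
  have hij : i = j := e1 ▸ e2
  rw [← hij, hi.2, orderOf_one] at hodd
  exact absurd hodd (by decide)

/-- The odd normal subgroup of a subgroup without four group containing its commutators with involutions. -/
theorem exists_oddCore {X : Subgroup G} (h4 : ¬ FourIn X) {u : G} (hu : IsInv u) (huX : u ∈ X) :
    ∃ N : Subgroup G, N ≤ X ∧ X ≤ Subgroup.normalizer (N : Set G) ∧ Odd (Nat.card N) ∧
      ∀ x ∈ X, u * x * u * x⁻¹ ∈ N := by
  have hev : Even (Nat.card X) := by
    refine even_iff_two_dvd.mpr ?_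
    haveI : Fact (Nat.Prime 2) := ⟨Nat.prime_two⟩
    rw [← show orderOf u = 2 from orderOf_eq_prime (by rw [pow_two]; exact hu.2) hu.1]
    exact Subgroup.orderOf_dvd_natCard X huX
  have hk : ∀ E : Subgroup X, ¬ IsKleinFour E := fun E hE => by
    haveI := hE
    haveI : Nontrivial E := Finite.one_lt_card_iff_nontrivial.1 (by rw [IsKleinFour.card_four]; omega)
    obtain ⟨x, hx⟩ := exists_ne (1 : E)
    obtain ⟨y, hy1, hy2⟩ : ∃ y : E, y ≠ 1 ∧ y ≠ x := by
      by_contra h
      push Not at h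
      have hsub : (Set.univ : Set E) ⊆ {1, x} := fun y _ => by
        rcases eq_or_ne y 1 with e | e
        · exact Or.inl e
        · exact Or.inr (h y e)
      have := Set.ncard_le_ncard hsub (Set.toFinite _)
      rw [Set.ncard_univ, IsKleinFour.card_four] at this
      have h2 : ({1, x} : Set E).ncard ≤ 2 :=
        (Set.ncard_insert_le _ _).trans (by rw [Set.ncard_singleton])
      omega
    have hinv : ∀ z : E, z ≠ 1 → IsInv ((z : X) : G) := fun z hz =>
      ⟨fun e => hz (Subtype.ext (Subtype.ext e)), by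
        have h := IsKleinFour.mul_self z
        exact congrArg (fun w : E => ((w : X) : G)) h⟩
    have hcomm : ∀ z w : E, z * w = w * z := fun z w => by
      rw [← inv_eq_of_mul_eq_one_right (IsKleinFour.mul_self (z * w)), mul_inv_rev, inv_eq_of_mul_eq_one_right (IsKleinFour.mul_self w),
        inv_eq_of_mul_eq_one_right (IsKleinFour.mul_self z)]
    exact h4 ⟨_, (x : X).2, _, (y : X).2, hinv x hx, hinv y hy1, fun e => hy2 (Subtype.ext (Subtype.ext e.symm)),
      congrArg (fun w : E => ((w : X) : G)) (hcomm x y)⟩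
  obtain ⟨z, hz, M, hMn, hModd, hzM⟩ := Cfsg.Agent.S0225.result hev hk
  haveI := hMn
  obtain ⟨hz2, hz1⟩ := CfsgLib.Involutions.orderOf_eq_two_iff'.mp hz
  refine ⟨M.map X.subtype, Subgroup.map_subtype_le _, fun x hx => ?_, ?_, fun x hx => ?_⟩
  · refine Subgroup.mem_normalizer_iff.mpr fun n => ⟨?_, ?_⟩
    · rintro ⟨m, hm, rfl⟩
      exact ⟨_, hMn.conj_mem m hm ⟨x, hx⟩, rfl⟩
    · rintro ⟨m, hm, he⟩
      refine ⟨_, hMn.conj_mem m hm ⟨x, hx⟩⁻¹, ?_⟩
      simp only [Subgroup.coe_subtype] at he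
      simp [he, mul_assoc]
  · rw [Subgroup.card_map_of_injective X.subtype_injective]
    exact hModd
  · -- `u` and `z` agree modulo `M`
    have hzi : IsInv (z : G) := ⟨fun e => hz1 (Subtype.ext e), congrArg Subtype.val hz2⟩
    obtain ⟨k, hk⟩ := CfsgLib.Involutions.exists_sqrt (odd_mul_of_no_four hC h4 huX z.2 hu hzi)
    set U : X := ⟨u, huX⟩
    have hkey : (U * z)⁻¹ * (U * z)⁻¹ ∈ M := by
      have h := hzM U
      have e : (z : X)⁻¹ = z := inv_eq_of_mul_eq_one_right hz2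
      have e' : U⁻¹ = U := inv_eq_of_mul_eq_one_right (Subtype.ext hu.2)
      rw [e, e'] at h
      rwa [mul_inv_rev, e, e', ← mul_assoc]
    have hUz : U * z ∈ M := by
      have h1 : (U * z) * (U * z) ∈ M := by
        have := M.inv_mem hkey
        simpa [mul_inv_rev] using this
      have h2 : ((U * z) * (U * z)) ^ k = U * z := by
        rw [(Commute.refl (U * z)).mul_pow]
        exact Subtype.ext (by push_cast; exact hk)
      rw [← h2]
      exact M.pow_mem h1 k
    refine ⟨U * ⟨x, hx⟩ * U * ⟨x, hx⟩⁻¹, ?_, rfl⟩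
    have e : (z : X)⁻¹ = z := inv_eq_of_mul_eq_one_right hz2
    have h3 : U * ⟨x, hx⟩ * U * (⟨x, hx⟩ : X)⁻¹ =
        (U * z) * (z * ⟨x, hx⟩ * z⁻¹ * (⟨x, hx⟩ : X)⁻¹) * ((⟨x, hx⟩ : X) * (z⁻¹ * U) * (⟨x, hx⟩ : X)⁻¹) := by
      calc U * ⟨x, hx⟩ * U * (⟨x, hx⟩ : X)⁻¹
          = U * (z * z) * ⟨x, hx⟩ * (z⁻¹ * z⁻¹) * U * (⟨x, hx⟩ : X)⁻¹ := by
            rw [← mul_inv_rev, hz2, inv_one, mul_one, mul_one]
        _ = _ := by group
    rw [h3]
    refine M.mul_mem (M.mul_mem hUz (hzM _)) (hMn.conj_mem _ ?_ _)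
    have h4' : (z * (U * z) * z⁻¹) = z⁻¹ * U := by rw [e, ← mul_assoc, mul_assoc _ z z, hz2, mul_one]
    rw [← h4']
    exact hMn.conj_mem _ hUz z

omit hC in
/-- The action of a subgroup on its centres. -/
@[reducible] def centresAct (Ω : Type u) [MulAction G Ω] (X : Subgroup G) : MulAction X (centres Ω X) where
  smul x c := ⟨(x : G) • (c : Ω), centres_smul x.2 c.2⟩
  one_smul c := Subtype.ext (one_smul G (c : Ω))
  mul_smul x y c := Subtype.ext (mul_smul (x : G) (y : G) (c : Ω))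

omit hC in
/-- The permutations of the centres induced by `X`. -/
def centresPerm (Ω : Type u) [MulAction G Ω] (X : Subgroup G) : X →* Equiv.Perm (centres Ω X) :=
  letI := centresAct Ω X
  MulAction.toPermHom X (centres Ω X)

omit hC in
theorem centresPerm_apply {X : Subgroup G} (x : X) (c : centres Ω X) :
    ((centresPerm Ω X x c : centres Ω X) : Ω) = (x : G) • (c : Ω) := rfl

omit hC in
theorem centresPerm_eq_one {X : Subgroup G} {x : X} (hx : centresPerm Ω X x = 1) {c : Ω}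
    (hc : c ∈ centres Ω X) : (x : G) • c = c :=
  congrArg Subtype.val (Equiv.ext_iff.mp hx ⟨c, hc⟩)

theorem odd_centresKer {X : Subgroup G} {g c : Ω} (hg : g ∈ centres Ω X) (hc : c ∈ centres Ω X) (hne : c ≠ g) :
    Odd (Nat.card (centresPerm Ω X).ker) := by
  refine Nat.not_even_iff_odd.mp fun hev => ?_
  haveI : Fact (Nat.Prime 2) := ⟨Nat.prime_two⟩
  obtain ⟨z, hz⟩ := exists_prime_orderOf_dvd_card' (G := (centresPerm Ω X).ker) 2 hev.two_dvd
  obtain ⟨h2, h1⟩ := CfsgLib.Involutions.orderOf_eq_two_iff'.mp hz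
  have hi : IsInv ((z : X) : G) := ⟨fun e => h1 (Subtype.ext (Subtype.ext e)),
    congrArg (fun w : (centresPerm Ω X).ker => ((w : X) : G)) h2⟩
  exact hne (eq_of_fix hC hi (centresPerm_eq_one z.2 hc) (centresPerm_eq_one z.2 hg))

/-- The image of a subgroup with a four group on its centres is again a one fixed point group. -/
theorem oneFix_centres {X : Subgroup G} (h4 : FourIn X) {g c : Ω} (hg : g ∈ centres Ω X)
    (hc : c ∈ centres Ω X) (hne : c ≠ g) :
    OneFix (centresPerm Ω X).range (centres Ω X) := by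
  set φ := centresPerm Ω X with hφ
  have hodd := odd_centresKer hC hg hc hne
  have hinv : ∀ x : X, IsInv (x : G) → φ x ≠ 1 := fun x hx e =>
    hne (eq_of_fix hC hx (centresPerm_eq_one e hc) (centresPerm_eq_one e hg))
  refine ⟨⟨fun a b => ?_⟩, fun y hy => ?_, ?_⟩
  · rcases eq_or_ne a b with rfl | hab
    · exact ⟨1, one_smul _ _⟩
    · obtain ⟨w, hw, -, hwa⟩ := centres_swap hC a.2 b.2 (fun e => hab (Subtype.ext e))
      exact ⟨⟨φ ⟨w, hw⟩, ⟨_, rfl⟩⟩, Subtype.ext hwa⟩
  · obtain ⟨_, x, rfl⟩ := y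
    obtain ⟨hy1, hy2⟩ := hy
    have hy1' : φ x ≠ 1 := fun e => hy1 (Subtype.ext e)
    have hker : x * x ∈ φ.ker := by
      rw [MonoidHom.mem_ker, map_mul]
      exact congrArg Subtype.val hy2
    obtain ⟨m, hm⟩ := hodd
    set z : X := x * (x * x) ^ m
    have hz2 : z * z = 1 := by
      have h1 : (x * x) ^ (2 * m + 1) = 1 :=
        congrArg Subtype.val (show (⟨x * x, hker⟩ : φ.ker) ^ (2 * m + 1) = 1 from hm ▸ pow_card_eq_one')
      have hcx : Commute x ((x * x) ^ m) := ((Commute.refl x).mul_right (Commute.refl x)).pow_right m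
      calc z * z = x * ((x * x) ^ m * x) * (x * x) ^ m := by simp only [z, mul_assoc]
        _ = (x * x) * ((x * x) ^ m * (x * x) ^ m) := by rw [← hcx.eq]; simp only [mul_assoc]
        _ = 1 := by rw [← pow_add, ← pow_succ', ← two_mul, h1]
    have hzx : φ z = φ x := by
      have : φ ((x * x) ^ m) = 1 := by rw [map_pow, MonoidHom.mem_ker.mp hker, one_pow]
      rw [map_mul, this, mul_one]
    have hzi : IsInv (z : G) := ⟨fun e => hy1' (by rw [← hzx, show z = 1 from Subtype.ext e, map_one]),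
      congrArg Subtype.val hz2⟩
    obtain ⟨d, hd⟩ := exists_fix hC hzi
    refine ⟨⟨d, mem_centres z.2 hzi hd⟩, ?_, fun d' hd' => ?_⟩
    · show φ x _ = _
      rw [← hzx]
      exact Subtype.ext hd
    · change φ x d' = d' at hd'
      rw [← hzx] at hd'
      exact Subtype.ext (eq_of_fix hC hzi (congrArg Subtype.val hd') hd)
  · obtain ⟨x, hx, y, hy, hxi, hyi, hne', hcom⟩ := h4
    have hxy : IsInv (x * y) := ⟨fun e => hne' (by rw [mul_eq_one_iff_eq_inv, hyi.inv] at e; exact e), by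
      calc x * y * (x * y) = x * (y * x) * y := by group
        _ = x * (x * y) * y := by rw [hcom]
        _ = 1 := by rw [← mul_assoc, hxi.2, one_mul, hyi.2]⟩
    refine ⟨⟨φ ⟨x, hx⟩, _, rfl⟩, ⟨φ ⟨y, hy⟩, _, rfl⟩, fun e => hinv ⟨x, hx⟩ hxi (congrArg Subtype.val e),
      fun e => hinv ⟨y, hy⟩ hyi (congrArg Subtype.val e), fun e => ?_, ?_, ?_, ?_⟩
    · refine hinv (⟨x, hx⟩ * ⟨y, hy⟩) hxy ?_
      rw [map_mul, show φ ⟨x, hx⟩ = φ ⟨y, hy⟩ from congrArg Subtype.val e, ← map_mul]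
      rw [show (⟨y, hy⟩ : X) * ⟨y, hy⟩ = 1 from Subtype.ext hyi.2, map_one]
    · apply Subtype.ext
      show φ ⟨x, hx⟩ * φ ⟨x, hx⟩ = 1
      rw [← map_mul, show (⟨x, hx⟩ : X) * ⟨x, hx⟩ = 1 from Subtype.ext hxi.2, map_one]
    · apply Subtype.ext
      show φ ⟨y, hy⟩ * φ ⟨y, hy⟩ = 1
      rw [← map_mul, show (⟨y, hy⟩ : X) * ⟨y, hy⟩ = 1 from Subtype.ext hyi.2, map_one]
    · apply Subtype.ext
      show φ ⟨x, hx⟩ * φ ⟨y, hy⟩ = φ ⟨y, hy⟩ * φ ⟨x, hx⟩
      rw [← map_mul, ← map_mul, show (⟨x, hx⟩ : X) * ⟨y, hy⟩ = ⟨y, hy⟩ * ⟨x, hx⟩ from Subtype.ext hcom]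

theorem good_centres (hB : Below.{u} (Nat.card G)) {X : Subgroup G} (hX : X ≠ ⊤) (h4 : FourIn X) {g c : Ω}
    (hg : g ∈ centres Ω X) (hc : c ∈ centres Ω X) (hne : c ≠ g) :
    Good (centresPerm Ω X).range (centres Ω X) := by
  haveI : Finite (centresPerm Ω X).range := Finite.of_surjective _ (MonoidHom.rangeRestrict_surjective _)
  refine hB (centresPerm Ω X).range (centres Ω X) (oneFix_centres hC h4 hg hc hne) ?_
  have h1 : Nat.card (centresPerm Ω X).range ≤ Nat.card X :=
    Nat.card_le_card_of_surjective _ (MonoidHom.rangeRestrict_surjective _)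
  have h2 : Nat.card X < Nat.card G :=
    lt_of_le_of_ne (Subgroup.card_le_card_group X) fun e => hX ((Subgroup.card_eq_iff_eq_top X).mp e)
  omega

/-- L2, four group: inverted odd elements fixing the centre fix every centre. -/
theorem inverted_fix_centres (hB : Below.{u} (Nat.card G)) {X : Subgroup G} (hX : X ≠ ⊤) (h4 : FourIn X)
    {u : G} (hu : IsInv u) (huX : u ∈ X) {g : Ω} (hug : u • g = g) (hc : ∃ c ∈ centres Ω X, c ≠ g) {x : G}
    (hxX : x ∈ X) (hxg : x • g = g) (hxu : u * x * u = x⁻¹) (hodd : Odd (orderOf x)) {d : Ω}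
    (hd : d ∈ centres Ω X) : x • d = d := by
  obtain ⟨c, hc, hcg⟩ := hc
  have hg := mem_centres huX hu hug
  set φ := centresPerm Ω X
  haveI : Finite φ.range := Finite.of_surjective _ (MonoidHom.rangeRestrict_surjective φ)
  obtain ⟨t, Q, hS, hQ⟩ := good_centres hC hB hX h4 hg hc hcg ⟨g, hg⟩
  have hfix : ∀ z : X, (z : G) • g = g → (⟨φ z, z, rfl⟩ : φ.range) ∈ stabilizer φ.range (⟨g, hg⟩ : centres Ω X) :=
    fun z hz => mem_stabilizer_iff.mpr (Subtype.ext hz)
  set U : φ.range := ⟨φ ⟨u, huX⟩, _, rfl⟩ with hUdef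
  set Xb : φ.range := ⟨φ ⟨x, hxX⟩, _, rfl⟩ with hXdef
  have hU : U ∈ stabilizer φ.range (⟨g, hg⟩ : centres Ω X) := hfix _ hug
  have hXb := hfix ⟨x, hxX⟩ hxg
  have hU2 : U * U = 1 := by
    apply Subtype.ext
    show φ _ * φ _ = 1
    rw [← map_mul, show (⟨u, huX⟩ : X) * ⟨u, huX⟩ = 1 from Subtype.ext hu.2, map_one]
  have hUinv : U⁻¹ = U := inv_eq_of_mul_eq_one_right hU2
  have hUX : U * Xb * U = Xb⁻¹ := by
    apply Subtype.ext
    show φ _ * φ _ * φ _ = (φ _)⁻¹
    rw [← map_mul, ← map_mul, ← map_inv,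
      show (⟨u, huX⟩ : X) * ⟨x, hxX⟩ * ⟨u, huX⟩ = (⟨x, hxX⟩ : X)⁻¹ from Subtype.ext hxu]
  haveI : Fact (Nat.Prime 2) := ⟨Nat.prime_two⟩
  set P := stabilizer φ.range (⟨g, hg⟩ : centres Ω X) with hP
  have hQP : Q ≤ P := hS.le
  haveI : (Q.subgroupOf P).Normal := ⟨fun n hn h => hS.conj_mem h h.2 n hn⟩
  have hUQ : U ∈ Q := by
    set D := P ⊓ stabilizer φ.range (t • (⟨g, hg⟩ : centres Ω X))
    have hmem := hU
    rw [hP, ← hS.sup_eq, sup_comm] at hmem
    have hDN : D ≤ Subgroup.normalizer (Q : Set φ.range) := fun d hd => Subgroup.mem_normalizer_iff.mpr fun n =>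
      ⟨fun hn => hS.conj_mem d hd.1 n hn, fun hn => by
        simpa [mul_assoc] using hS.conj_mem d⁻¹ (inv_mem hd.1) _ hn⟩
    rw [← SetLike.mem_coe, Subgroup.coe_mul_of_left_le_normalizer_right _ _ hDN] at hmem
    obtain ⟨d, hd, q, hq, hdq⟩ := hmem
    have hd2 : d * d ∈ Q := by
      have h1 : d * d * (d⁻¹ * q * d⁻¹⁻¹) * q = 1 := by rw [← hU2, ← hdq]; group
      have h2 : d⁻¹ * q * d⁻¹⁻¹ ∈ Q := hS.conj_mem _ (inv_mem hd.1) q hq
      have h3 : d * d = q⁻¹ * (d⁻¹ * q * d⁻¹⁻¹)⁻¹ := by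
        rw [← mul_inv_rev, eq_inv_iff_mul_eq_one, ← mul_assoc, h1]
      rw [h3]
      exact mul_mem (inv_mem hq) (inv_mem h2)
    obtain ⟨k, hk⟩ := CfsgLib.Involutions.exists_sqrt (odd_orderOf hS.odd_card hd)
    have hdQ : d ∈ Q := by
      rw [← hk, ← (Commute.refl d).mul_pow]
      exact pow_mem hd2 k
    rw [← hdq]
    exact mul_mem hdQ hq
  have hc' : Xb * Xb ∈ Q := by
    have h1 : Xb * U * Xb⁻¹ ∈ Q := hS.conj_mem _ hXb _ hUQ
    have h2 : Xb * U * Xb⁻¹ * U = Xb * Xb := by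
      calc Xb * U * Xb⁻¹ * U = Xb * (U * (U * Xb * U) * U) := by rw [hUX]; group
        _ = Xb * ((U * U) * Xb * (U * U)) := by group
        _ = Xb * Xb := by rw [hU2, one_mul, mul_one]
    rw [← h2]
    exact mul_mem h1 hUQ
  have hodd' : Odd (orderOf Xb) := by
    refine hodd.of_dvd_nat ?_
    have h1 : orderOf (⟨x, hxX⟩ : X) = orderOf x := by rw [← Subgroup.orderOf_coe]
    rw [← h1]
    exact orderOf_map_dvd φ.rangeRestrict ⟨x, hxX⟩
  obtain ⟨k, hk⟩ := CfsgLib.Involutions.exists_sqrt hodd'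
  have hXQ : Xb ∈ Q := by
    rw [← hk, ← (Commute.refl Xb).mul_pow]
    exact pow_mem hc' k
  have hone : Xb = 1 := by
    obtain ⟨i, hi⟩ := hQ ⟨Xb, hXQ⟩
    have hi' : Xb ^ 2 ^ i = 1 := congrArg Subtype.val hi
    have := Nat.eq_one_of_dvd_coprimes (Nat.Coprime.pow_left i (Nat.coprime_two_left.2 hodd'))
      (orderOf_dvd_of_pow_eq_one hi') dvd_rfl
    exact orderOf_eq_one_iff.mp this
  exact centresPerm_eq_one (x := ⟨x, hxX⟩) (congrArg Subtype.val hone) hd

/-- L2, no four group: one further centre is fixed by all inverted odd elements fixing the centre. -/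
theorem inverted_fix_one {X : Subgroup G} (h4 : ¬ FourIn X) {u : G} (hu : IsInv u) (huX : u ∈ X) {g : Ω}
    (hug : u • g = g) (hc : ∃ c ∈ centres Ω X, c ≠ g) :
    ∃ c : Ω, c ≠ g ∧ ∀ x ∈ X, x • g = g → u * x * u = x⁻¹ → Odd (orderOf x) → x • c = c := by
  obtain ⟨c₀, hc₀, hc₀g⟩ := hc
  have hg := mem_centres huX hu hug
  obtain ⟨N, hNX, hXN, hNodd, hNu⟩ := exists_oddCore hC h4 hu huX
  haveI : Group.IsSolvable N := Cfsg.Agent.S0205.result hNodd
  let ψ : N →* Equiv.Perm (centres Ω X) := (centresPerm Ω X).comp (Subgroup.inclusion hNX)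
  have hψ : ∀ (n : N) {d : Ω}, d ∈ centres Ω X → ψ n = 1 → (n : G) • d = d := fun n d hd e =>
    centresPerm_eq_one (x := Subgroup.inclusion hNX n) e hd
  -- `N` moves `g`
  have hmove : ∃ n : N, (n : G) • g ≠ g := by
    obtain ⟨w, hwX, hw, hwg⟩ := centres_swap hC hg hc₀ (Ne.symm hc₀g)
    refine ⟨⟨_, hNu w hwX⟩, fun e => ?_⟩
    have e' : (u * w * u * w⁻¹) • g = g := e
    rw [mul_smul, mul_smul, mul_smul, hw.inv, hwg] at e'
    have h1 : u • c₀ ≠ c₀ := fun h => hc₀g (eq_of_fix hC hu h hug)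
    have h2 : w • u • c₀ = g := by
      have := congrArg (u • ·) e'
      simpa [hu.smul_twice, hug] using this
    refine h1 ?_
    have := congrArg (w • ·) h2
    simpa [hw.smul_twice, hwg] using this
  haveI : Group.IsSolvable ψ.range := Group.isSolvable_of_surjective (MonoidHom.rangeRestrict_surjective ψ)
  obtain ⟨n, hn⟩ := (Group.isSolvable_def ψ.range).mp inferInstance
  classical
  -- the last derived term moving `g`
  have hex : ∃ k, ∀ m : N, ψ.rangeRestrict m ∈ derivedSeries ψ.range k → (m : G) • g = g :=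
    ⟨n, fun m hm => by rw [hn, Subgroup.mem_bot] at hm; exact hψ m hg (congrArg Subtype.val hm)⟩
  set k := Nat.find hex
  have hk := Nat.find_spec hex
  have hk0 : k ≠ 0 := fun e => by
    obtain ⟨m, hm⟩ := hmove
    refine hm (hk m ?_)
    rw [show Nat.find hex = 0 from e, derivedSeries_zero]
    exact Subgroup.mem_top _
  obtain ⟨j, hj⟩ := Nat.exists_eq_succ_of_ne_zero hk0
  have hnot : ¬ ∀ m : N, ψ.rangeRestrict m ∈ derivedSeries ψ.range j → (m : G) • g = g :=
    Nat.find_min hex (by change j < k; omega)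
  push Not at hnot
  obtain ⟨t, htj, htg⟩ := hnot
  -- members of `derivedSeries k` act trivially on the centres
  have htriv : ∀ m : N, ψ.rangeRestrict m ∈ derivedSeries ψ.range k → ∀ d ∈ centres Ω X, (m : G) • d = d := by
    intro m hm d hd
    rcases eq_or_ne g d with rfl | hne
    · exact hk m hm
    · obtain ⟨w, hwX, hw, rfl⟩ := centres_swap hC hg hd hne
      have hwm : w * (m : G) * w⁻¹ ∈ N := (Subgroup.mem_normalizer_iff.mp (hXN hwX) _).mp m.2
      set w' := centresPerm Ω X ⟨w, hwX⟩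
      have hconj : ψ ⟨_, hwm⟩ = w' * ψ m * w'⁻¹ := by
        show centresPerm Ω X _ = _ * centresPerm Ω X _ * _
        rw [← map_inv, ← map_mul, ← map_mul]
        rfl
      have hnorm : ∀ r : ψ.range, w' * (r : Equiv.Perm _) * w'⁻¹ ∈ ψ.range := by
        rintro ⟨_, m', rfl⟩
        refine ⟨⟨w * (m' : G) * w⁻¹, (Subgroup.mem_normalizer_iff.mp (hXN hwX) _).mp m'.2⟩, ?_⟩
        show centresPerm Ω X _ = _ * centresPerm Ω X _ * _
        rw [← map_inv, ← map_mul, ← map_mul]
        rfl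
      let f : ψ.range →* ψ.range :=
        { toFun := fun r => ⟨w' * r * w'⁻¹, hnorm r⟩
          map_one' := Subtype.ext (by simp)
          map_mul' := fun r s => Subtype.ext (by simp [mul_assoc]) }
      have hf : f (ψ.rangeRestrict m) ∈ derivedSeries ψ.range k :=
        map_derivedSeries_le_derivedSeries f k ⟨_, hm, rfl⟩
      have he : f (ψ.rangeRestrict m) = ψ.rangeRestrict ⟨_, hwm⟩ := Subtype.ext hconj.symm
      rw [he] at hf
      have h1 : (w * (m : G) * w⁻¹) • g = g := hk _ hf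
      rw [hw.inv, mul_smul, mul_smul] at h1
      calc (m : G) • w • g = w • w • (m : G) • w • g := (hw.smul_twice _).symm
        _ = w • g := by rw [h1]
  refine ⟨(t : G) • g, htg, fun x hxX hxg hxu hxodd => ?_⟩
  -- elements of the term commute on the centres
  have hcomm : ∀ m m' : N, ψ.rangeRestrict m ∈ derivedSeries ψ.range j →
      ψ.rangeRestrict m' ∈ derivedSeries ψ.range j → ∀ d ∈ centres Ω X, ((m : G) * m') • d = ((m' : G) * m) • d := by
    intro m m' hm hm' d hd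
    have h1 : ψ.rangeRestrict (m * m' * m⁻¹ * m'⁻¹) ∈ derivedSeries ψ.range k := by
      rw [show k = j + 1 from hj, derivedSeries_succ, map_mul, map_mul, map_mul, map_inv, map_inv,
        ← commutatorElement_def]
      exact Subgroup.commutator_mem_commutator hm hm'
    have h2 := htriv _ h1 (((m' : G) * m) • d)
      (centres_smul (mul_mem (hNX m'.2) (hNX m.2)) hd)
    push_cast at h2
    rw [← mul_smul] at h2
    calc ((m : G) * m') • d = ((m : G) * m' * (m : G)⁻¹ * (m' : G)⁻¹ * ((m' : G) * m)) • d := by group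
      _ = ((m' : G) * m) • d := h2
  -- conjugates of `t`
  have hconjj : ∀ (z : G) (hz : z ∈ X), ∀ m : N, ψ.rangeRestrict m ∈ derivedSeries ψ.range j →
      ∃ m' : N, (m' : G) = z * m * z⁻¹ ∧ ψ.rangeRestrict m' ∈ derivedSeries ψ.range j := by
    intro z hz m hm
    have hzm : z * (m : G) * z⁻¹ ∈ N := (Subgroup.mem_normalizer_iff.mp (hXN hz) _).mp m.2
    refine ⟨⟨_, hzm⟩, rfl, ?_⟩
    set z' := centresPerm Ω X ⟨z, hz⟩
    have hnorm : ∀ r : ψ.range, z' * (r : Equiv.Perm _) * z'⁻¹ ∈ ψ.range := by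
      rintro ⟨_, m', rfl⟩
      refine ⟨⟨z * (m' : G) * z⁻¹, (Subgroup.mem_normalizer_iff.mp (hXN hz) _).mp m'.2⟩, ?_⟩
      show centresPerm Ω X _ = _ * centresPerm Ω X _ * _
      rw [← map_inv, ← map_mul, ← map_mul]
      rfl
    let f : ψ.range →* ψ.range :=
      { toFun := fun r => ⟨z' * r * z'⁻¹, hnorm r⟩
        map_one' := Subtype.ext (by simp)
        map_mul' := fun r s => Subtype.ext (by simp [mul_assoc]) }
    have hf : f (ψ.rangeRestrict m) ∈ derivedSeries ψ.range j :=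
      map_derivedSeries_le_derivedSeries f j ⟨_, hm, rfl⟩
    have he : f (ψ.rangeRestrict m) = ψ.rangeRestrict ⟨_, hzm⟩ := by
      refine Subtype.ext ?_
      show _ * centresPerm Ω X _ * _ = centresPerm Ω X _
      rw [← map_inv, ← map_mul, ← map_mul]
      rfl
    rwa [he] at hf
  obtain ⟨t', ht', ht'j⟩ := hconjj u huX t htj
  rw [hu.inv] at ht'
  -- `u • t • g = t⁻¹ • g`
  have hflip : ∀ m m' : N, ψ.rangeRestrict m ∈ derivedSeries ψ.range j →
      ψ.rangeRestrict m' ∈ derivedSeries ψ.range j → (m' : G) = u * m * u → (m' : G) • g = (m : G)⁻¹ • g := by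
    intro m m' hm hm' he
    have h1 : u • ((m : G) * m') • g = ((m : G) * m') • g := by
      rw [← mul_smul]
      calc (u * ((m : G) * m')) • g = ((u * m * u) * (u * m' * u)) • u • g := by
            rw [← mul_smul]
            congr 1
            calc u * ((m : G) * m') = u * m * (u * u) * m' * (u * u) := by rw [hu.2, mul_one, mul_one, mul_assoc]
              _ = _ := by group
        _ = ((m' : G) * m) • g := by
            rw [hug, he, show u * (u * (m : G) * u) * u = m by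
              calc u * (u * (m : G) * u) * u = (u * u) * m * (u * u) := by group
                _ = m := by rw [hu.2, one_mul, mul_one]]
        _ = ((m : G) * m') • g := (hcomm m m' hm hm' g hg).symm
    have h2 := eq_of_fix hC hu h1 hug
    rw [mul_smul] at h2
    rw [eq_inv_smul_iff]
    exact h2
  obtain ⟨s, hs, hsj⟩ := hconjj x hxX t htj
  obtain ⟨s', hs', hs'j⟩ := hconjj u huX s hsj
  rw [hu.inv] at hs'
  have hs'i : ψ.rangeRestrict s⁻¹ ∈ derivedSeries ψ.range j := by rw [map_inv]; exact inv_mem hsj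
  obtain ⟨t'', ht'', ht''j⟩ := hconjj u huX t htj
  rw [hu.inv] at ht''
  have hxsmul : x • (t : G) • g = (s : G) • g := by
    rw [hs, mul_smul, mul_smul, inv_smul_eq_iff.mpr hxg.symm]
  have hut : u • (t : G) • g = (t : G)⁻¹ • g := by
    rw [← hflip t t'' htj ht''j ht'', ht'', mul_smul, mul_smul, hug]
  have husinv : u • (s : G)⁻¹ • g = (s : G) • g := by
    have h1 := hflip s s' hsj hs'j hs'
    rw [← h1, hs', mul_smul, mul_smul, hug, hu.smul_twice]
  have h3 : x⁻¹ • (t : G) • g = x • (t : G) • g := by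
    rw [← hxu, mul_smul, mul_smul, hut, hxsmul, ← husinv]
    congr 1
    rw [hs, show (x * (t : G) * x⁻¹)⁻¹ = x * (t : G)⁻¹ * x⁻¹ by group, mul_smul, mul_smul,
      inv_smul_eq_iff.mpr hxg.symm]
  have h4' : (x * x) • (t : G) • g = (t : G) • g := by
    rw [mul_smul, ← h3, smul_inv_smul]
  obtain ⟨i, hi⟩ := CfsgLib.Involutions.exists_sqrt hxodd
  rw [← hi, ← (Commute.refl x).mul_pow]
  exact Subgroup.pow_mem (stabilizer G ((t : G) • g)) (mem_stabilizer_iff.mpr h4') i

end CfsgLib.Bender.B1
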