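import Cfsg.Agent.Lib.Involutions
import Cfsg.Agent.Lib.Basic

/-!
Elements inverted by an involution acting on a `p`-group whose fixed points they centralise.

Blueprint: `blueprint/bender/A6.md`, step P2.
-/

set_option autoImplicit false
set_option linter.unusedSectionVars false
set_option linter.style.haveILetI false

namespace CfsgLib.Bender.B1

universe u

variable {G : Type u} [Group G]

/-- Conjugation by an involution as it is written in this development. -/
theorem invol_inv {u : G} (hu : u * u = 1) : u⁻¹ = u := inv_eq_of_mul_eq_one_right hu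

theorem invol_conj_mul {u : G} (hu : u * u = 1) (x y : G) : u * (x * y) * u = (u * x * u) * (u * y * u) := by
  calc u * (x * y) * u = u * x * (u * u) * (y * u) := by rw [hu]; group
    _ = (u * x * u) * (u * y * u) := by group

theorem invol_conj_inv {u : G} (hu : u * u = 1) (x : G) : u * x⁻¹ * u = (u * x * u)⁻¹ := by
  rw [mul_inv_rev, mul_inv_rev, invol_inv hu, mul_assoc]

theorem invol_conj_conj {u : G} (hu : u * u = 1) (x : G) : u * (u * x * u) * u = x := by
  calc u * (u * x * u) * u = (u * u) * x * (u * u) := by group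
    _ = x := by rw [hu, one_mul, mul_one]

/-- Every element of an odd order group with an involution acting is fixed times inverted. -/
theorem exists_fix_mul_inverted {u n : G} (hu : u * u = 1) (hodd : Odd (orderOf (n⁻¹ * (u * n * u)))) :
    ∃ k : ℕ, u * ((n⁻¹ * (u * n * u)) ^ k) * u = ((n⁻¹ * (u * n * u)) ^ k)⁻¹ ∧
      u * (n * (n⁻¹ * (u * n * u)) ^ k) * u = n * (n⁻¹ * (u * n * u)) ^ k := by
  set m := n⁻¹ * (u * n * u) with hm
  obtain ⟨k, hk⟩ := CfsgLib.Involutions.exists_sqrt hodd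
  have h1 : u * m * u = m⁻¹ := by
    rw [hm, invol_conj_mul hu, invol_conj_conj hu, invol_conj_inv hu]
    group
  have h2 : u * m ^ k * u = (m ^ k)⁻¹ := by
    have h3 := conj_pow (i := k) (a := u) (b := m)
    rw [invol_inv hu] at h3
    rw [← h3, h1, inv_pow]
  refine ⟨k, h2, ?_⟩
  rw [invol_conj_mul hu, h2]
  calc u * n * u * (m ^ k)⁻¹ = n * m * (m ^ k)⁻¹ := by rw [hm]; group
    _ = n * ((m ^ k * m ^ k) * (m ^ k)⁻¹) := by rw [hk, mul_assoc]
    _ = n * m ^ k := by rw [mul_inv_cancel_right]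

theorem commute_of_inverted_fixed {u x c : G} (hu : u * u = 1) (hx : u * x * u = x⁻¹) (hodd : Odd (orderOf x))
    (hc : u * c * u = c) (hxc : u * (x * c * x⁻¹) * u = x * c * x⁻¹) : x * c = c * x := by
  rw [invol_conj_mul hu, invol_conj_mul hu, hx, hc, invol_conj_inv hu, hx, inv_inv] at hxc
  have h2 : Commute (x * x) c := by
    show x * x * c = c * (x * x)
    calc x * x * c = x * (x * c * x⁻¹) * x := by group
      _ = x * (x⁻¹ * c * x) * x := by rw [hxc]
      _ = c * (x * x) := by group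
  obtain ⟨k, hk⟩ := CfsgLib.Involutions.exists_sqrt hodd
  have h3 := h2.pow_left k
  rw [(Commute.refl x).mul_pow, hk] at h3
  exact h3.eq

variable [Finite G]

/-- An element of order prime to `p` acting trivially on `Q` and modulo `Q` centralises. -/
theorem commute_of_stabilised {p : ℕ} {Q : Subgroup G} (hQ : IsPGroup p Q) {x n : G}
    (hcop : (orderOf x).Coprime p) (hQx : ∀ q ∈ Q, x * q = q * x) (h : x * n * x⁻¹ * n⁻¹ ∈ Q) :
    x * n = n * x := by
  set q := x * n * x⁻¹ * n⁻¹ with hq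
  have hxq : Commute x q := hQx q h
  have hn : ∀ k : ℕ, x ^ k * n * (x ^ k)⁻¹ = q ^ k * n := by
    intro k
    induction k with
    | zero => simp
    | succ k ih =>
      calc x ^ (k + 1) * n * (x ^ (k + 1))⁻¹ = x * (x ^ k * n * (x ^ k)⁻¹) * x⁻¹ := by rw [pow_succ']; group
        _ = (x * q ^ k) * n * x⁻¹ := by rw [ih]; group
        _ = q ^ k * (x * n * x⁻¹) := by rw [(hxq.pow_right k).eq]; group
        _ = q ^ (k + 1) * n := by rw [pow_succ, hq]; group
  have h1 : q ^ orderOf x = 1 := by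
    have := hn (orderOf x)
    rw [pow_orderOf_eq_one, one_mul, inv_one, mul_one] at this
    exact mul_eq_right.mp this.symm
  have h2 : q = 1 := by
    obtain ⟨k, hk⟩ := hQ ⟨q, h⟩
    have hk' : q ^ p ^ k = 1 := congrArg Subtype.val hk
    have hd := Nat.dvd_gcd (orderOf_dvd_of_pow_eq_one h1) (orderOf_dvd_of_pow_eq_one hk')
    rw [(hcop.pow_right k).gcd_eq_one] at hd
    exact orderOf_eq_one_iff.mp (Nat.dvd_one.mp hd)
  rw [hq, mul_inv_eq_one, mul_inv_eq_iff_eq_mul] at h2
  exact h2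

/-- If the fixed points of `u` on the `l`-group `P` are centralised by `X`, which is generated by odd order
elements inverted by `u`, then the elements of order prime to `l` in `X` centralise `P`. -/
theorem inverted_centralize {l : ℕ} [Fact l.Prime] {P : Subgroup G} (hP : IsPGroup l P)
    (hPodd : Odd (Nat.card P)) {u : G} (hu : u * u = 1) (huP : u ∈ Subgroup.normalizer (P : Set G)) (S : Set G)
    (hS : ∀ x ∈ S, u * x * u = x⁻¹ ∧ Odd (orderOf x) ∧ x ∈ Subgroup.normalizer (P : Set G))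
    (hfix : ∀ c ∈ P, u * c * u = c → ∀ x ∈ S, x * c = c * x) :
    ∀ x ∈ Subgroup.closure S, (orderOf x).Coprime l → ∀ c ∈ P, x * c = c * x := by
  set X := Subgroup.closure S with hX
  set T : Set G := {x | x ∈ X ∧ (orderOf x).Coprime l} with hT
  set Q : Subgroup G := P ⊓ Subgroup.centralizer T with hQ
  suffices h : Q = P by
    intro x hx hcop c hc
    rw [← h] at hc
    exact hc.2 x ⟨hx, hcop⟩
  have hXn : X ≤ Subgroup.normalizer (P : Set G) := (Subgroup.closure_le _).mpr fun x hx => (hS x hx).2.2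
  have hXu : ∀ x ∈ X, u * x * u ∈ X := by
    intro x hx
    induction hx using Subgroup.closure_induction with
    | mem y hy => rw [(hS y hy).1]; exact inv_mem (Subgroup.subset_closure hy)
    | one => rw [mul_one, hu]; exact one_mem _
    | mul y z _ _ hy hz => rw [invol_conj_mul hu]; exact mul_mem hy hz
    | inv y _ hy => rw [invol_conj_inv hu]; exact inv_mem hy
  have huT : ∀ x ∈ T, u * x * u ∈ T := fun x hx => ⟨hXu x hx.1, by
    have h1 := CfsgLib.Involutions.orderOf_conj u x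
    rw [invol_inv hu] at h1
    rw [h1]
    exact hx.2⟩
  have huQ : ∀ q ∈ Q, u * q * u ∈ Q := fun q hq => by
    refine ⟨?_, fun x hx => ?_⟩
    · have := (Subgroup.mem_normalizer_iff.mp huP q).mp hq.1
      rwa [invol_inv hu] at this
    · have h1 : u * x * u * q = q * (u * x * u) := hq.2 _ (huT x hx)
      have h2 := congrArg (fun z => u * z * u) h1
      simp only [invol_conj_mul hu (u * x * u) q, invol_conj_mul hu q (u * x * u), invol_conj_conj hu] at h2
      exact h2
  have hXQ : ∀ x ∈ X, ∀ q ∈ Q, x * q * x⁻¹ ∈ Q := fun x hx q hq => by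
    refine ⟨(Subgroup.mem_normalizer_iff.mp (hXn hx) q).mp hq.1, fun y hy => ?_⟩
    have h1 : x⁻¹ * y * x * q = q * (x⁻¹ * y * x) := hq.2 (x⁻¹ * y * x) ⟨mul_mem (mul_mem (inv_mem hx) hy.1) hx, by
      have h3 := CfsgLib.Involutions.orderOf_conj x⁻¹ y
      rw [inv_inv] at h3
      rw [h3]
      exact hy.2⟩
    calc y * (x * q * x⁻¹) = x * ((x⁻¹ * y * x) * q) * x⁻¹ := by group
      _ = x * (q * (x⁻¹ * y * x)) * x⁻¹ := by rw [h1]
      _ = x * q * x⁻¹ * y := by group
  have hcQ : ∀ c ∈ P, u * c * u = c → c ∈ Q := fun c hc hfx => by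
    refine ⟨hc, fun x hx => ?_⟩
    have h1 : x ∈ Subgroup.centralizer ({c} : Set G) := (Subgroup.closure_le _).mpr
      (fun y hy => Subgroup.mem_centralizer_singleton_iff.mpr (hfix c hc hfx y hy)) hx.1
    exact Subgroup.mem_centralizer_singleton_iff.mp h1
  by_contra hne
  have hQP : Q ≤ P := inf_le_left
  have hlt : Q.subgroupOf P < ⊤ :=
    lt_of_le_of_ne le_top fun e => hne (le_antisymm hQP (Subgroup.subgroupOf_eq_top.mp e))
  haveI : Group.IsNilpotent P := hP.isNilpotent
  have hgt := Group.normalizerCondition_of_isNilpotent (Q.subgroupOf P) hlt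
  obtain ⟨n, hnN, hnQ⟩ := SetLike.exists_of_lt hgt
  refine hnQ ?_
  rw [Subgroup.mem_subgroupOf]
  -- the elements of `P` normalising `Q`
  have hN : ∀ {m : G}, m ∈ P ⊓ Subgroup.normalizer (Q : Set G) ↔ m ∈ P ∧ ∀ q, q ∈ Q ↔ m * q * m⁻¹ ∈ Q :=
    fun {m} => by rw [Subgroup.mem_inf, Subgroup.mem_normalizer_iff]
  set N := P ⊓ Subgroup.normalizer (Q : Set G) with hNdef
  have hnN' : (n : G) ∈ N := by
    refine hN.mpr ⟨n.2, fun q => ⟨fun hq => ?_, fun hq => ?_⟩⟩
    · exact (Subgroup.mem_normalizer_iff.mp hnN ⟨q, hQP hq⟩).mp hq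
    · have hqP : q ∈ P := by simpa [mul_assoc] using mul_mem (mul_mem (inv_mem n.2) (hQP hq)) n.2
      exact (Subgroup.mem_normalizer_iff.mp hnN ⟨q, hqP⟩).mpr hq
  have hQn : ∀ m ∈ N, ∀ q ∈ Q, m * q * m⁻¹ ∈ Q := fun m hm q hq => ((hN.mp hm).2 q).mp hq
  have hXN : ∀ x ∈ X, ∀ m ∈ N, x * m * x⁻¹ ∈ N := fun x hx m hm => by
    refine hN.mpr ⟨(Subgroup.mem_normalizer_iff.mp (hXn hx) m).mp hm.1, fun q => ⟨fun hq => ?_, fun hq => ?_⟩⟩
    · have h0 : x⁻¹ * q * x ∈ Q := by simpa using hXQ x⁻¹ (inv_mem hx) q hq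
      have := hXQ x hx _ (hQn m hm _ h0)
      simpa [mul_assoc] using this
    · have h0 : x⁻¹ * (x * m * x⁻¹ * q * (x * m * x⁻¹)⁻¹) * x ∈ Q := by simpa using hXQ x⁻¹ (inv_mem hx) _ hq
      have h1 := hQn m⁻¹ (inv_mem hm) _ h0
      have := hXQ x hx _ h1
      simpa [mul_assoc] using this
  have huN : ∀ m ∈ N, u * m * u ∈ N := fun m hm => by
    refine hN.mpr ⟨?_, fun q => ⟨fun hq => ?_, fun hq => ?_⟩⟩
    · have := (Subgroup.mem_normalizer_iff.mp huP m).mp hm.1
      rwa [invol_inv hu] at this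
    · have := huQ _ (hQn m hm _ (huQ q hq))
      rw [invol_conj_mul hu, invol_conj_mul hu, invol_conj_conj hu, invol_conj_inv hu] at this
      exact this
    · have := huQ _ (hQn m⁻¹ (inv_mem hm) _ (huQ _ hq))
      rw [invol_conj_mul hu, invol_conj_mul hu, invol_conj_conj hu, inv_inv, invol_conj_inv hu] at this
      simpa [mul_assoc] using this
  -- `u` inverts `N / Q`
  have hinv : ∀ m ∈ N, m * (u * m * u) ∈ Q := by
    intro m hm
    have hd : m⁻¹ * (u * m * u) ∈ N := mul_mem (inv_mem hm) (huN m hm)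
    obtain ⟨k, hk1, hk2⟩ := exists_fix_mul_inverted (n := m) hu
      (hPodd.of_dvd_nat (Subgroup.orderOf_dvd_natCard P hd.1))
    set s := (m⁻¹ * (u * m * u)) ^ k
    have hc : m * s ∈ Q := hcQ _ (mul_mem hm.1 (pow_mem hd k).1) hk2
    have hs : s ∈ N := pow_mem hd k
    have hus : u * s⁻¹ * u = s := by rw [invol_conj_inv hu, hk1, inv_inv]
    have e : m * (u * m * u) = (m * s) * (s⁻¹ * (u * (m * s) * u) * s) := by
      calc m * (u * m * u) = m * (u * ((m * s) * s⁻¹) * u) := by rw [mul_inv_cancel_right]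
        _ = m * (u * (m * s) * u * s) := by rw [invol_conj_mul hu (m * s) s⁻¹, hus]
        _ = (m * s) * (s⁻¹ * (u * (m * s) * u) * s) := by group
    rw [e]
    exact mul_mem hc (by simpa using hQn s⁻¹ (inv_mem hs) _ (huQ _ hc))
  -- the elements acting trivially on `N / Q`
  let K : Subgroup G :=
    { carrier := {y | y ∈ X ∧ ∀ m ∈ N, y * m * y⁻¹ * m⁻¹ ∈ Q}
      one_mem' := ⟨one_mem _, fun m _ => by simp⟩
      mul_mem' := by
        rintro y z ⟨hy, hy'⟩ ⟨hz, hz'⟩
        refine ⟨mul_mem hy hz, fun m hm => ?_⟩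
        rw [show y * z * m * (y * z)⁻¹ * m⁻¹ = y * (z * m * z⁻¹ * m⁻¹) * y⁻¹ * (y * m * y⁻¹ * m⁻¹) by group]
        exact mul_mem (hXQ y hy _ (hz' m hm)) (hy' m hm)
      inv_mem' := by
        rintro y ⟨hy, hy'⟩
        refine ⟨inv_mem hy, fun m hm => ?_⟩
        rw [show y⁻¹ * m * y⁻¹⁻¹ * m⁻¹ = y⁻¹ * (y * m * y⁻¹ * m⁻¹)⁻¹ * y⁻¹⁻¹ by group]
        exact hXQ _ (inv_mem hy) _ (inv_mem (hy' m hm)) }
  have hXK : X ≤ K := by
    refine (Subgroup.closure_le _).mpr fun x hx => ?_
    obtain ⟨hxu, hxodd, -⟩ := hS x hx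
    have hxX : x ∈ X := Subgroup.subset_closure hx
    have h2 : x * x ∈ K := by
      refine ⟨mul_mem hxX hxX, fun m hm => ?_⟩
      have hwN : u * m * u ∈ N := huN m hm
      have e1 : x * m * x⁻¹ * (x⁻¹ * (u * m * u) * x) ∈ Q := by
        have := hinv _ (hXN x hxX m hm)
        rwa [invol_conj_mul hu, invol_conj_mul hu, hxu, invol_conj_inv hu, hxu, inv_inv] at this
      have e2 : x⁻¹ * (m * (u * m * u))⁻¹ * x ∈ Q := by
        simpa using hXQ _ (inv_mem hxX) _ (inv_mem (hinv m hm))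
      have e3 : x * m * x⁻¹ * (x⁻¹ * m⁻¹ * x) ∈ Q := by
        have := mul_mem e1 e2
        simpa [mul_assoc] using this
      have := hXQ x hxX _ e3
      simpa [mul_assoc] using this
    obtain ⟨k, hk⟩ := CfsgLib.Involutions.exists_sqrt hxodd
    rw [← hk, ← (Commute.refl x).mul_pow]
    exact pow_mem h2 k
  exact ⟨n.2, fun x hx => commute_of_stabilised (hP.to_le hQP) hx.2 (fun q hq => hq.2 x hx)
    ((hXK hx.1).2 n hnN')⟩

end CfsgLib.Bender.B1
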