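import Cfsg.Agent.Lib.Bender.B1.Count
import Cfsg.Agent.Lib.Bender.B1.Layers

/-!
Lines: the points `r ^ n • g` for an element `r` inverted by an involution `u` at `g`.

Blueprint: `blueprint/bender/A6.md`, L4 and P1.
-/

set_option autoImplicit false
set_option linter.unusedSectionVars false
set_option linter.style.haveILetI false
set_option linter.unusedVariables false

namespace CfsgLib.Bender.B1

open MulAction CfsgLib.SuzukiRankOne
open CfsgLib.Bender.TwoClosed (IsInv InvAt Swap two mem_two smul_conj exists_inv_of_even odd_card_of_forall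
  odd_orderOf eq_one_of_inv_eq eq_one_of_two_odd)

universe u

variable {G : Type u} {Ω : Type u} [Group G] [MulAction G Ω]

/-- The pointwise stabiliser of the line of `g` and `r`. -/
def lineStab (g : Ω) (r : G) : Subgroup G := ⨅ n : ℤ, stabilizer G ((r ^ n) • g)

theorem mem_lineStab {g : Ω} {r x : G} : x ∈ lineStab g r ↔ ∀ n : ℤ, x • (r ^ n) • g = (r ^ n) • g := by
  simp [lineStab, Subgroup.mem_iInf]

theorem lineStab_fix {g : Ω} {r x : G} (hx : x ∈ lineStab g r) : x • g = g := by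
  simpa using mem_lineStab.mp hx 0

theorem le_lineStab {g : Ω} {r : G} {C : Subgroup G} (hr : r ∈ Subgroup.normalizer (C : Set G))
    (hC : ∀ x ∈ C, x • g = g) : C ≤ lineStab g r := fun x hx => mem_lineStab.mpr fun n => by
  have h := hC _ ((Subgroup.mem_normalizer_iff''.mp (zpow_mem hr n) x).mp hx)
  rwa [mul_smul, mul_smul, inv_smul_eq_iff] at h

/-- The elements of the line stabiliser inverted by `u`. -/
def kerLine (u : G) (g : Ω) (r : G) : Set G := {x | x ∈ lineStab g r ∧ u * x * u = x⁻¹}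

/-- A line carrying `e` inverted elements. -/
structure Line (e : ℕ) (u : G) (g : Ω) (r : G) : Prop where
  inv : IsInv u
  fix : u • g = g
  rinv : u * r * u = r⁻¹
  odd : Odd (orderOf r)
  move : r • g ≠ g
  ker : e ≤ (kerLine u g r).ncard

variable {e : ℕ} {u : G} {g : Ω} {r : G}

/-- No normal subgroup of the line stabiliser invariant under `u` and `r` has a four group in its normaliser. -/
def NoFourLine (u : G) (g : Ω) (r : G) : Prop :=
  ∀ Z : Subgroup G, Z ≠ ⊥ → Z ≤ lineStab g r → lineStab g r ≤ Subgroup.normalizer (Z : Set G) →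
    u ∈ Subgroup.normalizer (Z : Set G) → r ∈ Subgroup.normalizer (Z : Set G) →
    ¬ FourIn (Subgroup.normalizer (Z : Set G))

theorem rinv_zpow (h : Line e u g r) (n : ℤ) : u * r ^ n * u = r ^ (-n) := by
  have h1 := conj_zpow (i := n) (a := u) (b := r)
  rw [h.inv.inv] at h1
  rw [← h1, h.rinv, inv_zpow, ← zpow_neg]

theorem u_smul_line (h : Line e u g r) (n : ℤ) : u • (r ^ n) • g = (r ^ (-n)) • g := by
  rw [← rinv_zpow h n, mul_smul, mul_smul, h.fix]

theorem r_normalizer : r ∈ Subgroup.normalizer (lineStab g r : Set G) := by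
  refine Subgroup.mem_normalizer_iff.mpr fun x => ⟨fun hx => mem_lineStab.mpr fun n => ?_,
    fun hx => mem_lineStab.mpr fun n => ?_⟩
  · have h1 := mem_lineStab.mp hx (n - 1)
    rw [show r ^ n = r * r ^ (n - 1) by rw [← zpow_one_add, add_sub_cancel], mul_smul, mul_smul, mul_smul,
      inv_smul_smul, h1]
  · have h1 := mem_lineStab.mp hx (n + 1)
    rw [show r ^ (n + 1) = r * r ^ n by rw [← zpow_one_add, add_comm], mul_smul, mul_smul, mul_smul,
      inv_smul_smul] at h1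
    exact smul_left_cancel r h1

theorem u_normalizer (h : Line e u g r) : u ∈ Subgroup.normalizer (lineStab g r : Set G) := by
  have key : ∀ x ∈ lineStab g r, u * x * u ∈ lineStab g r := fun x hx => mem_lineStab.mpr fun n => by
    rw [mul_smul, mul_smul, u_smul_line h, mem_lineStab.mp hx (-n), u_smul_line h, neg_neg]
  refine Subgroup.mem_normalizer_iff.mpr fun x => ⟨fun hx => ?_, fun hx => ?_⟩
  · rw [h.inv.inv]; exact key x hx
  · have := key _ hx
    rwa [h.inv.inv, invol_conj_conj h.inv.2] at this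

theorem lineStab_le_two : lineStab g r ≤ two (r⁻¹ • g) (r • g) := fun x hx => mem_two.mpr
  ⟨by simpa using mem_lineStab.mp hx (-1), by simpa using mem_lineStab.mp hx 1⟩

theorem u_smul_two (h : Line e u g r) : u • r⁻¹ • g = r • g := by
  simpa using u_smul_line h (-1)

theorem line_ne (h : Line e u g r) : r⁻¹ • g ≠ r • g := by
  intro he
  refine h.move ?_
  have h2 : r * r ∈ stabilizer G g := by
    rw [mem_stabilizer_iff, mul_smul, ← he, smul_inv_smul]
  obtain ⟨k, hk⟩ := CfsgLib.Involutions.exists_sqrt h.odd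
  have h3 := Subgroup.pow_mem _ h2 k
  rw [(Commute.refl r).mul_pow, hk] at h3
  exact mem_stabilizer_iff.mp h3

variable (hC : OneFix G Ω) [Finite G]
include hC

theorem bad_odd {v : G} {a : Ω} (ha : a ≠ g) {x : G} (hx : x ∈ bad v g a) : Odd (orderOf x) :=
  odd_of_fix_two hC ha.symm hx.2.1 hx.2.2

theorem kerLine_odd (h : Line e u g r) {x : G} (hx : x ∈ lineStab g r) : Odd (orderOf x) :=
  odd_orderOf (odd_two hC (line_ne h)) (lineStab_le_two hx)

variable (hM : MaxBad G Ω e)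
include hM

/-- Every inverted element fixing the centre and a further point of the line fixes the line. -/
theorem bad_line (h : Line e u g r) {n : ℤ} (hn : (r ^ n) • g ≠ g) : bad u g ((r ^ n) • g) = kerLine u g r := by
  have hsub : kerLine u g r ⊆ bad u g ((r ^ n) • g) := fun x hx =>
    ⟨hx.2, lineStab_fix hx.1, mem_lineStab.mp hx.1 n⟩
  exact (Set.eq_of_subset_of_ncard_le hsub ((hM u g _ h.inv h.fix hn).trans h.ker) (Set.toFinite _)).symm

theorem bad_line_one (h : Line e u g r) : bad u g (r • g) = kerLine u g r := by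
  simpa using bad_line hC hM h (n := 1) (by simpa using h.move)

variable [FaithfulSMul G Ω] (hB : Below.{u} (Nat.card G)) (hnoL : ¬ LMember G Ω e)
include hB hnoL

theorem no_four_of_line (h : Line e u g r) {X : Subgroup G} (hX : X ≠ ⊤) (hY : lineStab g r ≤ X)
    (huX : u ∈ X) (hrX : r ∈ X) : ¬ FourIn X := by
  intro h4
  have hrc : r • g ∈ centres Ω X := centres_smul hrX (mem_centres huX h.inv h.fix)
  refine hnoL ⟨X, u, g, hX, h4, h.inv, huX, h.fix, ⟨_, hrc, h.move⟩, h.ker.trans (Set.ncard_le_ncard ?_)⟩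
  exact fun x hx => ⟨hY hx.1, hx.2, fun c hc => inverted_fix_centres hC hB hX h4 h.inv huX h.fix
    ⟨_, hrc, h.move⟩ (hY hx.1) (lineStab_fix hx.1) hx.2 (kerLine_odd hC h hx.1) hc⟩

theorem noFourLine (h : Line e u g r) : NoFourLine u g r := fun Z hZ hZY hY hu hr =>
  no_four_of_line hC hM hB hnoL h (fun e => by
    haveI := Subgroup.normalizer_eq_top_iff.mp e
    exact hZ (eq_bot_of_normal hC fun x hx => lineStab_fix (hZY hx))) hY hu hr

omit hB hnoL

/-- P1: only the line stabiliser normalises a non-trivial normal subgroup of it that `u` and `r` normalise. -/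
theorem normalizer_inf_two (h : Line e u g r) (hnf : NoFourLine u g r) {Z : Subgroup G} (hZ : Z ≠ ⊥) (hZY : Z ≤ lineStab g r)
    (hY : lineStab g r ≤ Subgroup.normalizer (Z : Set G)) (hu : u ∈ Subgroup.normalizer (Z : Set G))
    (hr : r ∈ Subgroup.normalizer (Z : Set G)) :
    two (r⁻¹ • g) (r • g) ⊓ Subgroup.normalizer (Z : Set G) ≤ lineStab g r := by
  set X := Subgroup.normalizer (Z : Set G) with hXdef
  have hX : X ≠ ⊤ := fun e => by
    haveI := Subgroup.normalizer_eq_top_iff.mp e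
    exact hZ (eq_bot_of_normal hC fun x hx => lineStab_fix (hZY hx))
  have h4 := hnf Z hZ hZY hY hu hr
  have hgX : g ∈ centres Ω X := mem_centres hu h.inv h.fix
  obtain ⟨c, hcg, hc⟩ := inverted_fix_one hC h4 h.inv hu h.fix ⟨_, centres_smul hr hgX, h.move⟩
  -- all inverted odd elements of `X` at `g` fix the line
  have hinv : ∀ x ∈ X, x • g = g → u * x * u = x⁻¹ → Odd (orderOf x) → x ∈ lineStab g r := by
    intro x hx hxg hxu hodd
    have hsub : kerLine u g r ⊆ bad u g c := fun y hy =>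
      ⟨hy.2, lineStab_fix hy.1, hc y (hY hy.1) (lineStab_fix hy.1) hy.2 (kerLine_odd hC h hy.1)⟩
    have heq := Set.eq_of_subset_of_ncard_le hsub ((hM u g c h.inv h.fix hcg).trans h.ker) (Set.toFinite _)
    have hxb : x ∈ bad u g c := ⟨hxu, hxg, hc x hx hxg hxu hodd⟩
    rw [← heq] at hxb
    exact hxb.1
  -- reflection
  have hrefl : ∀ y ∈ X, y • g = g → ∀ k : ℤ, y • (r ^ k) • g = (r ^ k) • g →
      y • (r ^ (-k)) • g = (r ^ (-k)) • g := by
    intro y hy hyg k hyk
    have hj : y⁻¹ * u * y * u ∈ X := mul_mem (mul_mem (mul_mem (inv_mem hy) hu) hy) hu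
    have hjv : IsInv (y⁻¹ * u * y) := by simpa using h.inv.conj y⁻¹
    have hjg : (y⁻¹ * u * y * u) • g = g := by
      rw [mul_smul, h.fix, mul_smul, mul_smul, hyg, h.fix, inv_smul_eq_iff, hyg]
    have hju : u * (y⁻¹ * u * y * u) * u = (y⁻¹ * u * y * u)⁻¹ := by
      rw [mul_inv_rev, h.inv.inv, hjv.inv]
      calc u * (y⁻¹ * u * y * u) * u = u * (y⁻¹ * u * y) * (u * u) := by group
        _ = u * (y⁻¹ * u * y) := by rw [h.inv.2, mul_one]
    have hodd := odd_mul_of_no_four hC h4 (mul_mem (mul_mem (inv_mem hy) hu) hy) hu hjv h.inv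
    have h1 := mem_lineStab.mp (hinv _ hj hjg hju hodd) k
    rw [mul_smul, mul_smul, mul_smul, u_smul_line h, inv_smul_eq_iff, hyk] at h1
    have h2 := congrArg (u • ·) h1
    simp only [h.inv.smul_twice, u_smul_line h] at h2
    exact h2
  intro y hy
  obtain ⟨hyD, hyX⟩ := hy
  have hshift : ∀ n m : ℤ, y • (r ^ n) • g = (r ^ n) • g → y • (r ^ m) • g = (r ^ m) • g →
      y • (r ^ (2 * n - m)) • g = (r ^ (2 * n - m)) • g := by
    intro n m hn hm
    have hy' : (r ^ n)⁻¹ * y * r ^ n ∈ X :=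
      mul_mem (mul_mem (inv_mem (zpow_mem hr n)) hyX) (zpow_mem hr n)
    have hyg : ((r ^ n)⁻¹ * y * r ^ n) • g = g := by rw [mul_smul, mul_smul, hn, inv_smul_smul]
    have h1 := hrefl _ hy' hyg (m - n) (by
      rw [mul_smul, mul_smul, ← mul_smul (r ^ n) (r ^ (m - n)), ← zpow_add, add_sub_cancel, hm, inv_smul_eq_iff,
        ← mul_smul, ← zpow_add, add_sub_cancel])
    rw [mul_smul, mul_smul, inv_smul_eq_iff, ← mul_smul (r ^ n), ← zpow_add] at h1
    rwa [show n + -(m - n) = 2 * n - m by ring] at h1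
  have hm1 : y • (r ^ (-1 : ℤ)) • g = (r ^ (-1 : ℤ)) • g := by simpa using (mem_two.mp hyD).1
  have h1 : y • (r ^ (1 : ℤ)) • g = (r ^ (1 : ℤ)) • g := by simpa using (mem_two.mp hyD).2
  have hodd : ∀ k : ℕ, y • (r ^ (2 * (k : ℤ) + 1)) • g = (r ^ (2 * (k : ℤ) + 1)) • g ∧
      y • (r ^ (2 * (k : ℤ) - 1)) • g = (r ^ (2 * (k : ℤ) - 1)) • g := by
    intro k
    induction k with
    | zero => exact ⟨by simpa using h1, by simpa using hm1⟩
    | succ k ih =>
      refine ⟨?_, ?_⟩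
      · have := hshift _ _ ih.1 ih.2
        rwa [show 2 * (2 * (k : ℤ) + 1) - (2 * (k : ℤ) - 1) = 2 * ((k + 1 : ℕ) : ℤ) + 1 by push_cast; ring] at this
      · rw [show 2 * ((k + 1 : ℕ) : ℤ) - 1 = 2 * (k : ℤ) + 1 by push_cast; ring]
        exact ih.1
  refine mem_lineStab.mpr fun n => ?_
  obtain ⟨j, hj⟩ := h.odd
  have hN : (0 : ℤ) < (orderOf r : ℤ) := by exact_mod_cast orderOf_pos r
  obtain ⟨i, hi⟩ : ∃ i : ℕ, (n % (orderOf r : ℤ)) = (i : ℤ) :=
    ⟨_, (Int.toNat_of_nonneg (Int.emod_nonneg _ hN.ne')).symm⟩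
  have hn : r ^ n = r ^ (i : ℤ) := by rw [← hi, zpow_mod_orderOf]
  rcases Nat.even_or_odd i with ⟨k, hk⟩ | ⟨k, hk⟩
  · have hn' : r ^ n = r ^ (2 * ((k + j : ℕ) : ℤ) + 1) := by
      rw [hn, show 2 * ((k + j : ℕ) : ℤ) + 1 = (i : ℤ) + (orderOf r : ℤ) by rw [hk, hj]; push_cast; ring,
        zpow_add, zpow_natCast r (orderOf r), pow_orderOf_eq_one, mul_one]
    rw [hn']
    exact (hodd _).1
  · have hn' : r ^ n = r ^ (2 * (k : ℤ) + 1) := by rw [hn, hk]; push_cast; rfl
    rw [hn']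
    exact (hodd _).1

omit hM

/-- L4: a maximal pair gives a line through a `u`-invariant group strictly above its centre stabiliser. -/
theorem exists_line {u : G} {g a : Ω} (hu : IsInv u) (hug : u • g = g) (hag : a ≠ g)
    (he : e ≤ (bad u g a).ncard) {M : Subgroup G} (hMD : M ≤ two a (u • a))
    (hMu : u ∈ Subgroup.normalizer (M : Set G)) (hAM : two a (u • a) ⊓ stabilizer G g ≤ M)
    (hne : ∃ x ∈ M, x • g ≠ g) :
    ∃ y ∈ M, Line e u g y ∧ bad u g a ⊆ kerLine u g y := by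
  set A : Subgroup G := two a (u • a) ⊓ stabilizer G g with hAdef
  have hua : a ≠ u • a := fun h => hag (eq_of_fix hC hu h.symm hug)
  have hDodd : Odd (Nat.card (two a (u • a) : Subgroup G)) := odd_two hC hua
  have huA : ∀ x ∈ A, u * x * u ∈ A := fun x hx => by
    obtain ⟨hxD, hxg⟩ := hx
    obtain ⟨h1, h2⟩ := mem_two.mp hxD
    refine ⟨mem_two.mpr ⟨?_, ?_⟩, mem_stabilizer_iff.mpr ?_⟩
    · rw [mul_smul, mul_smul, h2, hu.smul_twice]
    · rw [mul_smul, mul_smul, hu.smul_twice, h1]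
    · rw [mul_smul, mul_smul, hug, mem_stabilizer_iff.mp hxg, hug]
  classical
  let Ms : Set (Subgroup G) := {M1 | A ≤ M1 ∧ M1 ≤ M ∧ (∀ x ∈ M1, u * x * u ∈ M1) ∧ ∃ x ∈ M1, x • g ≠ g}
  obtain ⟨M1, hM1, hmin⟩ := (Set.toFinite Ms).exists_minimal ⟨M, hAM, le_rfl, fun x hx => by
    have := (Subgroup.mem_normalizer_iff.mp hMu x).mp hx
    rwa [hu.inv] at this, hne⟩
  obtain ⟨hAM1, hM1M, huM1, x₀, hx₀, hx₀g⟩ := hM1
  have hodd1 : Odd (Nat.card M1) := hDodd.of_dvd_nat (Subgroup.card_dvd_of_le (hM1M.trans hMD))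
  haveI : Group.IsSolvable M1 := Cfsg.Agent.S0205.result hodd1
  -- the core of `A` in `M1`
  let C0 : Subgroup G :=
    { carrier := {x | ∀ m ∈ M1, m * x * m⁻¹ ∈ A}
      one_mem' := fun m _ => by simp
      mul_mem' := fun {x y} hx hy m hm => by
        rw [show m * (x * y) * m⁻¹ = (m * x * m⁻¹) * (m * y * m⁻¹) by group]
        exact mul_mem (hx m hm) (hy m hm)
      inv_mem' := fun {x} hx m hm => by
        rw [← conj_inv]
        exact inv_mem (hx m hm) }
  have hC0A : C0 ≤ A := fun x hx => by simpa using hx 1 (one_mem _)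
  have hC0M : ∀ m ∈ M1, ∀ x ∈ C0, m * x * m⁻¹ ∈ C0 := fun m hm x hx k hk => by
    rw [show k * (m * x * m⁻¹) * k⁻¹ = (k * m) * x * (k * m)⁻¹ by group]
    exact hx _ (mul_mem hk hm)
  have hC0max : ∀ K : Subgroup G, K ≤ A → (∀ m ∈ M1, ∀ x ∈ K, m * x * m⁻¹ ∈ K) → K ≤ C0 :=
    fun K hK hn x hx m hm => hK (hn m hm x hx)
  -- the derived series
  obtain ⟨n, hn⟩ := (Group.isSolvable_def M1).mp inferInstance
  let T' : ℕ → Subgroup G := fun k => (derivedSeries M1 k).map M1.subtype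
  have hex : ∃ k, T' k ≤ C0 := ⟨n, by simp [T', hn]⟩
  set k := Nat.find hex with hkdef
  have hk := Nat.find_spec hex
  have hk0 : k ≠ 0 := fun e => by
    have h1 : T' 0 ≤ C0 := e ▸ hk
    exact hx₀g (mem_stabilizer_iff.mp (hC0A (h1 ⟨⟨x₀, hx₀⟩, by simp, rfl⟩)).2)
  obtain ⟨j, hj⟩ := Nat.exists_eq_succ_of_ne_zero hk0
  have hTnot : ¬ T' j ≤ C0 := Nat.find_min hex (by omega)
  set T := T' j with hTdef
  have hTM : T ≤ M1 := Subgroup.map_subtype_le _
  have hTn : ∀ m ∈ M1, ∀ x ∈ T, m * x * m⁻¹ ∈ T := by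
    rintro m hm _ ⟨x, hx, rfl⟩
    exact ⟨_, (derivedSeries_normal M1 j).conj_mem x hx ⟨m, hm⟩, rfl⟩
  have hTu : ∀ x ∈ T, u * x * u ∈ T := by
    rintro _ ⟨x, hx, rfl⟩
    let f : M1 →* M1 :=
      { toFun := fun y => ⟨u * y * u, huM1 y y.2⟩
        map_one' := Subtype.ext (by simpa using hu.2)
        map_mul' := fun y z => Subtype.ext (by push_cast; exact invol_conj_mul hu.2 _ _) }
    exact ⟨f x, map_derivedSeries_le_derivedSeries f j ⟨x, hx, rfl⟩, rfl⟩
  have hTT : ∀ x ∈ T, ∀ y ∈ T, x * y * x⁻¹ * y⁻¹ ∈ C0 := by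
    rintro _ ⟨x, hx, rfl⟩ _ ⟨y, hy, rfl⟩
    refine hk (show _ ∈ T' k from ⟨x * y * x⁻¹ * y⁻¹, ?_, by simp⟩)
    rw [show k = j + 1 from hj, derivedSeries_succ, ← commutatorElement_def]
    exact Subgroup.commutator_mem_commutator hx hy
  -- `M1 = A T` and `T ⊓ A ≤ C0`
  have hTA : ¬ T ≤ A := fun h => hTnot (hC0max T h hTn)
  have hAT : A ⊔ T = M1 := by
    refine le_antisymm (sup_le hAM1 hTM) (hmin ⟨le_sup_left, (sup_le hAM1 hTM).trans hM1M, ?_, ?_⟩ (sup_le hAM1 hTM))
    · intro x hx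
      rw [Subgroup.sup_eq_closure] at hx
      induction hx using Subgroup.closure_induction with
      | mem y hy =>
        rcases hy with hy | hy
        · exact le_sup_left (b := T) (huA y hy)
        · exact le_sup_right (a := A) (hTu y hy)
      | one => rw [mul_one, hu.2]; exact one_mem _
      | mul y z _ _ hy hz => rw [invol_conj_mul hu.2]; exact mul_mem hy hz
      | inv y _ hy => rw [invol_conj_inv hu.2]; exact inv_mem hy
    · by_contra h
      push Not at h
      exact hTA fun x hx => ⟨hMD (hM1M (hTM hx)), mem_stabilizer_iff.mpr (h x (le_sup_right (a := A) hx))⟩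
  have hnormM1 : ∀ K : Subgroup G, K ≤ M1 → (∀ m ∈ A, ∀ x ∈ K, m * x * m⁻¹ ∈ K) →
      (∀ m ∈ T, ∀ x ∈ K, m * x * m⁻¹ ∈ K) → ∀ m ∈ M1, ∀ x ∈ K, m * x * m⁻¹ ∈ K := by
    intro K hK hA hT m hm
    have hmn : m ∈ Subgroup.normalizer (K : Set G) := by
      rw [← hAT] at hm
      refine (sup_le ?_ ?_ : A ⊔ T ≤ Subgroup.normalizer (K : Set G)) hm <;>
        intro z hz <;> refine Subgroup.mem_normalizer_iff.mpr fun x => ⟨?_, fun hx => ?_⟩
      · exact hA z hz x
      · simpa [mul_assoc] using hA z⁻¹ (inv_mem hz) _ hx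
      · exact hT z hz x
      · simpa [mul_assoc] using hT z⁻¹ (inv_mem hz) _ hx
    exact fun x hx => (Subgroup.mem_normalizer_iff.mp hmn x).mp hx
  have hTA' : T ⊓ A ≤ C0 := by
    refine hC0max _ inf_le_right (hnormM1 _ (inf_le_left.trans hTM) ?_ ?_)
    · exact fun m hm x hx => ⟨hTn m (hAM1 hm) x hx.1, A.mul_mem (A.mul_mem hm hx.2) (A.inv_mem hm)⟩
    · intro m hm x hx
      refine ⟨hTn m (hTM hm) x hx.1, ?_⟩
      rw [show m * x * m⁻¹ = (m * x * m⁻¹ * x⁻¹) * x by group]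
      exact mul_mem (hC0A (hTT m hm x hx.1)) hx.2
  -- `u` inverts `T` modulo `C0`
  have huC0 : ∀ x ∈ C0, u * x * u ∈ C0 := fun x hx m hm => by
    have h1 := huA _ (hx _ (huM1 m hm))
    rw [← invol_conj_inv hu.2] at h1
    rw [invol_conj_mul hu.2, invol_conj_mul hu.2, invol_conj_conj hu.2, invol_conj_conj hu.2] at h1
    exact h1
  have hflip : ∀ t ∈ T, t * (u * t * u) ∈ C0 := by
    intro t ht
    refine hTA' ⟨mul_mem ht (hTu t ht), hMD (hM1M (hTM (mul_mem ht (hTu t ht)))), mem_stabilizer_iff.mpr ?_⟩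
    refine eq_of_fix hC hu ?_ hug
    have hc := hTT _ (hTu t ht) _ ht
    set c := u * t * u * t * (u * t * u)⁻¹ * t⁻¹
    calc u • (t * (u * t * u)) • g = (u * (t * (u * t * u)) * u) • u • g := by
          rw [← mul_smul, ← mul_smul]
          congr 1
          rw [mul_assoc _ u u, hu.2, mul_one]
      _ = (c * (t * (u * t * u))) • g := by
          rw [hug, invol_conj_mul hu.2, invol_conj_conj hu.2]
          congr 1
          simp only [c]
          group
      _ = (t * (u * t * u)) • g := by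
          have h1 : (t * (u * t * u))⁻¹ * c * (t * (u * t * u)) ∈ C0 := by
            simpa using hC0M _ (inv_mem (hTM (mul_mem ht (hTu t ht)))) c hc
          have h2 := mem_stabilizer_iff.mp (hC0A h1).2
          rw [mul_smul, mul_smul, inv_smul_eq_iff] at h2
          rw [mul_smul]
          exact h2
  -- the inverted elements lie in the core
  let K : Subgroup G :=
    { carrier := {z | z ∈ A ∧ ∀ t ∈ T, z * t * z⁻¹ * t⁻¹ ∈ C0}
      one_mem' := ⟨one_mem _, fun t _ => by simp⟩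
      mul_mem' := by
        rintro y z ⟨hy, hy'⟩ ⟨hz, hz'⟩
        refine ⟨mul_mem hy hz, fun t ht => ?_⟩
        rw [show y * z * t * (y * z)⁻¹ * t⁻¹ = y * (z * t * z⁻¹ * t⁻¹) * y⁻¹ * (y * t * y⁻¹ * t⁻¹) by group]
        exact mul_mem (hC0M y (hAM1 hy) _ (hz' t ht)) (hy' t ht)
      inv_mem' := by
        rintro y ⟨hy, hy'⟩
        refine ⟨inv_mem hy, fun t ht => ?_⟩
        rw [show y⁻¹ * t * y⁻¹⁻¹ * t⁻¹ = y⁻¹ * (y * t * y⁻¹ * t⁻¹)⁻¹ * y⁻¹⁻¹ by group]
        exact hC0M _ (inv_mem (hAM1 hy)) _ (inv_mem (hy' t ht)) }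
  have hC0K : C0 ≤ K := fun c hc => ⟨hC0A hc, fun t ht => by
    rw [show c * t * c⁻¹ * t⁻¹ = c * (t * c⁻¹ * t⁻¹) by group]
    exact mul_mem hc (hC0M t (hTM ht) _ (inv_mem hc))⟩
  have hKC0 : K ≤ C0 := by
    refine hC0max K (fun x hx => hx.1) (hnormM1 K (fun x hx => hAM1 hx.1) ?_ ?_)
    · rintro m hm x ⟨hx, hx'⟩
      refine ⟨mul_mem (mul_mem hm hx) (inv_mem hm), fun t ht => ?_⟩
      have ht' : m⁻¹ * t * m ∈ T := by simpa using hTn m⁻¹ (inv_mem (hAM1 hm)) t ht
      have := hC0M m (hAM1 hm) _ (hx' _ ht')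
      simpa [mul_assoc] using this
    · rintro m hm x hx
      rw [show m * x * m⁻¹ = (x * m * x⁻¹ * m⁻¹)⁻¹ * x by group]
      exact mul_mem (hC0K (inv_mem (hx.2 m hm))) hx
  have hbad : bad u g a ⊆ (C0 : Set G) := by
    intro x hx
    refine hKC0 ?_
    obtain ⟨hxu, hxg, hxa⟩ := hx
    have hxua : x • u • a = u • a := by
      have h1 : x⁻¹ • a = a := inv_smul_eq_iff.mpr hxa.symm
      rw [← hxu, mul_smul, mul_smul] at h1
      have h2 := congrArg (u • ·) h1
      simpa [hu.smul_twice] using h2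
    have hxA : x ∈ A := ⟨mem_two.mpr ⟨hxa, hxua⟩, mem_stabilizer_iff.mpr hxg⟩
    have h2 : x * x ∈ K := by
      refine ⟨mul_mem hxA hxA, fun t ht => ?_⟩
      have hxM := hAM1 hxA
      have e1 : x * t * x⁻¹ * (x⁻¹ * (u * t * u) * x) ∈ C0 := by
        have := hflip _ (hTn x hxM t ht)
        rwa [invol_conj_mul hu.2, invol_conj_mul hu.2, hxu, invol_conj_inv hu.2, hxu, inv_inv] at this
      have e2 : x⁻¹ * (t * (u * t * u))⁻¹ * x ∈ C0 := by
        simpa using hC0M _ (inv_mem hxM) _ (inv_mem (hflip t ht))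
      have := hC0M x hxM _ (mul_mem e1 e2)
      simpa [mul_assoc] using this
    obtain ⟨i, hi⟩ := CfsgLib.Involutions.exists_sqrt (odd_of_fix_two hC hag hxa hxg)
    rw [← hi, ← (Commute.refl x).mul_pow]
    exact pow_mem h2 i
  -- the element
  obtain ⟨t, ht, htC⟩ := SetLike.not_le_iff_exists.mp hTnot
  have hut' : (u * t⁻¹ * u) ∈ T := hTu _ (inv_mem ht)
  set y := t * (u * t⁻¹ * u) with hy
  have hyT : y ∈ T := mul_mem ht hut'
  have hyC : y ∉ C0 := by
    intro hyC
    refine htC ?_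
    have h1 := hflip t ht
    have h2 : t * t ∈ C0 := by
      have e1 : t * t = y * (t⁻¹ * (t * (u * t * u)) * t⁻¹⁻¹) := by
        rw [hy, invol_conj_inv hu.2]
        group
      rw [e1]
      exact C0.mul_mem hyC (hC0M t⁻¹ (inv_mem (hTM ht)) _ h1)
    obtain ⟨i, hi⟩ := CfsgLib.Involutions.exists_sqrt (odd_orderOf hodd1 (hTM ht))
    rw [← hi, ← (Commute.refl t).mul_pow]
    exact pow_mem h2 i
  have hyu : u * y * u = y⁻¹ := by
    rw [hy, invol_conj_mul hu.2, invol_conj_conj hu.2, mul_inv_rev, invol_conj_inv hu.2, inv_inv]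
  have hyD : y ∈ two a (u • a) := hMD (hM1M (hTM hyT))
  have hyg : y • g ≠ g := fun h => hyC (hTA' ⟨hyT, hyD, mem_stabilizer_iff.mpr h⟩)
  have hyn : y ∈ Subgroup.normalizer (C0 : Set G) := by
    refine Subgroup.mem_normalizer_iff.mpr fun x => ⟨hC0M y (hTM hyT) x, fun hx => ?_⟩
    simpa [mul_assoc] using hC0M y⁻¹ (inv_mem (hTM hyT)) _ hx
  have hsub : bad u g a ⊆ kerLine u g y := fun x hx =>
    ⟨le_lineStab hyn (fun z hz => mem_stabilizer_iff.mp (hC0A hz).2) (hbad hx), hx.1⟩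
  exact ⟨y, hM1M (hTM hyT),
    ⟨hu, hug, hyu, odd_orderOf hDodd hyD, hyg, he.trans (Set.ncard_le_ncard hsub (Set.toFinite _))⟩, hsub⟩

end CfsgLib.Bender.B1
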