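import Cfsg.Agent.Lib.Bender.B1.RankOneEnd
import Cfsg.Agent.Lib.Bender.B1.CircleEnd
import Cfsg.Agent.Lib.Bender.B1.Clique

/-!
Assembly of B1 and of the induction on the order of the group.

Blueprint: `blueprint/bender/A6.md`.
-/

set_option autoImplicit false
set_option linter.unusedSectionVars false
set_option linter.style.haveILetI false

namespace CfsgLib.Bender.B1

open MulAction
open CfsgLib.Bender.TwoClosed (IsInv)

universe u

/-- Case 2 of B1: no kernel of Lie type carries the maximal count. -/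
def CaseTwo (G Ω : Type u) [Group G] [MulAction G Ω] : Prop :=
  ∀ e : ℕ, MaxBad G Ω e → 1 < e → LMember G Ω e → False

variable {G Ω : Type u} [Group G] [Finite G] [MulAction G Ω] [FaithfulSMul G Ω]

/-- B1 from case 2. -/
theorem noBad (hC : OneFix G Ω) (hB : Below.{u} (Nat.card G)) (hL : CaseTwo G Ω) : NoBad G Ω := by
  intro u₀ y a b hu hua hinv hya hba hyb
  by_contra hy1
  set Ns : Set ℕ := {n | ∃ (u : G) (g c : Ω), IsInv u ∧ u • g = g ∧ c ≠ g ∧ (bad u g c).ncard = n}
  have hfin : Ns.Finite := (Set.finite_le_nat (Nat.card G)).subset fun n hn => by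
    obtain ⟨u, g, c, -, -, -, rfl⟩ := hn
    exact Set.ncard_le_card _
  obtain ⟨e, ⟨u₁, g₁, c₁, hu₁, hg₁, hc₁, rfl⟩, hmax⟩ := hfin.exists_maximal ⟨_, u₀, a, b, hu, hua, hba, rfl⟩
  set e := (bad u₁ g₁ c₁).ncard
  have hM : MaxBad G Ω e := fun u g c hu' hg hc => by
    rcases le_total (bad u g c).ncard e with h | h
    · exact h
    · exact hmax ⟨u, g, c, hu', hg, hc, rfl⟩ h
  have h2 : 2 ≤ (bad u₀ a b).ncard := by
    have hsub : ({1, y} : Set G) ⊆ bad u₀ a b := by
      rintro x (rfl | rfl)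
      · exact ⟨by rw [mul_one, hu.2, inv_one], one_smul _ _, one_smul _ _⟩
      · exact ⟨hinv, hya, hyb⟩
    rw [← Set.ncard_pair (Ne.symm hy1)]
    exact Set.ncard_le_ncard hsub (Set.toFinite _)
  have he : 1 < e := lt_of_lt_of_le h2 (hM u₀ a b hu hua hba)
  exact hL e hM he (exists_lMember hC hM he hB ⟨u₁, g₁, c₁, hu₁, hg₁, hc₁, le_rfl⟩)

/-- Case 2 of B1 holds. -/
theorem caseTwo (hC : OneFix G Ω) (hB : Below.{u} (Nat.card G)) : CaseTwo G Ω := fun _ hM he hL => by
  obtain ⟨M, hCh⟩ := exists_chosen hC hB he hL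
  exact clique_end hC hB hM he hCh fun a b ha hb hne => circle_end hC hB hM he hCh ha hb hne

/-- B1: no bad elements. -/
theorem noBad_of_below (hC : OneFix G Ω) (hB : Below.{u} (Nat.card G)) : NoBad G Ω :=
  noBad hC hB (caseTwo hC hB)

/-- Strong induction on the order: a step from `Below` to `Good` gives `Below` for every bound. -/
theorem below_of_step
    (step : ∀ (K Δ : Type u) [Group K] [Finite K] [MulAction K Δ] [FaithfulSMul K Δ],
      OneFix K Δ → Below.{u} (Nat.card K) → Good K Δ) :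
    ∀ n : ℕ, Below.{u} n := by
  intro n
  induction n with
  | zero =>
    intro K Δ _ _ _ _ _ h
    exact absurd h (Nat.not_lt_zero _)
  | succ n ih =>
    intro K Δ _ _ _ _ hK h
    rcases Nat.lt_succ_iff_lt_or_eq.mp h with h' | h'
    · exact ih K Δ hK h'
    · exact step K Δ hK (h' ▸ ih)

/-- The induction shell: a step using B1 gives Bender's theorem for one fixed point actions. -/
theorem good_of_noBad_step
    (hL : ∀ (K Δ : Type u) [Group K] [Finite K] [MulAction K Δ] [FaithfulSMul K Δ],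
      OneFix K Δ → Below.{u} (Nat.card K) → CaseTwo K Δ)
    (fromB1 : ∀ (K Δ : Type u) [Group K] [Finite K] [MulAction K Δ] [FaithfulSMul K Δ],
      OneFix K Δ → Below.{u} (Nat.card K) → NoBad K Δ → Good K Δ)
    (hC : OneFix G Ω) : Good G Ω :=
  below_of_step (fun K Δ _ _ _ _ hK hB => fromB1 K Δ hK hB (noBad hK hB (hL K Δ hK hB)))
    (Nat.card G + 1) G Ω hC (Nat.lt_succ_self _)

end CfsgLib.Bender.B1
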