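import Cfsg.Agent.Lib.Bender.B1.Count
import Cfsg.Agent.Lib.Bender.ExtRankOne
import Cfsg.Agent.Lib.Bender.ExtZJ

/-!
A proper subgroup with a four group and two centres: its rank one top on the centres.

Blueprint: `blueprint/bender/A6.md`, section 0, L3 and case 2.
-/

set_option autoImplicit false
set_option linter.unusedSectionVars false
set_option linter.style.haveILetI false
set_option linter.unusedVariables false

namespace CfsgLib.Bender.B1

open MulAction Cfsg CfsgLib.SuzukiRankOne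
open CfsgLib.Bender.TwoClosed (IsInv IsInv.inv IsInv.conj IsInv.smul_twice InvAt two mem_two smul_conj
  odd_orderOf eq_one_of_inv_eq eq_one_of_two_odd)

universe u v

variable {G : Type u} {Ω : Type u} [Group G] [MulAction G Ω]

/-- A proper subgroup with a four group and two centres. -/
structure IsTop (Ω : Type u) [MulAction G Ω] (X : Subgroup G) : Prop where
  ne_top : X ≠ ⊤
  four : FourIn X
  two : ∃ g c, g ∈ centres Ω X ∧ c ∈ centres Ω X ∧ c ≠ g

/-- The group induced on the centres. -/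
abbrev topGrp (Ω : Type u) [MulAction G Ω] (X : Subgroup G) : Subgroup (Equiv.Perm (centres Ω X)) :=
  (centresPerm Ω X).range

/-- The image of an element. -/
abbrev img (Ω : Type u) [MulAction G Ω] (X : Subgroup G) : X →* topGrp Ω X := (centresPerm Ω X).rangeRestrict

/-- The number `q` of the top: one plus the number of induced involutions at each centre. -/
noncomputable def qTop (Ω : Type u) [MulAction G Ω] (X : Subgroup G) : ℕ :=
  Nat.card {y : topGrp Ω X // IsInv y} / Nat.card (centres Ω X) + 1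

/-- The circle through two centres. -/
def circ (X : Subgroup G) (a b : Ω) : Set Ω :=
  {c | c = a ∨ c = b ∨ ∃ i ∈ X, IsInv i ∧ i • a = a ∧ i • b = c}

theorem img_smul {X : Subgroup G} (x : X) (c : centres Ω X) : ((img Ω X x • c : centres Ω X) : Ω) = (x : G) • (c : Ω) :=
  rfl

theorem smul_of_img_eq {X : Subgroup G} {x y : X} (h : img Ω X x = img Ω X y) {c : Ω} (hc : c ∈ centres Ω X) :
    (x : G) • c = (y : G) • c := by
  have := congrArg (fun z : topGrp Ω X => ((z • (⟨c, hc⟩ : centres Ω X) : centres Ω X) : Ω)) h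
  rwa [img_smul, img_smul] at this

theorem img_eq_of_smul {X : Subgroup G} {x y : X} (h : ∀ c ∈ centres Ω X, (x : G) • c = (y : G) • c) :
    img Ω X x = img Ω X y :=
  Subtype.ext (Equiv.ext fun c => Subtype.ext (h c c.2))

theorem img_eq_one_iff {X : Subgroup G} {x : X} : img Ω X x = 1 ↔ ∀ c ∈ centres Ω X, (x : G) • c = c := by
  rw [← map_one (img Ω X)]
  refine ⟨fun h c hc => by simpa using smul_of_img_eq h hc, fun h => img_eq_of_smul fun c hc => by
    simpa using h c hc⟩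

theorem centres_mono {X Y : Subgroup G} (h : X ≤ Y) : centres Ω X ⊆ centres Ω Y := fun _ ⟨x, hx, hi, hc⟩ =>
  ⟨x, h hx, hi, hc⟩

instance finite_topGrp [Finite G] (X : Subgroup G) : Finite (topGrp Ω X) :=
  Finite.of_surjective _ (MonoidHom.rangeRestrict_surjective (centresPerm Ω X))

variable [Finite G] {X Y : Subgroup G} (hC : OneFix G Ω)
include hC

theorem finite_omega : Finite Ω := by
  haveI := hC.trans
  obtain ⟨x, y, hx, -, -, hx2, -, -⟩ := hC.four
  obtain ⟨c, -⟩ := exists_fix hC ⟨hx, hx2⟩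
  exact Finite.of_surjective (fun g : G => g • c) (MulAction.exists_smul_eq G c)

theorem IsTop.exists_ne (hT : IsTop Ω X) (a : Ω) : ∃ b ∈ centres Ω X, b ≠ a := by
  obtain ⟨g, c, hg, hc, hne⟩ := hT.two
  by_cases h : g = a
  · exact ⟨c, hc, h ▸ hne⟩
  · exact ⟨g, hg, h⟩

theorem IsTop.oneFix (hT : IsTop Ω X) : OneFix (topGrp Ω X) (centres Ω X) := by
  obtain ⟨g, c, hg, hc, hne⟩ := hT.two
  exact oneFix_centres hC hT.four hg hc hne

theorem img_isInv (hT : IsTop Ω X) {x : X} (hx : IsInv (x : G)) : IsInv (img Ω X x) := by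
  obtain ⟨g, c, hg, hc, hne⟩ := hT.two
  refine ⟨fun e => hne ?_, ?_⟩
  · exact eq_of_fix hC hx (img_eq_one_iff.mp e c hc) (img_eq_one_iff.mp e g hg)
  · rw [← map_mul, show x * x = 1 from Subtype.ext hx.2, map_one]

/-- Elements fixing two centres have odd order. -/
theorem odd_of_img_one (hT : IsTop Ω X) {x : X} (hx : img Ω X x = 1) : Odd (orderOf (x : G)) := by
  obtain ⟨g, c, hg, hc, hne⟩ := hT.two
  exact odd_of_fix_two hC hne (img_eq_one_iff.mp hx c hc) (img_eq_one_iff.mp hx g hg)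

theorem exists_inv_lift (hT : IsTop Ω X) {y : topGrp Ω X} (hy : IsInv y) :
    ∃ x : X, IsInv (x : G) ∧ img Ω X x = y := by
  obtain ⟨x, rfl⟩ := MonoidHom.rangeRestrict_surjective _ y
  have h1 : img Ω X (x * x) = 1 := by rw [map_mul]; exact hy.2
  obtain ⟨m, hm⟩ := odd_of_img_one hC hT h1
  have hcx : Commute x ((x * x) ^ m) := ((Commute.refl x).mul_right (Commute.refl x)).pow_right m
  have hz2 : x * (x * x) ^ m * (x * (x * x) ^ m) = 1 := by
    have h2 : (x * x) ^ (2 * m + 1) = 1 := Subtype.ext (by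
      have := pow_orderOf_eq_one ((x * x : X) : G)
      rw [hm] at this
      simpa using this)
    calc x * (x * x) ^ m * (x * (x * x) ^ m) = x * ((x * x) ^ m * x) * (x * x) ^ m := by simp only [mul_assoc]
      _ = (x * x) * ((x * x) ^ m * (x * x) ^ m) := by rw [← hcx.eq]; simp only [mul_assoc]
      _ = 1 := by rw [← pow_add, ← pow_succ', ← two_mul, h2]
  have him : img Ω X (x * (x * x) ^ m) = img Ω X x := by rw [map_mul, map_pow, h1, one_pow, mul_one]
  refine ⟨x * (x * x) ^ m, ⟨fun e => hy.1 ?_, congrArg Subtype.val hz2⟩, him⟩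
  rw [← him, show x * (x * x) ^ m = 1 from Subtype.ext e, map_one]

/-- The set-up of the top at a centre, for any involution moving it. -/
theorem IsTop.setup (hT : IsTop Ω X) (hB : Below.{u} (Nat.card G)) {a : Ω} (ha : a ∈ centres Ω X) {w : G}
    (hwX : w ∈ X) (hw : IsInv w) (hwa : w • a ≠ a) :
    ∃ Q : Subgroup (topGrp Ω X), IsRankOneSetup (topGrp Ω X) (centres Ω X) ⟨a, ha⟩ (img Ω X ⟨w, hwX⟩) Q := by
  obtain ⟨g, c, hg, hc, hne⟩ := hT.two
  obtain ⟨t, Q, hS, -⟩ := good_centres hC hB hT.ne_top hT.four hg hc hne ⟨a, ha⟩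
  set a' : centres Ω X := ⟨a, ha⟩
  set w' := img Ω X ⟨w, hwX⟩
  have hwi := img_isInv hC hT (x := ⟨w, hwX⟩) hw
  have hwa' : w' • a' ≠ a' := fun e => hwa (by rw [← img_smul ⟨w, hwX⟩ a', e])
  obtain ⟨q, hq, hqe⟩ := CfsgLib.RankOne.exists_Q_ta hS hwa'
  have hqa : q • a' = a' := CfsgLib.RankOne.mem_Q_a hS hq
  have hD : ∀ d, d ∈ stabilizer (topGrp Ω X) a' ⊓ stabilizer (topGrp Ω X) (w' • a') ↔
      q⁻¹ * d * q ∈ stabilizer (topGrp Ω X) a' ⊓ stabilizer (topGrp Ω X) (t • a') := by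
    intro d
    have hiff : ∀ r : centres Ω X, (q⁻¹ * d * q) • r = r ↔ d • q • r = q • r := fun r => by
      rw [mul_smul, mul_smul, inv_smul_eq_iff]
    simp only [Subgroup.mem_inf, mem_stabilizer_iff, hiff, hqa, hqe]
  refine ⟨Q, hS.two_transitive, hwi.2, hwi.1, fun e => hwa' (mem_stabilizer_iff.mp e), hS.le, hS.conj_mem, ?_, ?_,
    hS.even_card, ?_⟩
  · refine (Subgroup.eq_bot_iff_forall _).mpr fun x hx => ?_
    exact CfsgLib.RankOne.eq_one_of_fix hS hx.1 hwa' hx.2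
  · refine le_antisymm (sup_le hS.le inf_le_left) fun g hg => ?_
    have hg' : q⁻¹ * g * q ∈ stabilizer (topGrp Ω X) a' :=
      mul_mem (mul_mem (inv_mem (hS.le hq)) hg) (hS.le hq)
    obtain ⟨x, hx, d, hd, he⟩ := CfsgLib.RankOne.exists_decomp hS (mem_stabilizer_iff.mp hg')
    have hgd : g = (q * x * q⁻¹) * (q * d * q⁻¹) := by
      calc g = q * (q⁻¹ * g * q) * q⁻¹ := by group
        _ = _ := by rw [he]; group
    rw [hgd]
    refine Subgroup.mul_mem_sup (hS.conj_mem q (hS.le hq) x hx) ((hD _).mpr ?_)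
    rwa [show q⁻¹ * (q * d * q⁻¹) * q = d by group]
  · have h : (stabilizer (topGrp Ω X) a' ⊓ stabilizer (topGrp Ω X) (w' • a')) =
        (stabilizer (topGrp Ω X) a' ⊓ stabilizer (topGrp Ω X) (t • a')).map (MulAut.conj q).toMonoidHom := by
      ext d
      rw [hD]
      constructor
      · exact fun h => ⟨_, h, by simp [mul_assoc]⟩
      · rintro ⟨e, he, rfl⟩
        simpa [mul_assoc] using he
    rw [h, Subgroup.card_map_of_injective (MulAut.conj q).injective]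
    exact hS.odd_card

theorem IsTop.fourTop (hT : IsTop Ω X) : Four (topGrp Ω X) := (hT.oneFix hC).four

/-- Every involution of a subgroup is conjugate in it to every other. -/
theorem invol_conj_top (hT : IsTop Ω X) {i j : G} (hiX : i ∈ X) (hi : IsInv i) (hjX : j ∈ X) (hj : IsInv j) :
    ∃ x ∈ X, x * i * x⁻¹ = j := by
  have key : ∀ {i j : G}, i ∈ X → IsInv i → j ∈ X → IsInv j → ∀ {a b : Ω}, i • a = a → j • b = b → a ≠ b →
      ∃ x ∈ X, x * i * x⁻¹ = j := fun {i j} hiX hi hjX hj {a b} hia hjb hab => by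
    obtain ⟨w, hw, he, hcl⟩ := exists_swap_conj hC hi hia hj hjb hab
    refine ⟨w, (Subgroup.closure_le _).mpr ?_ hcl, by rw [hw.inv, he]⟩
    exact Set.insert_subset hiX (Set.singleton_subset_iff.mpr hjX)
  obtain ⟨a, ha⟩ := exists_fix hC hi
  obtain ⟨b, hb⟩ := exists_fix hC hj
  by_cases hab : a = b
  · obtain ⟨c, ⟨k, hkX, hk, hkc⟩, hca⟩ := hT.exists_ne hC a
    obtain ⟨x, hx, hxe⟩ := key hiX hi hkX hk ha hkc hca.symm
    obtain ⟨y, hy, hye⟩ := key hkX hk hjX hj hkc hb (hab ▸ hca)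
    refine ⟨y * x, mul_mem hy hx, ?_⟩
    rw [← hye, ← hxe]
    group
  · exact key hiX hi hjX hj ha hb hab

/-- The kernel of the top is normalised, and a normal subgroup moving a centre contains all involutions. -/
theorem invol_mem_of_normal [FaithfulSMul G Ω] (hT : IsTop Ω X) (hB : Below.{u} (Nat.card G)) {N : Subgroup G}
    (hNX : N ≤ X) (hXN : X ≤ Subgroup.normalizer (N : Set G)) {n : G} (hn : n ∈ N) {c : Ω}
    (hc : c ∈ centres Ω X) (hnc : n • c ≠ c) {i : G} (hiX : i ∈ X) (hi : IsInv i) : i ∈ N := by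
  obtain ⟨w, hwX, hw, hwc⟩ : ∃ w ∈ X, IsInv w ∧ w • c ≠ c := by
    obtain ⟨b, ⟨w, hwX, hw, hwb⟩, hne⟩ := hT.exists_ne hC c
    exact ⟨w, hwX, hw, fun e => hne (eq_of_fix hC hw hwb e)⟩
  obtain ⟨Q, hS⟩ := hT.setup hC hB hc hwX hw hwc
  set Nb : Subgroup (topGrp Ω X) := (N.subgroupOf X).map (img Ω X)
  haveI : (N.subgroupOf X).Normal := ⟨fun m hm x => by
    exact (Subgroup.mem_normalizer_iff.mp (hXN x.2) _).mp hm⟩
  haveI : Nb.Normal := Subgroup.Normal.map ‹_› _ (MonoidHom.rangeRestrict_surjective _)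
  have hNb : Nb ≠ ⊥ := fun e => hnc (by
    have hmem : img Ω X ⟨n, hNX hn⟩ ∈ Nb := ⟨_, hn, rfl⟩
    rw [e, Subgroup.mem_bot] at hmem
    exact img_eq_one_iff.mp hmem c hc)
  obtain ⟨hI1, hI2⟩ := img_isInv hC hT (x := ⟨i, hiX⟩) hi
  obtain ⟨⟨m, hmX⟩, hm, he⟩ := Ext.normal_invol hS (hT.fourTop hC) hNb hI1 hI2
  have hk : img Ω X (⟨m, hmX⟩⁻¹ * ⟨i, hiX⟩) = 1 := by rw [map_mul, map_inv, he, inv_mul_cancel]
  set k : G := m⁻¹ * i with hkdef
  have hkodd : Odd (orderOf k) := odd_of_img_one hC hT hk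
  have hmN : m ∈ N := hm
  have hkk : k * k ∈ N := by
    have h1 : m * k * (m * k) = 1 := by rw [hkdef, mul_inv_cancel_left, hi.2]
    have h2 : k * k = (k * m⁻¹ * k⁻¹) * m⁻¹ := by
      calc k * k = k * m⁻¹ * (m * k * (m * k)) * (k⁻¹ * m⁻¹) := by group
        _ = _ := by rw [h1]; group
    rw [h2]
    exact mul_mem ((Subgroup.mem_normalizer_iff.mp (hXN (mul_mem (inv_mem hmX) hiX)) _).mp (inv_mem hmN))
      (inv_mem hmN)
  obtain ⟨r, hr⟩ := CfsgLib.Involutions.exists_sqrt hkodd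
  have hkN : k ∈ N := by
    rw [← hr, ← (Commute.refl k).mul_pow]
    exact pow_mem hkk r
  have := mul_mem hmN hkN
  rwa [hkdef, mul_inv_cancel_left] at this

theorem qTop_eq [FaithfulSMul G Ω] (hT : IsTop Ω X) {a : Ω} (ha : a ∈ centres Ω X) :
    qZ (topGrp Ω X) (⟨a, ha⟩ : centres Ω X) = qTop Ω X := by
  classical
  haveI := finite_omega hC
  have hO := hT.oneFix hC
  let f : {y : topGrp Ω X // IsInv y} → centres Ω X := fun y => (exists_fix hO y.2).choose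
  haveI := Fintype.ofFinite (centres Ω X)
  have hsig : Nat.card {y : topGrp Ω X // IsInv y} = ∑ d : centres Ω X, Nat.card (InvAt (topGrp Ω X) d) := by
    rw [← Nat.card_sigma]
    exact Nat.card_congr
      { toFun := fun y => ⟨f y, y.1, y.2, (exists_fix hO y.2).choose_spec⟩
        invFun := fun z => ⟨z.2.1, z.2.2.1⟩
        left_inv := fun y => rfl
        right_inv := fun ⟨d, y, hy, hyd⟩ => by
          obtain rfl : f ⟨y, hy⟩ = d := eq_of_fix hO hy (exists_fix hO hy).choose_spec hyd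
          rfl }
  rw [Finset.sum_congr rfl (fun d _ => card_invAt_eq hO d ⟨a, ha⟩), Finset.sum_const, Finset.card_univ,
    smul_eq_mul, ← Nat.card_eq_fintype_card] at hsig
  haveI : Nonempty (centres Ω X) := ⟨⟨a, ha⟩⟩
  rw [qTop, hsig, Nat.mul_div_cancel_left _ Nat.card_pos, qZ]
  congr 1
  exact Nat.card_congr (Equiv.subtypeEquivRight fun y =>
    ⟨fun ⟨h1, h2, h3⟩ => ⟨⟨h2, h3⟩, h1⟩, fun ⟨⟨h2, h3⟩, h1⟩ => ⟨h1, h2, h3⟩⟩)

theorem qTop_two_pow [FaithfulSMul G Ω] (hT : IsTop Ω X) (hB : Below.{u} (Nat.card G)) :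
    ∃ f : ℕ, 2 ≤ f ∧ qTop Ω X = 2 ^ f := by
  obtain ⟨g, c, hg, hc, hne⟩ := hT.two
  obtain ⟨w, hwX, hw, hwg⟩ := centres_swap hC hg hc hne.symm
  obtain ⟨Q, hS⟩ := hT.setup hC hB hg hwX hw (hwg ▸ hne)
  rw [← qTop_eq hC hT hg]
  exact Ext.qZ_two_pow hS (hT.fourTop hC)

theorem card_centres_cases [FaithfulSMul G Ω] (hT : IsTop Ω X) (hB : Below.{u} (Nat.card G)) :
    Nat.card (centres Ω X) = qTop Ω X + 1 ∨ Nat.card (centres Ω X) = qTop Ω X ^ 2 + 1 ∨
      Nat.card (centres Ω X) = qTop Ω X ^ 3 + 1 := by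
  obtain ⟨g, c, hg, hc, hne⟩ := hT.two
  obtain ⟨w, hwX, hw, hwg⟩ := centres_swap hC hg hc hne.symm
  obtain ⟨Q, hS⟩ := hT.setup hC hB hg hwX hw (hwg ▸ hne)
  rw [← qTop_eq hC hT hg, CfsgLib.RankOne.card_points hS]
  rcases Ext.shape_cases hS (hT.fourTop hC) with ⟨-, h | h⟩ | ⟨-, h⟩ <;> rw [h]
  · exact Or.inl rfl
  · exact Or.inr (Or.inr rfl)
  · exact Or.inr (Or.inl rfl)

/-- Not a Suzuki top: the structure equation has a root squaring to one. -/
theorem rsq_of_card [FaithfulSMul G Ω] (hT : IsTop Ω X) (hB : Below.{u} (Nat.card G))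
    (h : Nat.card (centres Ω X) ≠ qTop Ω X ^ 2 + 1) {a : Ω} (ha : a ∈ centres Ω X) {t : topGrp Ω X}
    {Q : Subgroup (topGrp Ω X)} (hS : IsRankOneSetup (topGrp Ω X) (centres Ω X) ⟨a, ha⟩ t Q) :
    Rsq (⟨a, ha⟩ : centres Ω X) t Q := by
  rcases Ext.shape_cases hS (hT.fourTop hC) with ⟨hR, -⟩ | ⟨-, hQ⟩
  · exact hR
  · rw [CfsgLib.RankOne.card_points hS, hQ, qTop_eq hC hT ha] at h
    exact absurd rfl h

theorem circ_eq_image (hT : IsTop Ω X) (hB : Below.{u} (Nat.card G)) {a w : _} (ha : a ∈ centres Ω X)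
    (hwX : (w : G) ∈ X) (hw : IsInv w) :
    circ X a (w • a) = Subtype.val '' Ext.circle (⟨a, ha⟩ : centres Ω X) (img Ω X ⟨w, hwX⟩) := by
  ext c
  constructor
  · rintro (rfl | rfl | ⟨i, hiX, hi, hia, rfl⟩)
    · exact ⟨⟨c, ha⟩, Or.inl rfl, rfl⟩
    · exact ⟨img Ω X ⟨w, hwX⟩ • ⟨a, ha⟩, Or.inr ⟨1, one_smul _ _, one_mul 1, one_smul _ _⟩, rfl⟩
    · refine ⟨_, Or.inr ⟨img Ω X ⟨i, hiX⟩, Subtype.ext hia, (img_isInv hC hT (x := ⟨i, hiX⟩) hi).2, rfl⟩, rfl⟩
  · rintro ⟨⟨c, hc⟩, h | ⟨y, hya, hy2, hyc⟩, rfl⟩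
    · exact Or.inl (congrArg Subtype.val h)
    · by_cases hy1 : y = 1
      · rw [hy1, one_smul] at hyc
        exact Or.inr (Or.inl (congrArg Subtype.val hyc).symm)
      · obtain ⟨i, hi, rfl⟩ := exists_inv_lift hC hT ⟨hy1, hy2⟩
        exact Or.inr (Or.inr ⟨i, i.2, hi, congrArg Subtype.val hya, congrArg Subtype.val hyc⟩)

theorem circ_subset (hT : IsTop Ω X) {a b : Ω} (ha : a ∈ centres Ω X) (hb : b ∈ centres Ω X) :
    circ X a b ⊆ centres Ω X := by
  rintro c (rfl | rfl | ⟨i, hiX, -, -, rfl⟩)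
  · exact ha
  · exact hb
  · exact centres_smul hiX hb

theorem card_circ [FaithfulSMul G Ω] (hT : IsTop Ω X) (hB : Below.{u} (Nat.card G)) {a b : Ω}
    (ha : a ∈ centres Ω X) (hb : b ∈ centres Ω X) (hne : b ≠ a) : Nat.card (circ X a b) = qTop Ω X + 1 := by
  obtain ⟨w, hwX, hw, rfl⟩ := centres_swap hC ha hb hne.symm
  obtain ⟨Q, hS⟩ := hT.setup hC hB ha hwX hw hne
  rw [circ_eq_image hC hT hB ha hwX hw, Nat.card_image_of_injective Subtype.val_injective,
    Ext.card_circle hS (hT.fourTop hC), qTop_eq hC hT ha]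

theorem circ_eq_centres [FaithfulSMul G Ω] (hT : IsTop Ω X) (hB : Below.{u} (Nat.card G)) {a b : Ω}
    (ha : a ∈ centres Ω X) (hb : b ∈ centres Ω X) (hne : b ≠ a)
    (h : Nat.card (centres Ω X) = qTop Ω X + 1) : circ X a b = centres Ω X := by
  haveI := finite_omega hC
  refine Set.eq_of_subset_of_ncard_le (circ_subset hC hT ha hb) ?_ (Set.toFinite _)
  rw [← Nat.card_coe_set_eq, ← Nat.card_coe_set_eq, card_circ hC hT hB ha hb hne, h]

omit hC in
/-- The circle is invariant under two-point stabilisers. -/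
theorem smul_circ_of_two {a b : Ω} {x : G} (hxX : x ∈ X) (hxa : x • a = a) (hxb : x • b = b) {c : Ω}
    (hc : c ∈ circ X a b) : x • c ∈ circ X a b := by
  rcases hc with rfl | rfl | ⟨i, hiX, hi, hia, rfl⟩
  · exact Or.inl hxa
  · exact Or.inr (Or.inl hxb)
  · refine Or.inr (Or.inr ⟨x * i * x⁻¹, mul_mem (mul_mem hxX hiX) (inv_mem hxX), hi.conj x, ?_, ?_⟩)
    · rw [mul_smul, mul_smul, inv_smul_eq_iff.mpr hxa.symm, hia, hxa]
    · rw [mul_smul, mul_smul, inv_smul_eq_iff.mpr hxb.symm]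

theorem smul_circ_invol [FaithfulSMul G Ω] (hT : IsTop Ω X) (hB : Below.{u} (Nat.card G)) {a b : Ω}
    (ha : a ∈ centres Ω X) (hb : b ∈ centres Ω X) (hne : b ≠ a) {i : G} (hiX : i ∈ X) (hi : IsInv i)
    (hia : i • a = a) {c : Ω} (hc : c ∈ circ X a b) : i • c ∈ circ X a b := by
  obtain ⟨w, hwX, hw, rfl⟩ := centres_swap hC ha hb hne.symm
  obtain ⟨Q, hS⟩ := hT.setup hC hB ha hwX hw hne
  rw [circ_eq_image hC hT hB ha hwX hw] at hc ⊢
  obtain ⟨c', hc', rfl⟩ := hc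
  exact ⟨_, Ext.circle_invol hS (hT.fourTop hC) (i := img Ω X ⟨i, hiX⟩) (Subtype.ext hia)
    (img_isInv hC hT (x := ⟨i, hiX⟩) hi).2 hc', rfl⟩

theorem circ_swap [FaithfulSMul G Ω] (hT : IsTop Ω X) (hB : Below.{u} (Nat.card G))
    (hq : Nat.card (centres Ω X) ≠ qTop Ω X ^ 2 + 1) {a : Ω} (ha : a ∈ centres Ω X) {w : G} (hwX : w ∈ X)
    (hw : IsInv w) (hwa : w • a ≠ a) {c : Ω} (hc : c ∈ circ X a (w • a)) : w • c ∈ circ X a (w • a) := by
  obtain ⟨Q, hS⟩ := hT.setup hC hB ha hwX hw hwa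
  rw [circ_eq_image hC hT hB ha hwX hw] at hc ⊢
  obtain ⟨c', hc', rfl⟩ := hc
  exact ⟨_, Ext.circle_t hS (rsq_of_card hC hT hB hq ha hS) hc', rfl⟩

theorem smul_circ_invol' [FaithfulSMul G Ω] (hT : IsTop Ω X) (hB : Below.{u} (Nat.card G))
    (hq : Nat.card (centres Ω X) ≠ qTop Ω X ^ 2 + 1) {a b : Ω} (ha : a ∈ centres Ω X) (hb : b ∈ centres Ω X)
    (hne : b ≠ a) {i : G} (hiX : i ∈ X) (hi : IsInv i) (hib : i • b = b) {c : Ω} (hc : c ∈ circ X a b) :
    i • c ∈ circ X a b := by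
  obtain ⟨w, hwX, hw, rfl⟩ := centres_swap hC ha hb hne.symm
  obtain ⟨Q, hS⟩ := hT.setup hC hB ha hwX hw hne
  rw [circ_eq_image hC hT hB ha hwX hw] at hc ⊢
  obtain ⟨c', hc', rfl⟩ := hc
  exact ⟨_, Ext.circle_invol_ta hS (hT.fourTop hC) (rsq_of_card hC hT hB hq ha hS) (i := img Ω X ⟨i, hiX⟩)
    (Subtype.ext hib) (img_isInv hC hT (x := ⟨i, hiX⟩) hi).2 hc', rfl⟩

/-- Every other point of a circle is the centre of a swapper of the two points. -/
theorem circ_centre [FaithfulSMul G Ω] (hT : IsTop Ω X) (hB : Below.{u} (Nat.card G))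
    (hq : Nat.card (centres Ω X) ≠ qTop Ω X ^ 2 + 1) {a b : Ω} (ha : a ∈ centres Ω X) (hb : b ∈ centres Ω X)
    (hne : b ≠ a) {c : Ω} (hc : c ∈ circ X a b) (hca : c ≠ a) (hcb : c ≠ b) :
    ∃ v ∈ X, IsInv v ∧ v • a = b ∧ v • c = c := by
  obtain ⟨w, hwX, hw, rfl⟩ := centres_swap hC ha hb hne.symm
  obtain ⟨Q, hS⟩ := hT.setup hC hB ha hwX hw hne
  rw [circ_eq_image hC hT hB ha hwX hw] at hc
  obtain ⟨c', hc', rfl⟩ := hc
  obtain ⟨k, hk, hkc⟩ := Ext.circle_centre hS (rsq_of_card hC hT hB hq ha hS) hc'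
    (fun e => hca (congrArg Subtype.val e)) (fun e => hcb (by rw [e]; rfl))
  set t := img Ω X ⟨w, hwX⟩
  have htk : IsInv (t * k) := by
    obtain ⟨hkD, hki⟩ := hk
    obtain ⟨hka, hkt⟩ := (CfsgLib.RankOne.mem_D hS).mp hkD
    refine ⟨fun e => CfsgLib.RankOne.ta_ne hS ?_, ?_⟩
    · have h := congrArg (fun z : topGrp Ω X => z • (⟨a, ha⟩ : centres Ω X)) e
      simpa [mul_smul, hka] using h
    · calc t * k * (t * k) = t * k * t⁻¹ * (t * t) * k := by group
        _ = 1 := by rw [hki, hS.mul_self, mul_one, inv_mul_cancel]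
  obtain ⟨v, hv, hve⟩ := exists_inv_lift hC hT htk
  refine ⟨v, v.2, hv, ?_, ?_⟩
  · have := congrArg (fun z : topGrp Ω X => ((z • (⟨a, ha⟩ : centres Ω X) : centres Ω X) : Ω)) hve
    try dsimp only at this
    rw [img_smul] at this
    rw [this, mul_smul, ((CfsgLib.RankOne.mem_D hS).mp hk.1).1]
    rfl
  · have := congrArg (fun z : topGrp Ω X => ((z • c' : centres Ω X) : Ω)) hve
    try dsimp only at this
    rw [img_smul, hkc] at this
    exact this

section Mono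

variable [FaithfulSMul G Ω]

/-- In a larger subgroup the induced involutions at a centre do not become fewer, and if they stay as many every
involution of the larger one acts as one of the smaller. -/
theorem qTop_le (hT : IsTop Ω X) (hT' : IsTop Ω Y) {a : Ω} (ha : a ∈ centres Ω X)
    (hXY : ∀ i ∈ X, IsInv i → i • a = a → i ∈ Y) (hc : centres Ω X ⊆ centres Ω Y) :
    qTop Ω X ≤ qTop Ω Y ∧ (qTop Ω X = qTop Ω Y → ∀ i ∈ Y, IsInv i → i • a = a →
      ∃ j ∈ X, IsInv j ∧ j • a = a ∧ ∀ c ∈ centres Ω Y, i • c = j • c) := by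
  have hO := hT.oneFix hC
  have ha' := hc ha
  have hlift : ∀ y : InvAt (topGrp Ω X) (⟨a, ha⟩ : centres Ω X), ∃ j : X, IsInv (j : G) ∧ img Ω X j = y.1 :=
    fun y => exists_inv_lift hC hT y.2.1
  choose j hj hje using hlift
  have hja : ∀ y, (j y : G) • a = a := fun y => by
    rw [← img_smul (j y) ⟨a, ha⟩, hje y, y.2.2]
  let f : InvAt (topGrp Ω X) (⟨a, ha⟩ : centres Ω X) → InvAt (topGrp Ω Y) (⟨a, ha'⟩ : centres Ω Y) := fun y =>
    ⟨img Ω Y ⟨j y, hXY _ (j y).2 (hj y) (hja y)⟩,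
      img_isInv hC hT' (x := ⟨j y, hXY _ (j y).2 (hj y) (hja y)⟩) (hj y), Subtype.ext (hja y)⟩
  have hf : Function.Injective f := fun y y' h => Subtype.ext (by
    rw [← hje y, ← hje y']
    refine img_eq_of_smul fun c hcX => ?_
    exact smul_of_img_eq (congrArg Subtype.val h) (hc hcX))
  have hqX : qTop Ω X = Nat.card (InvAt (topGrp Ω X) (⟨a, ha⟩ : centres Ω X)) + 1 := by
    rw [← qTop_eq hC hT ha, qZ]
    congr 1
    exact Nat.card_congr (Equiv.subtypeEquivRight fun y =>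
      ⟨fun ⟨h1, h2, h3⟩ => ⟨⟨h2, h3⟩, h1⟩, fun ⟨⟨h2, h3⟩, h1⟩ => ⟨h1, h2, h3⟩⟩)
  have hqY : qTop Ω Y = Nat.card (InvAt (topGrp Ω Y) (⟨a, ha'⟩ : centres Ω Y)) + 1 := by
    rw [← qTop_eq hC hT' ha', qZ]
    congr 1
    exact Nat.card_congr (Equiv.subtypeEquivRight fun y =>
      ⟨fun ⟨h1, h2, h3⟩ => ⟨⟨h2, h3⟩, h1⟩, fun ⟨⟨h2, h3⟩, h1⟩ => ⟨h1, h2, h3⟩⟩)
  refine ⟨?_, fun he i hiY hi hia => ?_⟩
  · rw [hqX, hqY]
    exact Nat.add_le_add_right (Nat.card_le_card_of_injective f hf) 1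
  · have hbij := (Nat.bijective_iff_injective_and_card f).mpr ⟨hf, by omega⟩
    obtain ⟨y, hy⟩ := hbij.2 ⟨img Ω Y ⟨i, hiY⟩, img_isInv hC hT' (x := ⟨i, hiY⟩) hi, Subtype.ext hia⟩
    exact ⟨j y, (j y).2, hj y, hja y, fun c hc' => (smul_of_img_eq (congrArg Subtype.val hy) hc').symm⟩

/-- With equal `q` the circles of the two subgroups agree. -/
theorem circ_eq_of_qTop_eq (hT : IsTop Ω X) (hT' : IsTop Ω Y) {a b : Ω} (ha : a ∈ centres Ω X)
    (hb : b ∈ centres Ω Y) (hXY : ∀ i ∈ X, IsInv i → i • a = a → i ∈ Y) (hc : centres Ω X ⊆ centres Ω Y)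
    (he : qTop Ω X = qTop Ω Y) : circ X a b = circ Y a b := by
  obtain ⟨-, h⟩ := qTop_le hC hT hT' ha hXY hc
  ext c
  constructor
  · rintro (rfl | rfl | ⟨i, hiX, hi, hia, rfl⟩)
    · exact Or.inl rfl
    · exact Or.inr (Or.inl rfl)
    · exact Or.inr (Or.inr ⟨i, hXY i hiX hi hia, hi, hia, rfl⟩)
  · rintro (rfl | rfl | ⟨i, hiY, hi, hia, rfl⟩)
    · exact Or.inl rfl
    · exact Or.inr (Or.inl rfl)
    · obtain ⟨j, hjX, hj, hja, hje⟩ := h he i hiY hi hia
      exact Or.inr (Or.inr ⟨j, hjX, hj, hja, (hje b hb).symm⟩)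

end Mono

/-- Lemma V: the centraliser of a subgroup normalised and not centralised by a four group fixes its centre. -/
theorem lemmaV [FaithfulSMul G Ω] (hB : Below.{u} (Nat.card G)) {B : Subgroup G} {g : Ω} {v w : G}
    (hv : IsInv v) (hvg : v • g = g) (hw : IsInv w) (hne : v ≠ w) (hcom : v * w = w * v)
    (hvn : v ∈ Subgroup.normalizer (B : Set G)) (hwn : w ∈ Subgroup.normalizer (B : Set G))
    (hBg : ∀ x ∈ B, x • g = g) (hnc : ∃ x ∈ B, x * v ≠ v * x) {y : G}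
    (hy : y ∈ Subgroup.centralizer (B : Set G)) : y • g = g := by
  by_contra hyg
  set N := Subgroup.normalizer (B : Set G)
  have hyN : y ∈ N := Subgroup.mem_normalizer_iff.mpr fun x => by
    constructor
    · intro hx
      rwa [← hy x hx, mul_inv_cancel_right]
    · intro hx
      have e : y * x * y⁻¹ = x := by
        have h' := hy _ hx
        calc y * x * y⁻¹ = y⁻¹ * (y * (y * x * y⁻¹)) := by group
          _ = y⁻¹ * (y * x * y⁻¹ * y) := by rw [← h']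
          _ = x := by group
      rwa [e] at hx
  obtain ⟨x0, hx0, hx0v⟩ := hnc
  have hT : IsTop Ω N := by
    refine ⟨fun e => ?_, ⟨v, hvn, w, hwn, hv, hw, hne, hcom⟩,
      ⟨g, y • g, mem_centres hvn hv hvg, centres_smul hyN (mem_centres hvn hv hvg), hyg⟩⟩
    haveI : B.Normal := Subgroup.normalizer_eq_top_iff.mp e
    have hb : B = ⊥ := eq_bot_of_normal hC hBg
    rw [hb, Subgroup.mem_bot] at hx0
    exact hx0v (by rw [hx0, one_mul, mul_one])
  have hCN : Subgroup.centralizer (B : Set G) ⊓ N ≤ N := inf_le_right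
  have hnorm : N ≤ Subgroup.normalizer ((Subgroup.centralizer (B : Set G) ⊓ N : Subgroup G) : Set G) := by
    refine fun n hn => Subgroup.mem_normalizer_iff.mpr fun x => ?_
    rw [Subgroup.mem_inf, Subgroup.mem_inf,
      ← Subgroup.mem_normalizer_iff.mp (Ext.normalizer_le_centralizer hn) x,
      ← Subgroup.mem_normalizer_iff.mp (Subgroup.le_normalizer hn) x]
  have := invol_mem_of_normal hC hT hB hCN hnorm ⟨hy, hyN⟩ (mem_centres hvn hv hvg) hyg hvn hv
  exact hx0v (this.1 x0 hx0)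

section Primes

variable [FaithfulSMul G Ω] (hT : IsTop Ω X) (hB : Below.{u} (Nat.card G)) {l f : ℕ} (hl : l.Prime)
  (hf : qTop Ω X = 2 ^ f) (hlq : l ∣ qTop Ω X - 1) (hlf : ¬ l ∣ f)
include hT hB hl hf hlq hlf

/-- An `l`-element with three fixed centres fixes all centres. -/
theorem fix_all_of_three {x : G} (hxX : x ∈ X) {n : ℕ} (hxl : x ^ l ^ n = 1) {a b c : Ω}
    (ha : a ∈ centres Ω X) (hb : b ∈ centres Ω X) (hc : c ∈ centres Ω X) (hba : b ≠ a) (hca : c ≠ a)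
    (hcb : c ≠ b) (hxa : x • a = a) (hxb : x • b = b) (hxc : x • c = c) {d : Ω} (hd : d ∈ centres Ω X) :
    x • d = d := by
  obtain ⟨w, hwX, hw, rfl⟩ := centres_swap hC ha hb hba.symm
  obtain ⟨Q, hS⟩ := hT.setup hC hB ha hwX hw hba
  by_contra hxd
  have hx1 : img Ω X ⟨x, hxX⟩ ≠ 1 := fun e => hxd (img_eq_one_iff.mp e d hd)
  have hD : img Ω X ⟨x, hxX⟩ ∈ CfsgLib.RankOne.D (⟨a, ha⟩ : centres Ω X) (img Ω X ⟨w, hwX⟩) :=
    (CfsgLib.RankOne.mem_D hS).mpr ⟨Subtype.ext hxa, Subtype.ext hxb⟩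
  rcases Ext.fix_two_only hS (hT.fourTop hC) hl (by rw [qTop_eq hC hT ha, hf]) (by rw [qTop_eq hC hT ha]; exact hlq)
    hlf hD (n := n) (by rw [← map_pow, show (⟨x, hxX⟩ : X) ^ l ^ n = 1 from Subtype.ext hxl, map_one]) hx1
    (c := ⟨c, hc⟩) (Subtype.ext hxc) with h | h
  · exact hca (congrArg Subtype.val h)
  · exact hcb (congrArg Subtype.val h)

/-- An `l`-element commuting with an involution of the subgroup modulo its kernel fixes all centres. -/
theorem fix_all_of_commute {x i : G} (hxX : x ∈ X) {n : ℕ} (hxl : x ^ l ^ n = 1) (hiX : i ∈ X) (hi : IsInv i)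
    (hxi : ∀ c ∈ centres Ω X, x • i • c = i • x • c) {d : Ω} (hd : d ∈ centres Ω X) : x • d = d := by
  obtain ⟨g, c, hg, hc, hne⟩ := hT.two
  obtain ⟨w, hwX, hw, hwg⟩ := centres_swap hC hg hc hne.symm
  obtain ⟨Q, hS⟩ := hT.setup hC hB hg hwX hw (hwg ▸ hne)
  obtain ⟨hI1, hI2⟩ := img_isInv hC hT (x := ⟨i, hiX⟩) hi
  refine img_eq_one_iff.mp (Ext.eq_one_of_commute_invol hS (hT.fourTop hC) hl (by rw [qTop_eq hC hT hg, hf])
    (by rw [qTop_eq hC hT hg]; exact hlq) hlf (n := n)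
    (by rw [← map_pow, show (⟨x, hxX⟩ : X) ^ l ^ n = 1 from Subtype.ext hxl, map_one]) hI1 hI2 ?_) d hd
  rw [← map_mul, ← map_mul]
  exact img_eq_of_smul fun c hc => by
    rw [Subgroup.coe_mul, Subgroup.coe_mul, mul_smul, mul_smul]
    exact hxi c hc

end Primes

end CfsgLib.Bender.B1
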